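/-
helper46: piece FIX of sub-CALL ELP (helper98; stage P of row S5988): the fixed vectors of the
Siegel element `sieg t0` killed by one functional lie in `subU`.
(With self-contained copies of APP at `inl` and of T0KER under the names `fix_app_inl`,
`fix_t0_ker`.)
-/
import Mathlib
import Cfsg.Prelude.Def_GeometricClasses
import Cfsg.Prelude.Def_Classical
import Cfsg.Agent.Helper98.ELPDefs

set_option autoImplicit false

namespace Cfsg.Agent.Helper46.ELP

open Matrix Cfsg.Agent.Helper98.ELP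
open scoped MatrixGroups

variable {n : Type} [Fintype n] [DecidableEq n] {F : Type*} [Field F]

/-- APP at `inl` (self-contained copy). -/
theorem fix_app_inl (T : Matrix n n F) (v : n ⊕ n → F) (i : n) :
    (siegM T *ᵥ v) (.inl i) = v (.inl i) + ((T - Tᵀ) *ᵥ (fun j => v (.inr j))) i := by
  rw [siegM, Matrix.fromBlocks_mulVec, Sum.elim_inl, Pi.add_apply, Matrix.one_mulVec]
  rfl

theorem fix_t0_zero (d : ℕ) (a b : Fin d)
    (h : ¬ ((a : ℕ) < d / 2 ∧ (a : ℕ) + d / 2 = (b : ℕ))) : t0 d F a b = 0 :=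
  if_neg h

theorem fix_t0_one (d : ℕ) (a b : Fin d)
    (h : (a : ℕ) < d / 2 ∧ (a : ℕ) + d / 2 = (b : ℕ)) : t0 d F a b = 1 :=
  if_pos h

/-- T0KER, lower half: `b < d / 2`. -/
theorem fix_t0_ker_lo (d : ℕ) (u : Fin d → F) (h : (t0 d F - (t0 d F)ᵀ) *ᵥ u = 0) (b : Fin d)
    (hbh : (b : ℕ) < d / 2) : u b = 0 := by
  have hd : 2 * (d / 2) ≤ d := Nat.mul_div_le d 2
  have ha : (b : ℕ) + d / 2 < d := by omega
  obtain ⟨a, hav⟩ : ∃ a : Fin d, (a : ℕ) = (b : ℕ) + d / 2 := ⟨⟨_, ha⟩, rfl⟩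
  have h1 : ∑ b', (t0 d F - (t0 d F)ᵀ) a b' * u b' = 0 := congrFun h a
  have hs : ∑ b', (t0 d F - (t0 d F)ᵀ) a b' * u b' = (t0 d F - (t0 d F)ᵀ) a b * u b := by
    apply Finset.sum_eq_single b
    · intro b' _ hb'
      rw [Matrix.sub_apply, Matrix.transpose_apply, fix_t0_zero d a b' (by omega),
        fix_t0_zero d b' a (fun hc => hb' (Fin.ext (by omega))), sub_zero, zero_mul]
    · intro hnm
      exact absurd (Finset.mem_univ b) hnm
  rw [hs, Matrix.sub_apply, Matrix.transpose_apply, fix_t0_zero d a b (by omega),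
    fix_t0_one d b a ⟨hbh, by omega⟩, zero_sub, neg_one_mul, neg_eq_zero] at h1
  exact h1

/-- T0KER, upper half: `d / 2 ≤ b < 2 (d / 2)`. -/
theorem fix_t0_ker_hi (d : ℕ) (u : Fin d → F) (h : (t0 d F - (t0 d F)ᵀ) *ᵥ u = 0) (b : Fin d)
    (hbh : d / 2 ≤ (b : ℕ)) (hb : (b : ℕ) < 2 * (d / 2)) : u b = 0 := by
  have ha : (b : ℕ) - d / 2 < d := by omega
  obtain ⟨a, hav⟩ : ∃ a : Fin d, (a : ℕ) = (b : ℕ) - d / 2 := ⟨⟨_, ha⟩, rfl⟩
  have h1 : ∑ b', (t0 d F - (t0 d F)ᵀ) a b' * u b' = 0 := congrFun h a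
  have hs : ∑ b', (t0 d F - (t0 d F)ᵀ) a b' * u b' = (t0 d F - (t0 d F)ᵀ) a b * u b := by
    apply Finset.sum_eq_single b
    · intro b' _ hb'
      rw [Matrix.sub_apply, Matrix.transpose_apply,
        fix_t0_zero d a b' (fun hc => hb' (Fin.ext (by omega))),
        fix_t0_zero d b' a (by omega), sub_zero, zero_mul]
    · intro hnm
      exact absurd (Finset.mem_univ b) hnm
  rw [hs, Matrix.sub_apply, Matrix.transpose_apply, fix_t0_one d a b ⟨by omega, by omega⟩,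
    fix_t0_zero d b a (by omega), sub_zero, one_mul] at h1
  exact h1

/-- T0KER (self-contained copy). -/
theorem fix_t0_ker (d : ℕ) (u : Fin d → F) (h : (t0 d F - (t0 d F)ᵀ) *ᵥ u = 0) (b : Fin d)
    (hb : (b : ℕ) < 2 * (d / 2)) : u b = 0 := by
  by_cases hbh : (b : ℕ) < d / 2
  · exact fix_t0_ker_lo d u h b hbh
  · exact fix_t0_ker_hi d u h b (not_lt.1 hbh) hb

/-- The functional `v ↦ v (inr b)` for the index `b = 2 (d / 2)` (zero if there is none). -/
noncomputable def fixPhi (d : ℕ) (F : Type*) [Field F] : (Fin d ⊕ Fin d → F) →ₗ[F] F :=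
  ∑ b : Fin d, if (b : ℕ) = 2 * (d / 2) then
    (LinearMap.proj (Sum.inr b) : (Fin d ⊕ Fin d → F) →ₗ[F] F) else 0

theorem fixPhi_apply (d : ℕ) (v : Fin d ⊕ Fin d → F) (b : Fin d) (hb : (b : ℕ) = 2 * (d / 2)) :
    fixPhi d F v = v (.inr b) := by
  rw [fixPhi, LinearMap.sum_apply, Finset.sum_eq_single b]
  · rw [if_pos hb]
    rfl
  · intro b' _ hb'
    rw [if_neg (fun hc => hb' (Fin.ext (by omega)))]
    rfl
  · intro hnm
    exact absurd (Finset.mem_univ b) hnm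

/-- FIX [S-M]. -/
theorem t0_fix (d : ℕ) : ∃ φ : (Fin d ⊕ Fin d → F) →ₗ[F] F, ∀ v : Fin d ⊕ Fin d → F,
    siegM (t0 d F) *ᵥ v = v → φ v = 0 → v ∈ subU (Fin d) F := by
  refine ⟨fixPhi d F, fun v hfix hφ => ?_⟩
  rw [mem_subU]
  have hker : (t0 d F - (t0 d F)ᵀ) *ᵥ (fun j => v (.inr j)) = 0 := by
    funext i
    have h1 := fix_app_inl (t0 d F) v i
    rw [hfix] at h1
    have h2 : ((t0 d F - (t0 d F)ᵀ) *ᵥ fun j => v (.inr j)) i = 0 := by
      have h3 := congrArg (fun z => z - v (.inl i)) h1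
      simpa using h3.symm
    exact h2
  intro j
  by_cases hj : (j : ℕ) < 2 * (d / 2)
  · exact fix_t0_ker d (fun j => v (.inr j)) hker j hj
  · have hj2 : (j : ℕ) = 2 * (d / 2) := by
      have := j.2
      omega
    rw [← fixPhi_apply d v j hj2]
    exact hφ

end Cfsg.Agent.Helper46.ELP
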