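import Mathlib
import Cfsg.Prelude.Def_Characters
import Cfsg.Prelude.Def_Blocks
import Cfsg.Agent.Helper75.LatDefs

/-!
# Piece P5 (CYCLO) of CALL S4441 (helper75): Galois automorphisms fixing the `M₀`-th roots of
unity act trivially modulo a prime ideal above `p` on the integers of the `n`-th cyclotomic
field, `n ∣ p ^ k * M₀`.
-/

set_option autoImplicit false
open Cfsg Matrix
universe u

namespace Cfsg.Agent.Helper46

open Polynomial

/-- If `p ∈ M`, `M` prime, and `a ^ (p ^ k) = b ^ (p ^ k)` then `a - b ∈ M`. -/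
theorem sub_mem_of_pow_char_pow_eq {R : Type*} [CommRing R] (p : ℕ) [Fact p.Prime]
    (M : Ideal R) (hMp : M.IsPrime) (hpM : (p : R) ∈ M) (k : ℕ) (a b : R)
    (h : a ^ p ^ k = b ^ p ^ k) : a - b ∈ M := by
  have hp : p.Prime := Fact.out
  have hnt : Nontrivial (R ⧸ M) := Ideal.Quotient.nontrivial_iff.mpr hMp.ne_top
  have hp0 : ((p : ℕ) : R ⧸ M) = 0 := by
    have h0 : (Ideal.Quotient.mk M) (p : R) = 0 := Ideal.Quotient.eq_zero_iff_mem.mpr hpM
    simpa using h0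
  have hchar : CharP (R ⧸ M) p := (CharP.charP_iff_prime_eq_zero hp).mpr hp0
  have hdom : IsDomain (R ⧸ M) := Ideal.Quotient.isDomain M
  have h1 : (Ideal.Quotient.mk M a - Ideal.Quotient.mk M b) ^ p ^ k = 0 := by
    rw [sub_pow_char_pow, ← map_pow, ← map_pow, h, sub_self]
  have h2 : Ideal.Quotient.mk M a - Ideal.Quotient.mk M b = 0 :=
    eq_zero_of_pow_eq_zero h1
  rw [← map_sub, Ideal.Quotient.eq_zero_iff_mem] at h2
  exact h2

theorem lat_cyclo (p : ℕ) [Fact p.Prime] (M : Ideal Cfsg.AlgInt) (hMp : M.IsPrime)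
    (hpM : (p : Cfsg.AlgInt) ∈ M) (M₀ n k : ℕ) (hM₀ : ¬ p ∣ M₀) (hn0 : n ≠ 0)
    (hn : n ∣ p ^ k * M₀) (τ : ℂ ≃+* ℂ) (hτ : ∀ w : ℂ, w ^ M₀ = 1 → τ w = w)
    (c : ℂ) (hc : c ∈ Cfsg.Agent.Helper75.cycField n) (hint : IsIntegral ℤ c) :
    ∃ μ : Cfsg.AlgInt, μ ∈ M ∧ (μ : ℂ) = τ c - c := by
  have hne : NeZero n := ⟨hn0⟩
  have hcyc := Helper75.isCyclotomicExtension_cycField n hn0
  obtain ⟨ζ₀, hζ₀⟩ : ∃ ζ₀ : ℂ, IsPrimitiveRoot ζ₀ n := ⟨_, Complex.isPrimitiveRoot_exp n hn0⟩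
  have hζmem : ζ₀ ∈ Helper75.cycField n :=
    Helper75.mem_cycField_of_pow_eq_one n hn0 hζ₀.pow_eq_one
  have hζK : IsPrimitiveRoot (⟨ζ₀, hζmem⟩ : Helper75.cycField n) n := by
    have hinj : Function.Injective (algebraMap (Helper75.cycField n) ℂ) :=
      (algebraMap (Helper75.cycField n) ℂ).injective
    have h0 : IsPrimitiveRoot (algebraMap (Helper75.cycField n) ℂ ⟨ζ₀, hζmem⟩) n := hζ₀
    exact IsPrimitiveRoot.of_map_of_injective h0 hinj
  have hic := IsCyclotomicExtension.Rat.isIntegralClosure_adjoin_singleton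
    (K := Helper75.cycField n) hζK
  have hintK : IsIntegral ℤ (⟨c, hc⟩ : Helper75.cycField n) := by
    have h1 : IsIntegral ℤ (algebraMap (Helper75.cycField n) ℂ ⟨c, hc⟩) := hint
    exact (isIntegral_algebraMap_iff (algebraMap (Helper75.cycField n) ℂ).injective).mp h1
  obtain ⟨y, hy⟩ := hic.isIntegral_iff.mp hintK
  obtain ⟨f, hf⟩ : ∃ f : ℤ[X], aeval (⟨ζ₀, hζmem⟩ : Helper75.cycField n) f
      = (y : Helper75.cycField n) := by
    have h1 : (y : Helper75.cycField n) ∈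
        (Algebra.adjoin ℤ {(⟨ζ₀, hζmem⟩ : Helper75.cycField n)}) := y.2
    have h2 : (y : Helper75.cycField n) ∈
        (aeval (R := ℤ) (⟨ζ₀, hζmem⟩ : Helper75.cycField n)).range := by
      rw [← Algebra.adjoin_singleton_eq_range_aeval]
      exact h1
    exact h2
  have hcf : c = aeval ζ₀ f := by
    have h1 : algebraMap (Helper75.cycField n) ℂ (aeval (⟨ζ₀, hζmem⟩ : Helper75.cycField n) f)
        = aeval ζ₀ f := by
      rw [← Polynomial.aeval_algebraMap_apply]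
      rfl
    rw [← h1, hf]
    have h2 := congrArg (algebraMap (Helper75.cycField n) ℂ) hy
    exact h2.symm
  have hτf : τ c = aeval (τ ζ₀) f := by
    rw [hcf]
    exact (Polynomial.aeval_algHom_apply (τ : ℂ →+* ℂ).toIntAlgHom ζ₀ f).symm
  have hζint : IsIntegral ℤ ζ₀ := hζ₀.isIntegral (Nat.pos_of_ne_zero hn0)
  have hτζ : IsPrimitiveRoot (τ ζ₀) n := hζ₀.map_of_injective τ.injective
  have hτζint : IsIntegral ℤ (τ ζ₀) := hτζ.isIntegral (Nat.pos_of_ne_zero hn0)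
  let ζA : Cfsg.AlgInt := ⟨ζ₀, hζint⟩
  let ηA : Cfsg.AlgInt := ⟨τ ζ₀, hτζint⟩
  have hpow : ηA ^ p ^ k = ζA ^ p ^ k := by
    apply Subtype.ext
    simp only [SubmonoidClass.coe_pow]
    show (τ ζ₀) ^ p ^ k = ζ₀ ^ p ^ k
    rw [← map_pow]
    apply hτ
    rw [← pow_mul]
    obtain ⟨d, hd⟩ := hn
    rw [hd, pow_mul, hζ₀.pow_eq_one, one_pow]
  have hsub : ηA - ζA ∈ M := sub_mem_of_pow_char_pow_eq p M hMp hpM k ηA ζA hpow
  refine ⟨aeval ηA f - aeval ζA f, ?_, ?_⟩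
  · have h1 : ηA - ζA ∣ (f.map (algebraMap ℤ Cfsg.AlgInt)).eval ηA
        - (f.map (algebraMap ℤ Cfsg.AlgInt)).eval ζA := Polynomial.sub_dvd_eval_sub _ _ _
    rw [Polynomial.eval_map_algebraMap, Polynomial.eval_map_algebraMap] at h1
    exact Ideal.mem_of_dvd M h1 hsub
  · rw [hτf, hcf]
    simp only [AddSubgroupClass.coe_sub]
    rw [Polynomial.aeval_subalgebra_coe, Polynomial.aeval_subalgebra_coe]

end Cfsg.Agent.Helper46
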