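import Mathlib
import Cfsg.Agent.Helper77.D1Defs2
import Cfsg.Agent.Helper74.D1IB
import Cfsg.Agent.Helper75.LatGroup
import Cfsg.Agent.Helper75.Galois
import Cfsg.Agent.Helper80.CharIrr
import Cfsg.Agent.Helper81.BlockNormal

/-!
# Helper46: piece FQ2 of CALL S4442FB (`d1fb_theta_set`)

The set `Θ` of all Galois conjugates of the `N`-conjugates of `θ` and the set `Orb` of the
`N`-conjugates of `θ` (`N` the normaliser of `⟨x⟩`).
-/

universe u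
set_option autoImplicit false
open Cfsg Cfsg.Agent.Helper77
open scoped ComplexConjugate

namespace Cfsg.Agent.Helper46

variable {G : Type u} [Group G] [Finite G]

/-- the conjugate of an irreducible character of `K` by an element normalising `⟨x⟩` -/
theorem d1fq_conj_exists (p : ℕ) [Fact p.Prime] (x : G) (K : Subgroup G) (h : D1Hyp p x K)
    (n : G) (hn : n ∈ Subgroup.normalizer ((Subgroup.zpowers x : Subgroup G) : Set G))
    (θ₁ : Cfsg.IrrCharacter K) :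
    ∃ θ₂ : Cfsg.IrrCharacter K, thetaConj K n (θ₁ : K → ℂ) (θ₂ : K → ℂ) := by
  have hK : ∀ r : G, r ∈ Subgroup.normalizer ((Subgroup.zpowers x : Subgroup G) : Set G) →
      ∀ k : G, k ∈ K → r * k * r⁻¹ ∈ K :=
    fun r hr k hk => Helper75.lat_K_normal p x h.hx K h.hK h.hC r hr k hk
  have hinv : ∀ k : G, k ∈ K → n⁻¹ * k * n ∈ K := by
    intro k hk
    have := hK n⁻¹ (inv_mem hn) k hk
    rw [inv_inv] at this
    exact this
  let α : K ≃* K :=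
    { toFun := fun k => ⟨n * (k : G) * n⁻¹, hK n hn k k.2⟩
      invFun := fun k => ⟨n⁻¹ * (k : G) * n, hinv k k.2⟩
      left_inv := by
        intro k
        apply Subtype.ext
        show n⁻¹ * (n * (k : G) * n⁻¹) * n = k
        group
      right_inv := by
        intro k
        apply Subtype.ext
        show n * (n⁻¹ * (k : G) * n) * n⁻¹ = k
        group
      map_mul' := by
        intro k k'
        apply Subtype.ext
        show n * ((k : G) * (k' : G)) * n⁻¹ = n * (k : G) * n⁻¹ * (n * (k' : G) * n⁻¹)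
        group }
  refine ⟨⟨fun k => (θ₁ : K → ℂ) (α.symm k), Helper81.isIrrCharacter_comp_mulEquiv α.symm θ₁.2⟩, ?_⟩
  intro k k' hk'
  show (θ₁ : K → ℂ) (α.symm k') = (θ₁ : K → ℂ) k
  have e : α.symm k' = k := by
    apply Subtype.ext
    show n⁻¹ * (k' : G) * n = k
    rw [hk']
    group
  rw [e]

/-- PIECE FQ2 -/
theorem d1fb_theta_set (p : ℕ) [Fact p.Prime] (x : G) (K : Subgroup G) (h : D1Hyp p x K)
    (θ : Cfsg.IrrCharacter K) :
    ∃ Θ Orb : Finset (Cfsg.IrrCharacter K),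
      (∀ θ' : Cfsg.IrrCharacter K, θ' ∈ Orb ↔
        ∃ n : G, n * x * n⁻¹ ∈ Subgroup.zpowers x ∧ thetaConj K n (θ : K → ℂ) (θ' : K → ℂ)) ∧
      Orb ⊆ Θ ∧
      (∀ θ' ∈ Θ, ∃ (σ : ℂ ≃+* ℂ) (n₁ : G) (θ₁ : Cfsg.IrrCharacter K),
        n₁ ∈ Subgroup.normalizer ((Subgroup.zpowers x : Subgroup G) : Set G) ∧
        thetaConj K n₁ (θ : K → ℂ) (θ₁ : K → ℂ) ∧
        ∀ k : K, (θ' : K → ℂ) k = σ ((θ₁ : K → ℂ) k)) ∧
      (∀ θ' ∈ Θ, ∀ σ : ℂ ≃+* ℂ, ∃ θ'' ∈ Θ, ∀ k : K, (θ'' : K → ℂ) k = σ ((θ' : K → ℂ) k)) ∧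
      (∀ θ' ∈ Θ, ∀ n ∈ Subgroup.normalizer ((Subgroup.zpowers x : Subgroup G) : Set G),
        ∃ θ'' ∈ Θ, ∀ k k' : K, (k' : G) = n * (k : G) * n⁻¹ →
          (θ'' : K → ℂ) k' = (θ' : K → ℂ) k) := by
  classical
  have hfin : Finite (Cfsg.IrrCharacter K) := Helper80.irr_finite
  have hft : Fintype (Cfsg.IrrCharacter K) := Fintype.ofFinite _
  have hp : p.Prime := Fact.out
  refine ⟨Finset.univ.filter (fun θ' : Cfsg.IrrCharacter K =>
      ∃ (σ : ℂ ≃+* ℂ) (n₁ : G) (θ₁ : Cfsg.IrrCharacter K),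
        n₁ ∈ Subgroup.normalizer ((Subgroup.zpowers x : Subgroup G) : Set G) ∧
        thetaConj K n₁ (θ : K → ℂ) (θ₁ : K → ℂ) ∧
        ∀ k : K, (θ' : K → ℂ) k = σ ((θ₁ : K → ℂ) k)),
    Finset.univ.filter (fun θ' : Cfsg.IrrCharacter K =>
      ∃ n : G, n * x * n⁻¹ ∈ Subgroup.zpowers x ∧ thetaConj K n (θ : K → ℂ) (θ' : K → ℂ)),
    ?_, ?_, ?_, ?_, ?_⟩
  · intro θ'
    rw [Finset.mem_filter]
    exact ⟨fun h1 => h1.2, fun h1 => ⟨Finset.mem_univ _, h1⟩⟩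
  · intro θ' hθ'
    rw [Finset.mem_filter] at hθ' ⊢
    obtain ⟨-, n, hn, hc⟩ := hθ'
    refine ⟨Finset.mem_univ _, RingEquiv.refl ℂ, n, θ', ?_, hc, fun k => rfl⟩
    have hfo : IsOfFinOrder x := isOfFinOrder_of_finite x
    rw [← mem_powers_iff_mem_zpowers, Submonoid.mem_powers_iff] at hn
    obtain ⟨i', hi'⟩ := hn
    apply Helper74.d1ib_norm p x h.hx 1 i' (fun h1 => hp.one_lt.ne' (Nat.dvd_one.mp h1)) n
    rw [pow_one]
    exact hi'.symm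
  · intro θ' hθ'
    rw [Finset.mem_filter] at hθ'
    exact hθ'.2
  · intro θ' hθ' σ
    rw [Finset.mem_filter] at hθ'
    obtain ⟨-, σ₀, n₁, θ₁, hn₁, hc, hv⟩ := hθ'
    refine ⟨⟨fun k => σ ((θ' : K → ℂ) k), Helper75.isIrrCharacter_ringEquiv σ θ'.2⟩, ?_,
      fun k => rfl⟩
    rw [Finset.mem_filter]
    refine ⟨Finset.mem_univ _, σ₀.trans σ, n₁, θ₁, hn₁, hc, fun k => ?_⟩
    show σ ((θ' : K → ℂ) k) = (σ₀.trans σ) ((θ₁ : K → ℂ) k)
    rw [hv k, RingEquiv.trans_apply]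
  · intro θ' hθ' n hn
    rw [Finset.mem_filter] at hθ'
    obtain ⟨-, σ₀, n₁, θ₁, hn₁, hc, hv⟩ := hθ'
    obtain ⟨θ₂, hθ₂⟩ := d1fq_conj_exists p x K h n hn θ₁
    refine ⟨⟨fun k => σ₀ ((θ₂ : K → ℂ) k), Helper75.isIrrCharacter_ringEquiv σ₀ θ₂.2⟩, ?_, ?_⟩
    · rw [Finset.mem_filter]
      refine ⟨Finset.mem_univ _, σ₀, n * n₁, θ₂, mul_mem hn hn₁, ?_, fun k => rfl⟩
      intro k k' hk'
      have hk₁ : n₁ * (k : G) * n₁⁻¹ ∈ K :=
        Helper75.lat_K_normal p x h.hx K h.hK h.hC n₁ hn₁ k k.2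
      have e1 : (θ₁ : K → ℂ) ⟨n₁ * (k : G) * n₁⁻¹, hk₁⟩ = (θ : K → ℂ) k := hc k ⟨_, hk₁⟩ rfl
      rw [← e1]
      apply hθ₂
      show (k' : G) = n * (n₁ * (k : G) * n₁⁻¹) * n⁻¹
      rw [hk']
      group
    · intro k k' hk'
      show σ₀ ((θ₂ : K → ℂ) k') = (θ' : K → ℂ) k
      rw [hv k, hθ₂ k k' hk']

end Cfsg.Agent.Helper46
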