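/-
helper46: piece FL1 of CALL BG17 (helper25): no non-identity element of `K` centralizes `M_σ`.
-/
import Cfsg.Agent.S1354
import Cfsg.Agent.S1430
import Cfsg.Agent.S1431

set_option autoImplicit false

namespace Cfsg.Agent.Helper46

open Cfsg Subgroup

universe u

variable {G : Type u} [Group G] [Finite G]

/-- A nontrivial subgroup of a finite group has a prime divisor of its order. -/
theorem bg17_exists_prime_dvd_card {A : Subgroup G} (hA : A ≠ ⊥) :
    ∃ p : ℕ, p.Prime ∧ p ∣ Nat.card A := by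
  apply Nat.exists_prime_and_dvd
  intro h1
  exact hA (Subgroup.card_eq_one.1 h1)

/-- FL1. No non-identity element of `K` centralizes `M_σ`. -/
theorem bg17_K_not_cent (hG : IsMinSimpleOddOrder G) {M K : Subgroup G} (hM : IsCoatom M)
    (hKc : IsCyclic K) (hK : IsPiHallOf (kappa M) K M) {k : G} (hk : k ∈ K) (hk1 : k ≠ 1) :
    ¬ sigmaCore M ≤ centralizer ({k} : Set G) := by
  intro hle
  have hK1 : K ≠ ⊥ := fun h0 => hk1 (by
    rw [h0] at hk
    exact Subgroup.mem_bot.1 hk)
  have h30 := (Cfsg.Agent.S1430.result hG M hM K hK hK1).1 k hk hk1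
  rw [inf_eq_left.2 hle] at h30
  have h54 := (Cfsg.Agent.S1354.result hG M hM K hKc hK).1
  have h31 := (Cfsg.Agent.S1431.result hG M hM K hK hK1).2.2.1
  rw [← h30] at h31 h54
  obtain ⟨p, hp, hpd⟩ := bg17_exists_prime_dvd_card h54
  haveI := Fact.mk hp
  obtain ⟨S⟩ : Nonempty (Sylow p ↥(sigmaCore M)) := inferInstance
  exact (h31 p hp hpd S).2.2 (Subgroup.map_subtype_le _)

end Cfsg.Agent.Helper46
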