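/-
helper46: piece SN13 of CALL BG17 (helper25): the easy clauses of
`IsSelfNormalizingCyclic K K*`.
-/
import Cfsg.Agent.Helper49.BG14U
import Cfsg.Agent.S1354
import Cfsg.Agent.S1366
import Cfsg.Agent.S1368

set_option autoImplicit false

namespace Cfsg.Agent.Helper46

open Cfsg Subgroup

universe u

variable {G : Type u} [Group G] [Finite G]

/-- Elements of a cyclic subgroup commute. -/
theorem bg17_cyclic_comm {C : Subgroup G} (hC : IsCyclic C) :
    ∀ a ∈ C, ∀ b ∈ C, a * b = b * a := by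
  intro a ha b hb
  have h : (⟨a, ha⟩ : C) * ⟨b, hb⟩ = ⟨b, hb⟩ * ⟨a, ha⟩ := by
    let _i := IsCyclic.commGroup (α := C)
    exact mul_comm _ _
  exact congrArg Subtype.val h

/-- A commutative subgroup normalizes each of its subsets. -/
theorem bg17_comm_le_normalizer {C : Subgroup G} (hC : ∀ a ∈ C, ∀ b ∈ C, a * b = b * a)
    (X : Set G) (hX : X ⊆ (↑C : Set G)) : C ≤ normalizer X := by
  intro g hg
  rw [Subgroup.mem_set_normalizer_iff]
  intro x
  constructor
  · intro hx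
    have h1 := hC g hg x (hX hx)
    have h2 : g * x * g⁻¹ = x := by
      rw [h1]
      group
    rw [h2]
    exact hx
  · intro hx
    have h0 : g * x * g⁻¹ ∈ C := hX hx
    have hxC : x ∈ C := by
      have h3 := C.mul_mem (C.mul_mem (C.inv_mem hg) h0) hg
      have e : g⁻¹ * (g * x * g⁻¹) * g = x := by group
      rwa [e] at h3
    have h1 := hC g hg x hxC
    have h2 : g * x * g⁻¹ = x := by
      rw [h1]
      group
    rwa [h2] at hx

/-- SN13. The easy clauses of `IsSelfNormalizingCyclic K K*`. -/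
theorem bg17_snc_basic (hG : IsMinSimpleOddOrder G) {M K U : Subgroup G} (hM : IsCoatom M)
    (hKU : IsSigmaDecomposition M K U) (hK1 : K ≠ ⊥) :
    sigmaCore M ⊓ centralizer (K : Set G) ≠ ⊥ ∧
      K ⊓ (sigmaCore M ⊓ centralizer (K : Set G)) = ⊥ ∧
      (∀ a ∈ K, ∀ b ∈ sigmaCore M ⊓ centralizer (K : Set G), a * b = b * a) ∧
      IsCyclic ↥(K ⊔ (sigmaCore M ⊓ centralizer (K : Set G))) ∧
      ∀ X : Set G, X ⊆ (↑(K ⊔ (sigmaCore M ⊓ centralizer (K : Set G))) : Set G) →
        K ⊔ (sigmaCore M ⊓ centralizer (K : Set G)) ≤ normalizer X := by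
  have h54 := (Cfsg.Agent.S1354.result hG M hM K hKU.cyclic hKU.hall).1
  obtain ⟨Mstar, ⟨hMs, hKst, hKstH⟩, -⟩ := Cfsg.Agent.S1366.result hG M hM K U hKU hK1
  have hcyc := (Cfsg.Agent.S1368.result hG M hM K U hKU hK1 Mstar hMs hKst hKstH).2
  refine ⟨h54, ?_, ?_, hcyc, fun X hX => bg17_comm_le_normalizer (bg17_cyclic_comm hcyc) X hX⟩
  · have h1 := Cfsg.Agent.Helper49.bg14u_kappa_inf_sigma hKU.hall.2.1
    rw [eq_bot_iff] at h1 ⊢
    exact (inf_le_inf_left K inf_le_left).trans h1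
  · intro a ha b hb
    exact (Subgroup.mem_centralizer_iff.1 hb.2) a ha

end Cfsg.Agent.Helper46
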