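import Mathlib

/-!
Piece WC of CALL S5289 (helper87): coordinates in an extraspecial-like subgroup `W`
of a group of rank `≤ 2`.
-/

open scoped commutatorElement

namespace Cfsg.Agent.Helper46

/-- A set of pairwise commuting elements generates a subgroup whose elements commute. -/
theorem r2wc_closure_comm {G : Type*} [Group G] (S : Set G)
    (hS : ∀ a ∈ S, ∀ b ∈ S, a * b = b * a) :
    ∀ a ∈ Subgroup.closure S, ∀ b ∈ Subgroup.closure S, a * b = b * a := by
  have h1 : Subgroup.closure S ≤ Subgroup.centralizer S := by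
    rw [Subgroup.closure_le]
    intro x hx
    rw [SetLike.mem_coe, Subgroup.mem_centralizer_iff]
    intro y hy
    exact hS y hy x hx
  have h2 : Subgroup.closure S ≤ Subgroup.centralizer (Subgroup.closure S : Set G) := by
    rw [Subgroup.closure_le]
    intro x hx
    rw [SetLike.mem_coe, Subgroup.mem_centralizer_iff]
    intro y hy
    have := h1 hy
    rw [Subgroup.mem_centralizer_iff] at this
    exact (this x hx).symm
  intro a ha b hb
  have := h2 ha
  rw [Subgroup.mem_centralizer_iff] at this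
  exact (this b hb).symm

theorem r2_w_coord {p : ℕ} [Fact p.Prime] {G : Type*} [Group G] [Finite G]
    (hrank : ∀ H : Subgroup G, (∀ a ∈ H, ∀ b ∈ H, a * b = b * a) → (∀ a ∈ H, a ^ p = 1) →
      Nat.card H ≤ p ^ 2)
    (Z₀ W : Subgroup G) (hZ₀card : Nat.card Z₀ = p) (hZ₀W : Z₀ ≤ W) (hWexp : ∀ w ∈ W, w ^ p = 1)
    (hWcomm : ∀ w ∈ W, ∀ w' ∈ W, ⁅w, w'⁆ ∈ Z₀) (hZ₀c : ∀ c ∈ Z₀, ∀ w ∈ W, c * w = w * c)
    (l l' : G) (hl : l ∈ W) (hl' : l' ∈ W) (hne : ⁅l, l'⁆ ≠ 1) :
    ∀ w ∈ W, ∃ i j : ℕ, ∃ c ∈ Z₀, w = l ^ i * l' ^ j * c := by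
  have hp : p.Prime := Fact.out
  -- z₁ generates Z₀
  have hz₁ : ⁅l', l⁆ ∈ Z₀ := hWcomm l' hl' l hl
  have hz₁ne : ⁅l', l⁆ ≠ 1 := by
    intro h
    apply hne
    rw [← commutatorElement_inv, h, inv_one]
  have hgen : ∀ c ∈ Z₀, ∃ a : ℕ, c = ⁅l', l⁆ ^ a := by
    intro c hc
    have hne' : (⟨⁅l', l⁆, hz₁⟩ : Z₀) ≠ 1 := by
      intro h
      exact hz₁ne (congrArg Subtype.val h)
    have htop := zpowers_eq_top_of_prime_card (G := Z₀) hZ₀card hne'
    have hmem : (⟨c, hc⟩ : Z₀) ∈ Subgroup.zpowers (⟨⁅l', l⁆, hz₁⟩ : Z₀) := by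
      rw [htop]; exact Subgroup.mem_top _
    have hfin : IsOfFinOrder (⟨⁅l', l⁆, hz₁⟩ : Z₀) := by
      have : Finite Z₀ := Nat.finite_of_card_ne_zero (by rw [hZ₀card]; exact hp.ne_zero)
      exact isOfFinOrder_of_finite _
    rw [← hfin.mem_powers_iff_mem_zpowers] at hmem
    obtain ⟨a, ha⟩ := hmem
    refine ⟨a, ?_⟩
    have := congrArg Subtype.val ha
    simpa using this.symm
  -- l ∉ Z₀
  have hlZ : l ∉ Z₀ := by
    intro h
    apply hne
    rw [commutatorElement_eq_one_iff_commute]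
    exact hZ₀c l h l' hl'
  intro w hw
  obtain ⟨a, ha⟩ := hgen ⁅w, l⁆ (hWcomm w hw l hl)
  -- ⁅l'^a, l⁆ = ⁅l', l⁆^a
  have hpowa : ⁅l' ^ a, l⁆ = ⁅l', l⁆ ^ a := by
    have hc : Commute ⁅l', l⁆ l' := hZ₀c _ hz₁ l' hl'
    clear ha
    induction a with
    | zero => simp
    | succ n ih =>
      have hcn : Commute ⁅l', l⁆ (l' ^ n) := hc.pow_right n
      have e1 : ⁅l' ^ (n + 1), l⁆ = l' ^ n * ⁅l', l⁆ * (l' ^ n)⁻¹ * ⁅l' ^ n, l⁆ := by
        rw [pow_succ]
        simp only [commutatorElement_def]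
        group
      rw [e1, ih, ← hcn.eq, mul_inv_cancel_right, pow_succ']
  -- w₁ commutes with l
  have hw₁W : (l' ^ a)⁻¹ * w ∈ W := W.mul_mem (W.inv_mem (W.pow_mem hl' a)) hw
  have hw₁l : (l' ^ a)⁻¹ * w * l = l * ((l' ^ a)⁻¹ * w) := by
    have h1 : ⁅w, l⁆ = ⁅l' ^ a, l⁆ := by rw [ha, hpowa]
    simp only [commutatorElement_def] at h1
    have h2 : w * l * w⁻¹ = l' ^ a * l * (l' ^ a)⁻¹ := by
      have := congrArg (· * l) h1
      simpa using this
    have h3 : w * l = l' ^ a * l * (l' ^ a)⁻¹ * w := by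
      rw [← h2]; group
    calc (l' ^ a)⁻¹ * w * l = (l' ^ a)⁻¹ * (w * l) := by group
      _ = (l' ^ a)⁻¹ * (l' ^ a * l * (l' ^ a)⁻¹ * w) := by rw [h3]
      _ = l * ((l' ^ a)⁻¹ * w) := by group
  -- the subgroups K ≤ H
  have hHcomm := r2wc_closure_comm (({l, (l' ^ a)⁻¹ * w} : Set G) ∪ (Z₀ : Set G)) (by
    intro x hx y hy
    rcases hx with hx | hx
    · rcases hy with hy | hy
      · rcases hx with rfl | rfl
        · rcases hy with rfl | rfl
          · rfl
          · exact hw₁l.symm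
        · rcases hy with rfl | rfl
          · exact hw₁l
          · rfl
      · have hxW : x ∈ W := by
          rcases hx with rfl | rfl
          · exact hl
          · exact hw₁W
        exact (hZ₀c y hy x hxW).symm
    · have hyW : y ∈ W := by
        rcases hy with hy | hy
        · rcases hy with rfl | rfl
          · exact hl
          · exact hw₁W
        · exact hZ₀W hy
      exact hZ₀c x hx y hyW)
  have hHW : Subgroup.closure (({l, (l' ^ a)⁻¹ * w} : Set G) ∪ (Z₀ : Set G)) ≤ W := by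
    rw [Subgroup.closure_le]
    intro x hx
    rcases hx with hx | hx
    · rcases hx with rfl | rfl
      · exact hl
      · exact hw₁W
    · exact hZ₀W hx
  have hHcard := hrank _ hHcomm (fun x hx => hWexp x (hHW hx))
  have hKH : Subgroup.closure (({l} : Set G) ∪ (Z₀ : Set G)) ≤
      Subgroup.closure (({l, (l' ^ a)⁻¹ * w} : Set G) ∪ (Z₀ : Set G)) := by
    apply Subgroup.closure_mono
    intro x hx
    rcases hx with hx | hx
    · left; left; exact hx
    · right; exact hx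
  have hZK : Z₀ ≤ Subgroup.closure (({l} : Set G) ∪ (Z₀ : Set G)) := by
    intro x hx
    exact Subgroup.subset_closure (Or.inr hx)
  have hlK : l ∈ Subgroup.closure (({l} : Set G) ∪ (Z₀ : Set G)) :=
    Subgroup.subset_closure (Or.inl rfl)
  have hKp : IsPGroup p (Subgroup.closure (({l} : Set G) ∪ (Z₀ : Set G))) := by
    intro x
    refine ⟨1, ?_⟩
    rw [pow_one]
    apply Subtype.ext
    have := hWexp x (hHW (hKH x.2))
    rw [Subgroup.coe_pow, this]
    rfl
  obtain ⟨n, hn⟩ := hKp.exists_card_eq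
  have hdvd : p ∣ p ^ n := by
    rw [← hn, ← hZ₀card]
    exact Subgroup.card_dvd_of_le hZK
  have hn2 : 2 ≤ n := by
    by_contra hlt
    have hn1 : n = 0 ∨ n = 1 := by omega
    rcases hn1 with rfl | rfl
    · rw [pow_zero] at hdvd
      exact hp.one_lt.ne' (Nat.dvd_one.mp hdvd)
    · rw [pow_one] at hn
      have := Subgroup.eq_of_le_of_card_ge hZK (by rw [hn, hZ₀card])
      exact hlZ (by rw [this]; exact hlK)
  have hKeq := Subgroup.eq_of_le_of_card_ge hKH (by
    rw [hn]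
    exact hHcard.trans (Nat.pow_le_pow_right hp.pos hn2))
  have hw₁K : (l' ^ a)⁻¹ * w ∈ Subgroup.closure (({l} : Set G) ∪ (Z₀ : Set G)) := by
    rw [hKeq]
    exact Subgroup.subset_closure (Or.inl (Or.inr rfl))
  -- the shape of the elements of K
  have hshape : ∀ x ∈ Subgroup.closure (({l} : Set G) ∪ (Z₀ : Set G)),
      ∃ i : ℕ, ∃ c ∈ Z₀, x = l ^ i * c := by
    intro x hx
    induction hx using Subgroup.closure_induction with
    | mem x hx =>
      rcases hx with hx | hx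
      · refine ⟨1, 1, Z₀.one_mem, ?_⟩
        rw [Set.mem_singleton_iff] at hx
        rw [hx]; simp
      · exact ⟨0, x, hx, by simp⟩
    | one => exact ⟨0, 1, Z₀.one_mem, by simp⟩
    | mul x y _ _ ihx ihy =>
      obtain ⟨i, c, hc, rfl⟩ := ihx
      obtain ⟨j, d, hd, rfl⟩ := ihy
      refine ⟨i + j, c * d, Z₀.mul_mem hc hd, ?_⟩
      have hcj : c * l ^ j = l ^ j * c := hZ₀c c hc _ (W.pow_mem hl j)
      calc l ^ i * c * (l ^ j * d) = l ^ i * (c * l ^ j) * d := by group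
        _ = l ^ i * (l ^ j * c) * d := by rw [hcj]
        _ = l ^ (i + j) * (c * d) := by rw [pow_add]; group
    | inv x _ ih =>
      obtain ⟨i, c, hc, rfl⟩ := ih
      refine ⟨i * (p - 1), c⁻¹, Z₀.inv_mem hc, ?_⟩
      have hci : c⁻¹ * l ^ (i * (p - 1)) = l ^ (i * (p - 1)) * c⁻¹ :=
        hZ₀c _ (Z₀.inv_mem hc) _ (W.pow_mem hl _)
      have hinv : (l ^ i)⁻¹ = l ^ (i * (p - 1)) := by
        rw [inv_eq_iff_mul_eq_one, ← pow_add]
        have : i + i * (p - 1) = p * i := by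
          have := hp.one_lt
          obtain ⟨q, rfl⟩ : ∃ q, p = q + 1 := ⟨p - 1, by omega⟩
          simp; ring
        rw [this, pow_mul, hWexp l hl, one_pow]
      rw [mul_inv_rev, hinv, hci]
  obtain ⟨i, c, hc, hic⟩ := hshape _ hw₁K
  refine ⟨i, a, ⁅(l' ^ a)⁻¹, (l ^ i)⁻¹⁆ * c,
    Z₀.mul_mem (hWcomm _ (W.inv_mem (W.pow_mem hl' a)) _ (W.inv_mem (W.pow_mem hl i))) hc, ?_⟩
  have hweq : w = l' ^ a * (l ^ i * c) := by
    rw [← hic]; group
  rw [hweq]
  simp only [commutatorElement_def]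
  group

end Cfsg.Agent.Helper46
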