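/-
helper46: `Aq q K` - some `q`-element of `N_G(K)` does not centralize `K`; equivalently `q`
divides `|N_G(K) : C_G(K)|`.  Basic transport lemmas (for S4411).
-/
import Cfsg.Agent.Helper46.SFourC
import Cfsg.Agent.Helper46.Coprime
import Cfsg.Agent.Helper33.SylowRel

set_option autoImplicit false

namespace Cfsg.Agent.Helper46

open Cfsg

variable {G : Type*} [Group G]

/-- some `q`-element of `N_G(K)` does not centralize `K` -/
def Aq (q : ℕ) (K : Subgroup G) : Prop :=
  ∃ y : G, y ∈ Subgroup.normalizer (K : Set G) ∧ y ∉ Subgroup.centralizer (K : Set G) ∧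
    ∃ a : ℕ, y ^ q ^ a = 1

theorem centralizer_subgroupOf_normalizer_normal (K : Subgroup G) :
    ((Subgroup.centralizer (K : Set G)).subgroupOf (Subgroup.normalizer (K : Set G))).Normal := by
  rw [← Subgroup.normalizerMonoidHom_ker]
  exact MonoidHom.normal_ker _

/-- weak form: an element of `N(K)` outside `C(K)` with a `q`-power in `C(K)` -/
theorem dvd_index_of_weak [Finite G] (q : ℕ) [hq : Fact q.Prime] (K : Subgroup G)
    (h : ∃ y : G, y ∈ Subgroup.normalizer (K : Set G) ∧ y ∉ Subgroup.centralizer (K : Set G) ∧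
      ∃ a : ℕ, y ^ q ^ a ∈ Subgroup.centralizer (K : Set G)) :
    q ∣ ((Subgroup.centralizer (K : Set G)).subgroupOf (Subgroup.normalizer (K : Set G))).index := by
  obtain ⟨y, hyN, hyC, a, hya⟩ := h
  have hn := centralizer_subgroupOf_normalizer_normal K
  by_contra hnd
  apply hyC
  have h1 : (⟨y, hyN⟩ : Subgroup.normalizer (K : Set G)) ^
      ((Subgroup.centralizer (K : Set G)).subgroupOf (Subgroup.normalizer (K : Set G))).index ∈
      (Subgroup.centralizer (K : Set G)).subgroupOf (Subgroup.normalizer (K : Set G)) :=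
    Subgroup.pow_index_mem _ _
  have h2 : (⟨y, hyN⟩ : Subgroup.normalizer (K : Set G)) ^ q ^ a ∈
      (Subgroup.centralizer (K : Set G)).subgroupOf (Subgroup.normalizer (K : Set G)) := by
    rw [Subgroup.mem_subgroupOf]
    simpa using hya
  have hcop : Nat.Coprime
      ((Subgroup.centralizer (K : Set G)).subgroupOf (Subgroup.normalizer (K : Set G))).index
      (q ^ a) :=
    Nat.Coprime.pow_right _ ((Nat.Prime.coprime_iff_not_dvd hq.out).mpr hnd).symm
  obtain ⟨u, v, huv⟩ : ∃ u v : ℤ, (1 : ℤ) =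
      ((Subgroup.centralizer (K : Set G)).subgroupOf (Subgroup.normalizer (K : Set G))).index * u
        + (q ^ a : ℕ) * v := by
    have hb := Int.gcd_eq_gcd_ab
      (((Subgroup.centralizer (K : Set G)).subgroupOf (Subgroup.normalizer (K : Set G))).index : ℤ)
      ((q ^ a : ℕ) : ℤ)
    rw [Int.gcd_natCast_natCast, hcop] at hb
    exact ⟨_, _, by exact_mod_cast hb⟩
  have h3 : (⟨y, hyN⟩ : Subgroup.normalizer (K : Set G)) ∈
      (Subgroup.centralizer (K : Set G)).subgroupOf (Subgroup.normalizer (K : Set G)) := by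
    have h4 : (⟨y, hyN⟩ : Subgroup.normalizer (K : Set G)) =
        ((⟨y, hyN⟩ : Subgroup.normalizer (K : Set G)) ^
          ((Subgroup.centralizer (K : Set G)).subgroupOf
            (Subgroup.normalizer (K : Set G))).index) ^ u *
        ((⟨y, hyN⟩ : Subgroup.normalizer (K : Set G)) ^ q ^ a) ^ v := by
      rw [← zpow_natCast _ (Subgroup.index _), ← zpow_natCast _ (q ^ a), ← zpow_mul, ← zpow_mul,
        ← zpow_add, ← huv, zpow_one]
    rw [h4]
    exact Subgroup.mul_mem _ (Subgroup.zpow_mem _ h1 _) (Subgroup.zpow_mem _ h2 _)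
  exact Subgroup.mem_subgroupOf.mp h3

theorem dvd_index_of_aq [Finite G] (q : ℕ) [hq : Fact q.Prime] (K : Subgroup G) (h : Aq q K) :
    q ∣ ((Subgroup.centralizer (K : Set G)).subgroupOf (Subgroup.normalizer (K : Set G))).index := by
  obtain ⟨y, hyN, hyC, a, hya⟩ := h
  exact dvd_index_of_weak q K ⟨y, hyN, hyC, a, by rw [hya]; exact Subgroup.one_mem _⟩

theorem aq_of_dvd_index [Finite G] (q : ℕ) [hq : Fact q.Prime] (K : Subgroup G)
    (h : q ∣ ((Subgroup.centralizer (K : Set G)).subgroupOf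
      (Subgroup.normalizer (K : Set G))).index) : Aq q K := by
  obtain ⟨Q⟩ : Nonempty (Sylow q (Subgroup.normalizer (K : Set G))) := inferInstance
  by_contra hcon
  have hle : (Q : Subgroup (Subgroup.normalizer (K : Set G))) ≤
      (Subgroup.centralizer (K : Set G)).subgroupOf (Subgroup.normalizer (K : Set G)) := by
    intro y hy
    by_contra hyC
    apply hcon
    obtain ⟨a, ha⟩ := (Q.isPGroup' : IsPGroup q (Q : Subgroup (Subgroup.normalizer (K : Set G))))
      ⟨y, hy⟩
    refine ⟨y, y.2, fun hc => hyC (Subgroup.mem_subgroupOf.mpr hc), a, ?_⟩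
    have := congrArg (fun z : (Q : Subgroup (Subgroup.normalizer (K : Set G))) => ((z : Subgroup.normalizer (K : Set G)) : G)) ha
    simpa using this
  exact Q.not_dvd_index (dvd_trans h (Subgroup.index_dvd_of_le hle))

theorem aq_of_weak [Finite G] (q : ℕ) [hq : Fact q.Prime] (K : Subgroup G)
    (h : ∃ y : G, y ∈ Subgroup.normalizer (K : Set G) ∧ y ∉ Subgroup.centralizer (K : Set G) ∧
      ∃ a : ℕ, y ^ q ^ a ∈ Subgroup.centralizer (K : Set G)) : Aq q K :=
  aq_of_dvd_index q K (dvd_index_of_weak q K h)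

/-- transport from a subgroup to the ambient group -/
theorem Aq.map_subtype [Finite G] {q : ℕ} (M : Subgroup G) {K : Subgroup M} (h : Aq q K) :
    Aq q (K.map M.subtype) := by
  obtain ⟨y, hyN, hyC, a, hya⟩ := h
  refine ⟨(y : G), ?_, ?_, a, ?_⟩
  · apply mem_normalizer_of_forall_conj
    rintro _ ⟨k, hk, rfl⟩
    exact ⟨y * k * y⁻¹, (Subgroup.mem_normalizer_iff.mp hyN k).mp hk, by simp⟩
  · intro hc
    apply hyC
    rw [Subgroup.mem_centralizer_iff]
    intro k hk
    have := Subgroup.mem_centralizer_iff.mp hc (k : G) ⟨k, hk, rfl⟩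
    exact Subtype.ext (by simpa using this)
  · have := congrArg (fun z : M => (z : G)) hya
    simpa using this

/-- conjugation invariance -/
theorem Aq.conj {q : ℕ} {K : Subgroup G} (h : Aq q K) (g : G) :
    Aq q (K.map (MulAut.conj g).toMonoidHom) := by
  obtain ⟨y, hyN, hyC, a, hya⟩ := h
  refine ⟨g * y * g⁻¹, ?_, ?_, a, ?_⟩
  · rw [Helper33.normalizer_cj]; exact Helper33.cj_mem_cj hyN
  · rw [Helper33.centralizer_cj, Helper33.mem_cj]
    intro hc
    apply hyC
    have : g⁻¹ * (g * y * g⁻¹) * g = y := by group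
    rwa [this] at hc
  · rw [conj_pow, hya, mul_one, mul_inv_cancel]

/-- the `q`-part of an element: a `q'`-power which is a `q`-element -/
theorem exists_qpart [Finite G] (q : ℕ) [hq : Fact q.Prime] (g : G) :
    ∃ m e : ℕ, ¬ q ∣ m ∧ (g ^ m) ^ q ^ e = 1 := by
  have hpos : orderOf g ≠ 0 := (orderOf_pos g).ne'
  obtain ⟨e, m, hm, hem⟩ := Nat.exists_eq_pow_mul_and_not_dvd hpos q hq.out.ne_one
  refine ⟨m, e, hm, ?_⟩
  rw [← pow_mul, mul_comm, ← hem, pow_orderOf_eq_one]

end Cfsg.Agent.Helper46
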