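/-
helper46: lifting lemmas for `Aq` (for S4411): Frattini-type lifting from a quotient, invariant
Sylow subgroups under a `p`-group, the product subgroup `Y R` for `R ≤ N(Y)`.
-/
import Cfsg.Agent.Helper46.AqBasic
import Cfsg.Agent.Helper46.Basic
import Cfsg.Agent.Helper46.Frattini

set_option autoImplicit false

namespace Cfsg.Agent.Helper46

open Cfsg

open scoped Pointwise

/-- **Lifting from a quotient with `C(O_p) ≤ O_p`.**  If `π : M → Γ` is onto, `C_Γ(O_p(Γ)) ≤ O_p(Γ)`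
and `q ∣ |Γ|`, then `T = S ∩ π⁻¹(O_p(Γ))` is normalized by `S`, maps onto `O_p(Γ)` and is
normalized but not centralized by a `q`-element. -/
theorem aq_of_quot {M Γ : Type*} [Group M] [Finite M] [Group Γ] [Finite Γ] (p q : ℕ)
    [hp : Fact p.Prime] [hq : Fact q.Prime] (hpq : p ≠ q) (S : Sylow p M) (π : M →* Γ)
    (hπ : Function.Surjective π)
    (hC : Subgroup.centralizer (pCore p Γ : Set Γ) ≤ pCore p Γ) (hqΓ : q ∣ Nat.card Γ) :
    (S : Subgroup M) ≤ Subgroup.normalizer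
        (((S : Subgroup M) ⊓ (pCore p Γ).comap π : Subgroup M) : Set M) ∧
      ((S : Subgroup M) ⊓ (pCore p Γ).comap π).map π = pCore p Γ ∧
      Aq q ((S : Subgroup M) ⊓ (pCore p Γ).comap π) := by
  have hPn : (pCore p Γ).Normal := pCore_normal p Γ
  have hNn : ((pCore p Γ).comap π).Normal := hPn.comap π
  have h1 : (S : Subgroup M) ≤ Subgroup.normalizer
      (((S : Subgroup M) ⊓ (pCore p Γ).comap π : Subgroup M) : Set M) := by
    intro s hs
    apply mem_normalizer_of_forall_conj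
    intro n hn
    exact Subgroup.mem_inf.mpr ⟨Subgroup.mul_mem _ (Subgroup.mul_mem _ hs hn.1) (Subgroup.inv_mem _ hs),
      hNn.conj_mem n hn.2 s⟩
  have h2 : ((S : Subgroup M) ⊓ (pCore p Γ).comap π).map π = pCore p Γ := by
    apply le_antisymm
    · rintro _ ⟨x, hx, rfl⟩
      exact hx.2
    · intro z hz
      have hz' : z ∈ ((S.mapSurjective hπ : Sylow p Γ) : Subgroup Γ) := pCore_le_sylow _ hz
      rw [Sylow.coe_mapSurjective] at hz'
      obtain ⟨s, hs, rfl⟩ := hz'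
      exact ⟨s, Subgroup.mem_inf.mpr ⟨hs, hz⟩, rfl⟩
  refine ⟨h1, h2, ?_⟩
  obtain ⟨ybar, hybar⟩ := exists_prime_orderOf_dvd_card' q hqΓ
  obtain ⟨g, hg⟩ := hπ ybar
  obtain ⟨a, ha, c, hc, hgac⟩ := frattini_factorization ((pCore p Γ).comap π) S g
  have hπc : π c ∈ ((S : Subgroup M) ⊓ (pCore p Γ).comap π).map π := by rw [h2]; exact hc
  obtain ⟨t, ht, htc⟩ := hπc
  have hg'N : a * t ∈ Subgroup.normalizer
      (((S : Subgroup M) ⊓ (pCore p Γ).comap π : Subgroup M) : Set M) :=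
    Subgroup.mul_mem _ ha (Subgroup.le_normalizer ht)
  have hπg' : π (a * t) = ybar := by
    rw [map_mul, htc, ← map_mul, ← hgac, hg]
  obtain ⟨m, e, hm, hme⟩ := exists_qpart q (a * t)
  refine ⟨(a * t) ^ m, Subgroup.pow_mem _ hg'N m, ?_, e, hme⟩
  intro hcen
  have h3 : ybar ^ m ∈ Subgroup.centralizer (pCore p Γ : Set Γ) := by
    rw [Subgroup.mem_centralizer_iff]
    intro z hz
    rw [← h2] at hz
    obtain ⟨u, hu, rfl⟩ := hz
    have h4 := Subgroup.mem_centralizer_iff.mp hcen u hu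
    rw [← hπg', ← map_pow, ← map_mul, ← map_mul, h4]
  obtain ⟨k, hk⟩ := pow_mem_pCore (hC h3)
  have h5 : q ∣ m * p ^ k := by
    rw [← hybar]
    apply orderOf_dvd_of_pow_eq_one
    rw [pow_mul]; exact hk
  rcases (Nat.Prime.dvd_mul hq.out).mp h5 with h | h
  · exact hm h
  · exact hpq ((Nat.prime_dvd_prime_iff_eq hq.out hp.out).mp (hq.out.dvd_of_dvd_pow h)).symm

/-- a `p`-group `R` normalizes some nontrivial Sylow `q`-subgroup of a normal `p'`-subgroup `N`
with `q ∣ |N|` (adapted from helper63's `exists_invariant_sylow`, which treats one element). -/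
theorem exists_invariant_sylow_of_pgroup {Γ : Type*} [Group Γ] [Finite Γ] (p q : ℕ)
    [hp : Fact p.Prime] [hq : Fact q.Prime] (N : Subgroup Γ) [N.Normal]
    (hN : (Nat.card N).Coprime p) (R : Subgroup Γ) (hR : IsPGroup p R) (hqN : q ∣ Nat.card N) :
    ∃ Y : Subgroup Γ, Y ≤ N ∧ IsPGroup q Y ∧ Y ≠ ⊥ ∧
      R ≤ Subgroup.normalizer (Y : Set Γ) := by
  classical
  let f : R →* MulAut N := (MulAut.conjNormal (H := N)).comp R.subtype
  let _ : MulAction R (Sylow q N) := MulAction.compHom (Sylow q N) f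
  have hcard : ¬ p ∣ Nat.card (Sylow q N) := by
    obtain ⟨P⟩ : Nonempty (Sylow q N) := inferInstance
    intro h
    have h1 : p ∣ Nat.card N :=
      h.trans ((Sylow.card_dvd_index P).trans (Subgroup.index_dvd_card _))
    exact (Nat.Prime.coprime_iff_not_dvd hp.out).mp hN.symm h1
  obtain ⟨P, hP⟩ := hR.nonempty_fixed_point_of_prime_not_dvd_card (Sylow q N) hcard
  refine ⟨(P : Subgroup N).map N.subtype, ?_, P.isPGroup'.map _, ?_, ?_⟩
  · rintro _ ⟨n, _, rfl⟩; exact n.2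
  · intro hbot
    have hPbot : (P : Subgroup N) = ⊥ := by
      rw [eq_bot_iff]
      intro n hn
      have : (n : Γ) ∈ (P : Subgroup N).map N.subtype := ⟨n, hn, rfl⟩
      rw [hbot] at this
      exact Subgroup.mem_bot.mpr (Subtype.ext (Subgroup.mem_bot.mp this))
    have hc : Nat.card (P : Subgroup N) = 1 := by rw [hPbot]; exact Subgroup.card_bot
    have hidx := P.not_dvd_index
    have := Subgroup.card_mul_index (P : Subgroup N)
    rw [hc, one_mul] at this
    rw [this] at hidx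
    exact hidx hqN
  · intro x hx
    apply mem_normalizer_of_forall_conj
    rintro _ ⟨n, hn, rfl⟩
    have h1 : (⟨x, hx⟩ : R) • P = P := MulAction.mem_fixedPoints.mp hP _
    have h2 : (MulAut.conjNormal x : MulAut N) • (P : Subgroup N) = (P : Subgroup N) :=
      congrArg (fun S : Sylow q N => (S : Subgroup N)) h1
    have h3 : (MulAut.conjNormal x : MulAut N) • n ∈
        (MulAut.conjNormal x : MulAut N) • (P : Subgroup N) :=
      Subgroup.smul_mem_pointwise_smul _ _ _ hn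
    rw [h2] at h3
    refine ⟨_, h3, ?_⟩
    simp [MulAut.smul_def, MulAut.conjNormal_apply]

/-- the product set `Y R` for `R ≤ N(Y)`, as a subgroup -/
def mulSub {Γ : Type*} [Group Γ] (Y R : Subgroup Γ) (h : R ≤ Subgroup.normalizer (Y : Set Γ)) :
    Subgroup Γ where
  carrier := {l | ∃ s ∈ R, l * s⁻¹ ∈ Y}
  one_mem' := ⟨1, R.one_mem, by simp [Y.one_mem]⟩
  mul_mem' := by
    rintro l₁ l₂ ⟨s₁, hs₁, h₁⟩ ⟨s₂, hs₂, h₂⟩
    refine ⟨s₁ * s₂, R.mul_mem hs₁ hs₂, ?_⟩
    have : l₁ * l₂ * (s₁ * s₂)⁻¹ = (l₁ * s₁⁻¹) * (s₁ * (l₂ * s₂⁻¹) * s₁⁻¹) := by group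
    rw [this]
    exact Y.mul_mem h₁ ((Subgroup.mem_normalizer_iff.mp (h hs₁) _).mp h₂)
  inv_mem' := by
    rintro l ⟨s, hs, hl⟩
    refine ⟨s⁻¹, R.inv_mem hs, ?_⟩
    have : l⁻¹ * (s⁻¹)⁻¹ = s⁻¹ * (l * s⁻¹)⁻¹ * (s⁻¹)⁻¹ := by group
    rw [this]
    exact (Subgroup.mem_normalizer_iff.mp (h (R.inv_mem hs)) _).mp (Y.inv_mem hl)

theorem mem_mulSub {Γ : Type*} [Group Γ] {Y R : Subgroup Γ}
    {h : R ≤ Subgroup.normalizer (Y : Set Γ)} {l : Γ} :
    l ∈ mulSub Y R h ↔ ∃ s ∈ R, l * s⁻¹ ∈ Y := Iff.rfl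

theorem le_mulSub_right {Γ : Type*} [Group Γ] {Y R : Subgroup Γ}
    (h : R ≤ Subgroup.normalizer (Y : Set Γ)) : R ≤ mulSub Y R h := by
  intro s hs
  exact ⟨s, hs, by simp [Y.one_mem]⟩

theorem le_mulSub_left {Γ : Type*} [Group Γ] {Y R : Subgroup Γ}
    (h : R ≤ Subgroup.normalizer (Y : Set Γ)) : Y ≤ mulSub Y R h := by
  intro y hy
  exact ⟨1, R.one_mem, by simpa using hy⟩

/-- powers in `Y R` -/
theorem mulSub_pow {Γ : Type*} [Group Γ] {Y R : Subgroup Γ}
    (h : R ≤ Subgroup.normalizer (Y : Set Γ)) {l s : Γ} (hs : s ∈ R) (hl : l * s⁻¹ ∈ Y) (n : ℕ) :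
    l ^ n * (s ^ n)⁻¹ ∈ Y := by
  induction n with
  | zero => simp [Y.one_mem]
  | succ n ih =>
    have : l ^ (n + 1) * (s ^ (n + 1))⁻¹ =
        (l ^ n * (s ^ n)⁻¹) * (s ^ n * (l * s⁻¹) * (s ^ n)⁻¹) := by
      rw [pow_succ, pow_succ]; group
    rw [this]
    exact Y.mul_mem ih ((Subgroup.mem_normalizer_iff.mp (h (R.pow_mem hs n)) _).mp hl)

/-- every element of `Y R` (`Y` a `q`-group, `R` a `p`-group) has `{p,q}`-order -/
theorem mulSub_pq {Γ : Type*} [Group Γ] {p q : ℕ} {Y R : Subgroup Γ}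
    (h : R ≤ Subgroup.normalizer (Y : Set Γ)) (hY : IsPGroup q Y) (hR : IsPGroup p R) {l : Γ}
    (hl : l ∈ mulSub Y R h) : ∃ a b : ℕ, l ^ (p ^ a * q ^ b) = 1 := by
  obtain ⟨s, hs, hls⟩ := hl
  obtain ⟨a, ha⟩ := pow_eq_one_of_isPGroup hR hs
  have h1 := mulSub_pow h hs hls (p ^ a)
  rw [ha, inv_one, mul_one] at h1
  obtain ⟨b, hb⟩ := pow_eq_one_of_isPGroup hY h1
  exact ⟨a, b, by rw [pow_mul]; exact hb⟩

/-- **Lifting through a `p'`-kernel.** -/
theorem aq_of_map {M Γ : Type*} [Group M] [Finite M] [Group Γ] [Finite Γ] (p q : ℕ)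
    [hp : Fact p.Prime] [hq : Fact q.Prime] (π : M →* Γ) (hπ : Function.Surjective π)
    (hker : (Nat.card π.ker).Coprime p) (K : Subgroup M) (hK : IsPGroup p K)
    (h : Aq q (K.map π)) : Aq q K := by
  obtain ⟨y₁, hyN, hyC, a, hya⟩ := h
  obtain ⟨g₀, rfl⟩ := hπ y₁
  obtain ⟨E, hE⟩ : ∃ E : Subgroup M, E = (K.map π).comap π := ⟨_, rfl⟩
  have hKE : K ≤ E := by rw [hE]; exact Subgroup.le_comap_map π K
  have hWE : π.ker ≤ E := by
    rw [hE]; intro w hw
    rw [Subgroup.mem_comap, MonoidHom.mem_ker.mp hw]; exact Subgroup.one_mem _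
  have hidx : ¬ p ∣ K.relIndex E := by
    have e1 : Nat.card K * K.relIndex E = Nat.card E := by
      have := Subgroup.relIndex_mul_relIndex (⊥ : Subgroup M) K E bot_le hKE
      rwa [Subgroup.relIndex_bot_left, Subgroup.relIndex_bot_left] at this
    have e2 : Nat.card π.ker * π.ker.relIndex E = Nat.card E := by
      have := Subgroup.relIndex_mul_relIndex (⊥ : Subgroup M) π.ker E bot_le hWE
      rwa [Subgroup.relIndex_bot_left, Subgroup.relIndex_bot_left] at this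
    have e3 : π.ker.relIndex E = Nat.card (K.map π) := by
      have h1 : π.ker = (⊥ : Subgroup Γ).comap π := (MonoidHom.comap_bot π).symm
      rw [h1, Subgroup.relIndex_comap, Subgroup.relIndex_bot_left, hE,
        Subgroup.map_comap_eq_self_of_surjective hπ]
    obtain ⟨d, hd⟩ := Subgroup.card_map_dvd (H := K) π
    have hpos : 0 < Nat.card (K.map π) := Nat.card_pos
    have e4 : d * K.relIndex E = Nat.card π.ker := by
      have : Nat.card (K.map π) * (d * K.relIndex E) = Nat.card (K.map π) * Nat.card π.ker := by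
        rw [← mul_assoc, ← hd, e1, ← e2, e3, mul_comm]
      exact Nat.eq_of_mul_eq_mul_left hpos this
    intro hdvd
    have : p ∣ Nat.card π.ker := by rw [← e4]; exact Dvd.dvd.mul_left hdvd d
    exact (Nat.Prime.coprime_iff_not_dvd hp.out).mp hker.symm this
  have hQE : K.map (MulAut.conj g₀).toMonoidHom ≤ E := by
    rintro _ ⟨k, hk, rfl⟩
    rw [hE, Subgroup.mem_comap]
    have : π ((MulAut.conj g₀).toMonoidHom k) = π g₀ * π k * (π g₀)⁻¹ := by
      simp [MulAut.conj_apply]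
    rw [this]
    exact (Subgroup.mem_normalizer_iff.mp hyN _).mp ⟨k, hk, rfl⟩
  obtain ⟨e, heE, hele⟩ := Helper33.exists_cj_le_of_relIndex hKE hK hidx hQE (hK.map _)
  rw [hE, Subgroup.mem_comap] at heE
  obtain ⟨ke, hke, hkee⟩ := heE
  have hN1 : e * g₀ ∈ Subgroup.normalizer (K : Set M) := by
    apply mem_normalizer_of_forall_conj
    intro k hk
    have := hele ⟨(MulAut.conj g₀).toMonoidHom k, ⟨k, hk, rfl⟩, rfl⟩
    have h2 : (MulAut.conj e).toMonoidHom ((MulAut.conj g₀).toMonoidHom k) =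
        e * g₀ * k * (e * g₀)⁻¹ := by
      simp [MulAut.conj_apply, mul_assoc]
    rwa [h2] at this
  have hN2 : ke⁻¹ * (e * g₀) ∈ Subgroup.normalizer (K : Set M) :=
    Subgroup.mul_mem _ (Subgroup.le_normalizer (Subgroup.inv_mem _ hke)) hN1
  have hπ2 : π (ke⁻¹ * (e * g₀)) = π g₀ := by
    rw [map_mul, map_mul, map_inv, hkee]; group
  obtain ⟨m, e', hm, hme⟩ := exists_qpart q (ke⁻¹ * (e * g₀))
  refine ⟨(ke⁻¹ * (e * g₀)) ^ m, Subgroup.pow_mem _ hN2 m, ?_, e', hme⟩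
  intro hcen
  apply hyC
  have h3 : (π g₀) ^ m ∈ Subgroup.centralizer ((K.map π : Subgroup Γ) : Set Γ) := by
    rw [Subgroup.mem_centralizer_iff]
    rintro _ ⟨u, hu, rfl⟩
    have h4 := Subgroup.mem_centralizer_iff.mp hcen u hu
    rw [← hπ2, ← map_pow, ← map_mul, ← map_mul, h4]
  have hcop : Nat.Coprime m (q ^ a) :=
    Nat.Coprime.pow_right _ ((Nat.Prime.coprime_iff_not_dvd hq.out).mpr hm).symm
  exact mem_of_pow_mem_of_coprime h3 hya hcop

end Cfsg.Agent.Helper46
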