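import Mathlib
import Cfsg.Agent.S1430
import Cfsg.Agent.S1545
import Cfsg.Agent.Helper23.Uniq
import Cfsg.Agent.Helper23.FittingHall
import Cfsg.Agent.Helper23.ThompTrans

/-!
# CALL S1437 piece CNT (helper46): the Frobenius counting formula for `D₀ K₀` acting on `Y ≤ Q`
-/

set_option autoImplicit false

namespace Cfsg.Agent.Helper46

open Cfsg Subgroup

universe u

variable {G : Type u} [Group G] [Finite G]

/-- CNT. Frobenius counting (S1545 with `X := G`, `U := D₀`, `E := K₀`, `H := Y`). -/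
theorem bg15b_count (hG : IsMinSimpleOddOrder G) {M K U Q D₀ : Subgroup G} (hM : IsCoatom M)
    (hKU : IsSigmaDecomposition M K U) (hK1 : K ≠ ⊥)
    (hq : (Nat.card ↥(sigmaCore M ⊓ centralizer (K : Set G))).Prime)
    (hQq : IsPGroup (Nat.card ↥(sigmaCore M ⊓ centralizer (K : Set G))) Q)
    (hQi : ¬ Nat.card ↥(sigmaCore M ⊓ centralizer (K : Set G)) ∣ Q.relIndex (sigmaCore M))
    (hKsQ : sigmaCore M ⊓ centralizer (K : Set G) ≤ Q)
    (hD₀ : IsComplIn Q D₀ (sigmaCore M)) (hD1 : D₀ ≠ ⊥) (hKD : K ≤ normalizer (D₀ : Set G))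
    (Y K₀ : Subgroup G) (hYQ : Y ≤ Q)
    (hYn : D₀ ≤ normalizer (Y : Set G) ∧ K ≤ normalizer (Y : Set G))
    (hK₀ : K₀ ≤ K) (hK₀1 : K₀ ≠ ⊥) :
    Nat.card ↥(Y ⊓ (Q ⊓ centralizer (D₀ : Set G)) ⊓ (sigmaCore M ⊓ centralizer (K : Set G))) ^
        Nat.card K₀ * Nat.card Y =
      Nat.card ↥(Y ⊓ (sigmaCore M ⊓ centralizer (K : Set G))) ^ Nat.card K₀ *
        Nat.card ↥(Y ⊓ (Q ⊓ centralizer (D₀ : Set G))) := by
  classical
  have hD₀' := hD₀
  obtain ⟨hQS, hDS, hQD, hprod⟩ := hD₀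
  have h30 := (Cfsg.Agent.S1430.result hG M hM K hKU.hall hK1).1
  have hSM : sigmaCore M ≤ M := Cfsg.Agent.Helper23.piCoreOf_le (sigma M) M
  -- `q ∈ σ(M)`
  have hqσ : Nat.card ↥(sigmaCore M ⊓ centralizer (K : Set G)) ∈ sigma M :=
    Cfsg.Agent.Helper23.mem_of_dvd_card_piCoreOf (sigma M) M hq
      (Subgroup.card_dvd_of_le inf_le_left)
  have hqK : ¬ Nat.card ↥(sigmaCore M ⊓ centralizer (K : Set G)) ∣ Nat.card K :=
    fun h => (hKU.hall.2.1 _ hq h).2.2.1 hqσ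
  have hqK₀ : ¬ Nat.card ↥(sigmaCore M ⊓ centralizer (K : Set G)) ∣ Nat.card K₀ :=
    fun h => hqK (h.trans (Subgroup.card_dvd_of_le hK₀))
  have hcardS : Nat.card (sigmaCore M) = Nat.card Q * Nat.card D₀ :=
    Cfsg.Agent.Helper23.card_of_isComplIn Q D₀ (sigmaCore M) hD₀'
  have hrel : Q.relIndex (sigmaCore M) = Nat.card D₀ := by
    have h1 : Nat.card Q * Q.relIndex (sigmaCore M) = Nat.card (sigmaCore M) := by
      have := Subgroup.relIndex_mul_relIndex (⊥ : Subgroup G) Q (sigmaCore M) bot_le hQS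
      simpa using this
    have hQpos : 0 < Nat.card Q := Nat.card_pos
    rw [hcardS] at h1
    exact Nat.eq_of_mul_eq_mul_left hQpos h1
  have hqD : ¬ Nat.card ↥(sigmaCore M ⊓ centralizer (K : Set G)) ∣ Nat.card D₀ := by
    rw [← hrel]; exact hQi
  have hcopSK : Nat.Coprime (Nat.card (sigmaCore M)) (Nat.card K) := by
    apply Nat.coprime_of_dvd
    intro p hp h1 h2
    exact (hKU.hall.2.1 p hp h2).2.2.1
      (Cfsg.Agent.Helper23.mem_of_dvd_card_piCoreOf (sigma M) M hp h1)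
  have hDK : D₀ ⊓ K₀ = ⊥ := by
    apply disjoint_iff.1
    apply Subgroup.disjoint_of_coprime_natCard
    exact Nat.Coprime.coprime_dvd_left (Subgroup.card_dvd_of_le hDS)
      (Nat.Coprime.coprime_dvd_right (Subgroup.card_dvd_of_le hK₀) hcopSK)
  have hsing : ∀ y e : G, e * y = y * e → y ∈ centralizer ({e} : Set G) := by
    intro y e h
    rw [Subgroup.mem_centralizer_iff]
    intro x hx
    rw [Set.mem_singleton_iff] at hx
    rw [hx]
    exact h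
  have hUn : ∀ e ∈ K₀, ∀ u ∈ D₀, e * u * e⁻¹ ∈ D₀ := fun e he u hu =>
    (Subgroup.mem_normalizer_iff.1 (hKD (hK₀ he)) u).1 hu
  have hfpf : ∀ e ∈ K₀, e ≠ 1 → ∀ u ∈ D₀, e * u = u * e → u = 1 := by
    intro e he he1 u hu hcomm
    have h1 : u ∈ sigmaCore M ⊓ centralizer ({e} : Set G) :=
      Subgroup.mem_inf.2 ⟨hDS hu, hsing u e hcomm⟩
    rw [h30 e (hK₀ he) he1] at h1
    have h2 : u ∈ Q ⊓ D₀ := ⟨hKsQ h1, hu⟩
    rw [hQD] at h2
    exact Subgroup.mem_bot.1 h2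
  have hnorm : D₀ ⊔ K₀ ≤ normalizer (Y : Set G) := sup_le hYn.1 (hK₀.trans hYn.2)
  have hHn : ∀ x ∈ D₀ ⊔ K₀, ∀ h ∈ Y, x * h * x⁻¹ ∈ Y := fun x hx h hh =>
    (Subgroup.mem_normalizer_iff.1 (hnorm hx) h).1 hh
  have hcop : Nat.Coprime (Nat.card Y) (Nat.card ↥(D₀ ⊔ K₀)) := by
    have : Fact (Nat.card ↥(sigmaCore M ⊓ centralizer (K : Set G))).Prime := ⟨hq⟩
    have hYq : IsPGroup (Nat.card ↥(sigmaCore M ⊓ centralizer (K : Set G))) Y := hQq.to_le hYQ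
    obtain ⟨n, hn⟩ := IsPGroup.iff_card.1 hYq
    rw [hn]
    apply Nat.Coprime.pow_left
    rw [Nat.Prime.coprime_iff_not_dvd hq]
    intro h
    have h1 : Nat.card ↥(K₀ ⊔ D₀) ∣ Nat.card K₀ * Nat.card D₀ :=
      Cfsg.Agent.Helper23.card_sup_dvd_of_le_normalizer (hK₀.trans hKD)
    rw [sup_comm] at h
    rcases (Nat.Prime.dvd_mul hq).1 (h.trans h1) with h2 | h2
    · exact hqK₀ h2
    · exact hqD h2
  have hdisj : Y ⊓ (D₀ ⊔ K₀) = ⊥ := disjoint_iff.1 (Subgroup.disjoint_of_coprime_natCard hcop)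
  have hYtop : Y ≠ ⊤ := by
    intro h
    apply hM.1
    rw [eq_top_iff, ← h]
    exact hYQ.trans (hQS.trans hSM)
  have hsolv : Group.IsSolvable ↥Y := Cfsg.Agent.Helper23.uq_isSolvable hG hYtop
  have key := Cfsg.Agent.S1545.result D₀ K₀ Y hD1 hK₀1 hDK hUn hfpf hHn hdisj hsolv hcop
  obtain ⟨k₀, hk₀, hk₀1⟩ : ∃ k ∈ K₀, k ≠ 1 := by
    by_contra hcon
    push_neg at hcon
    exact hK₀1 ((Subgroup.eq_bot_iff_forall _).2 hcon)
  have hb : Y ⊓ centralizer (K₀ : Set G) = Y ⊓ (sigmaCore M ⊓ centralizer (K : Set G)) := by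
    apply le_antisymm
    · rintro y ⟨hy, hyc⟩
      have h5 : y ∈ sigmaCore M ⊓ centralizer ({k₀} : Set G) :=
        Subgroup.mem_inf.2 ⟨hQS (hYQ hy),
          hsing y k₀ ((Subgroup.mem_centralizer_iff.1 hyc) k₀ hk₀)⟩
      rw [h30 k₀ (hK₀ hk₀) hk₀1] at h5
      exact Subgroup.mem_inf.2 ⟨hy, h5⟩
    · rintro y ⟨hy, -, hyc⟩
      exact ⟨hy, Subgroup.centralizer_le (SetLike.coe_subset_coe.2 hK₀) hyc⟩
  have hc : Y ⊓ centralizer (D₀ : Set G) = Y ⊓ (Q ⊓ centralizer (D₀ : Set G)) := by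
    apply le_antisymm
    · rintro y ⟨hy, hyc⟩
      exact ⟨hy, hYQ hy, hyc⟩
    · rintro y ⟨hy, -, hyc⟩
      exact ⟨hy, hyc⟩
  have ha : Y ⊓ centralizer ((D₀ ⊔ K₀ : Subgroup G) : Set G) =
      Y ⊓ (Q ⊓ centralizer (D₀ : Set G)) ⊓ (sigmaCore M ⊓ centralizer (K : Set G)) := by
    apply le_antisymm
    · rintro y ⟨hy, hyc⟩
      have h1 : y ∈ Y ⊓ centralizer (D₀ : Set G) :=
        ⟨hy, Subgroup.centralizer_le (SetLike.coe_subset_coe.2 le_sup_left) hyc⟩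
      have h2 : y ∈ Y ⊓ centralizer (K₀ : Set G) :=
        ⟨hy, Subgroup.centralizer_le (SetLike.coe_subset_coe.2 le_sup_right) hyc⟩
      rw [hc] at h1
      rw [hb] at h2
      exact ⟨h1, h2.2⟩
    · rintro y ⟨⟨hy, -, hyD⟩, hyK⟩
      refine Subgroup.mem_inf.2 ⟨hy, ?_⟩
      have hyK₀ : y ∈ centralizer (K₀ : Set G) :=
        Subgroup.centralizer_le (SetLike.coe_subset_coe.2 hK₀) hyK.2
      have h3 : D₀ ⊔ K₀ ≤ centralizer ({y} : Set G) := by
        apply sup_le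
        · intro d hd
          exact hsing d y ((Subgroup.mem_centralizer_iff.1 hyD) d hd).symm
        · intro k hk
          exact hsing k y ((Subgroup.mem_centralizer_iff.1 hyK₀) k hk).symm
      rw [Subgroup.mem_centralizer_iff]
      intro x hx
      exact ((Subgroup.mem_centralizer_iff.1 (h3 hx)) y (Set.mem_singleton y)).symm
  rw [ha, hb, hc] at key
  exact key

end Cfsg.Agent.Helper46
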