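/-
helper46: piece TP2 of CALL BG17 (helper25): a complement `T` of `M_F` in `M_σ` is a Hall
subgroup of `M`.
-/
import Cfsg.Agent.Helper23.FittingHall
import Cfsg.Agent.Helper25.BG16HM

set_option autoImplicit false

namespace Cfsg.Agent.Helper46

open Cfsg Subgroup

universe u

variable {G : Type u} [Group G] [Finite G]

/-- `|A| · [B : A] = |B|` for `A ≤ B`. -/
theorem bg17_card_mul_relIndex {A B : Subgroup G} (h : A ≤ B) :
    Nat.card A * A.relIndex B = Nat.card B := by
  have h1 := Subgroup.relIndex_mul_relIndex ⊥ A B bot_le h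
  rwa [Subgroup.relIndex_bot_left, Subgroup.relIndex_bot_left] at h1

/-- TP2. A complement `T` of `M_F` in `M_σ` is a Hall subgroup of `M`. -/
theorem bg17_compl_hall (hG : IsMinSimpleOddOrder G) {M : Subgroup G} (hM : IsCoatom M)
    (T : Subgroup G) (hT : IsComplIn (fittingHallOf M) T (sigmaCore M)) :
    (Nat.card T).Coprime (T.relIndex M) := by
  obtain ⟨h1, h2⟩ := Cfsg.Agent.Helper25.bg16_hall_facts hG M hM
  have hσM : sigmaCore M ≤ M := Subgroup.map_subtype_le _
  have hc := Cfsg.Agent.Helper23.card_of_isComplIn _ _ _ hT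
  have hTpos : 0 < Nat.card T := Nat.card_pos
  have hFpos : 0 < Nat.card (fittingHallOf M) := Nat.card_pos
  have hTi : T.relIndex (sigmaCore M) = Nat.card (fittingHallOf M) := by
    have h3 := bg17_card_mul_relIndex hT.2.1
    rw [hc] at h3
    exact Nat.eq_of_mul_eq_mul_left hTpos (h3.trans (mul_comm _ _))
  have hFi : (fittingHallOf M).relIndex (sigmaCore M) = Nat.card T := by
    have h3 := bg17_card_mul_relIndex hT.1
    rw [hc] at h3
    exact Nat.eq_of_mul_eq_mul_left hFpos h3
  rw [← Subgroup.relIndex_mul_relIndex T (sigmaCore M) M hT.2.1 hσM, hTi]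
  refine Nat.Coprime.mul_right ?_ ?_
  · have h4 : Nat.card T ∣ (fittingHallOf M).relIndex M := by
      rw [← Subgroup.relIndex_mul_relIndex _ (sigmaCore M) M hT.1 hσM, hFi]
      exact dvd_mul_right _ _
    exact (Nat.Coprime.coprime_dvd_right h4 h2).symm
  · have h5 : Nat.card T ∣ Nat.card (sigmaCore M) := by
      rw [hc]
      exact dvd_mul_left _ _
    exact Nat.Coprime.coprime_dvd_left h5 h1

end Cfsg.Agent.Helper46
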