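/-
helper46: CALL BG36 (helper2; row S1436), piece T1 (double): `bg36_q_not_sigma`.
-/
import Mathlib
import Cfsg.Agent.S1351
import Cfsg.Agent.S1352
import Cfsg.Agent.S1375
import Cfsg.Agent.S1378
import Cfsg.Agent.Helper54.BG14T4
import Cfsg.Agent.Helper23.Trans
import Cfsg.Agent.Helper54.BG14S

set_option autoImplicit false

namespace Cfsg.Agent.Helper46

open Cfsg Subgroup

universe u

variable {G : Type u} [Group G] [Finite G]

/-- PIECE T1: `q ∈ σ(N) ∩ σ(M)` would make `N` conjugate to `M` (S1378), so `σ(N) = σ(M)` and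
the `σ(N)`-element `x ∈ N` would lie in `N_σ`, against S1375. -/
theorem bg36_q_not_sigma (hG : IsMinSimpleOddOrder G) {M N : Subgroup G} (hM : IsCoatom M)
    {x : G} (hx : x ∈ sigmaCore M) (hx1 : x ≠ 1) (hxM : ¬ centralizer ({x} : Set G) ≤ M)
    (hN : IsCoatom N) (hxN : centralizer ({x} : Set G) ≤ N) {q : ℕ} (hq : q ∈ sigma N) :
    q ∉ sigma M := by
  intro hqM
  obtain ⟨g, hg⟩ := (Cfsg.Agent.S1378.result hG).2 M N hM hN ⟨q, hqM, hq⟩
  obtain ⟨N₀, ⟨hN₀, hxN₀⟩, huniq, -, -, -, -, hdec⟩ :=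
    Cfsg.Agent.S1375.result hG M hM x hx hx1 hxM
  have hNN : N = N₀ := huniq N hN hxN
  subst hNN
  obtain ⟨⟨K', hK'⟩, hcyc⟩ := Cfsg.Agent.S1351.result hG N hN
  obtain ⟨⟨U', hKU'⟩, -⟩ := Cfsg.Agent.S1352.result hG N hN K' (hcyc K' hK') hK'
  have hxnot : x ∉ sigmaCore N := (hdec K' U' hKU').2.2
  apply hxnot
  have hσ : sigma N = sigma M := by
    rw [hg]
    exact Cfsg.Agent.Helper54.bg14t_sigma_conj M g
  have hxinN : x ∈ N := hxN (by
    rw [mem_centralizer_iff]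
    intro h hh
    rw [Set.mem_singleton_iff] at hh
    rw [hh])
  refine Cfsg.Agent.Helper54.bg14s_mem_sigmaCore hG hN hxinN ?_
  intro s hs hsdvd
  rw [hσ]
  apply Cfsg.Agent.Helper23.mem_of_dvd_card_piCoreOf (sigma M) M hs
  exact hsdvd.trans (Subgroup.orderOf_dvd_natCard (sigmaCore M) hx)

end Cfsg.Agent.Helper46
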