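/-
helper46: piece ACEN of CALL S1390 (helper24): inside a complement `E` of `M_σ`, a nilpotent
`A ⊔ A₀` is abelian, so `A` and `A₀` commute elementwise.
-/
import Cfsg.Agent.S1420
import Cfsg.Agent.Helper11.BG65ORDR
import Cfsg.Agent.Helper47.BG65ECOP

set_option autoImplicit false

namespace Cfsg.Agent.Helper46

open Cfsg Subgroup

universe u

variable {G : Type u} [Group G] [Finite G]

/-- ACEN. -/
theorem bg90_A_cent (hG : IsMinSimpleOddOrder G) {M E A₀ A : Subgroup G} (hM : IsCoatom M)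
    (hE : IsComplIn E (sigmaCore M) M) (hA₀E : A₀ ≤ E) (hAE : A ≤ E)
    (hnil : Group.IsNilpotent ↥(A ⊔ A₀)) : ∀ a ∈ A, ∀ b ∈ A₀, a * b = b * a := by
  have hNE : A ⊔ A₀ ≤ E := sup_le hAE hA₀E
  have hprimes : ∀ p : ℕ, p.Prime → p ∣ Nat.card ↥(A ⊔ A₀) → p ∉ sigma M := by
    intro p hp hpd
    obtain ⟨x, hx, hxo⟩ := Cfsg.Agent.Helper11.bg65_cauchy hp hpd
    exact (Cfsg.Agent.Helper47.bg65_E_coprime hG hM hE).2 x (hNE hx) p hp (hxo ▸ dvd_rfl)
  have hcomm : IsMulCommutative ↥(A ⊔ A₀) :=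
    (Cfsg.Agent.S1420.result hG M hM E hE).1 (A ⊔ A₀) (hNE.trans hE.1) hnil hprimes
  intro a ha b hb
  have h := hcomm.is_comm.comm (⟨a, le_sup_left (a := A) (b := A₀) ha⟩ : ↥(A ⊔ A₀))
    ⟨b, le_sup_right (a := A) (b := A₀) hb⟩
  exact congrArg Subtype.val h

end Cfsg.Agent.Helper46
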