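import Mathlib
import Cfsg.Prelude.Def_OddOrderLocal
import Cfsg.Agent.Helper23.Trans

set_option autoImplicit false
set_option linter.unusedVariables false

namespace Cfsg.Agent.Helper46

open Cfsg Subgroup

universe u

variable {G : Type u} [Group G] [Finite G]

/-- UB. `τ₂(N) ≠ ∅` forces `U ≠ 1`. -/
theorem bgc_U_ne_bot (hG : IsMinSimpleOddOrder G) {N K' U' : Subgroup G} (hN : IsCoatom N)
    (hKU : IsSigmaDecomposition N K' U') {u : ℕ} (hu : u ∈ tau2 N) : U' ≠ ⊥ := by
  classical
  intro hU
  obtain ⟨hup, husig, -, hrk⟩ := hu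
  have : Fact u.Prime := ⟨hup⟩
  -- an elementary abelian subgroup of order > u
  unfold PRankLE at hrk
  push Not at hrk
  obtain ⟨A, hAc, hAe, hAcard⟩ := hrk
  rw [pow_one] at hAcard
  -- N = K' ⊔ sigmaCore N
  obtain ⟨-, hKSN, -, hprod⟩ := hKU.compl
  have hKN : K' ≤ N := le_trans le_sup_left hKSN
  have hSN : sigmaCore N ≤ N := le_trans le_sup_right hKSN
  have hNeq : K' ⊔ sigmaCore N = N := by
    refine le_antisymm hKSN ?_
    intro m hm
    obtain ⟨a, ha, b, hb, rfl⟩ := hprod m hm
    rw [hU, Subgroup.mem_bot] at ha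
    rw [ha, one_mul]
    exact hb
  -- inside the group N
  have hS' : (sigmaCore N).subgroupOf N = piCore (sigma N) ↥N := by
    show ((piCore (sigma N) ↥N).map N.subtype).subgroupOf N = piCore (sigma N) ↥N
    ext x
    rw [Subgroup.mem_subgroupOf, Subgroup.mem_map]
    constructor
    · rintro ⟨y, hy, hxy⟩
      have : y = x := Subtype.ext hxy
      rwa [← this]
    · intro hx
      exact ⟨x, hx, rfl⟩
  have htop : K'.subgroupOf N ⊔ piCore (sigma N) ↥N = ⊤ := by
    rw [← hS', ← Subgroup.subgroupOf_sup hKN hSN, hNeq, Subgroup.subgroupOf_self]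
  have hidx : (piCore (sigma N) ↥N).index ∣ Nat.card (K'.subgroupOf N) := by
    have h1 := Subgroup.relIndex_sup_right (H := K'.subgroupOf N) (K := piCore (sigma N) ↥N)
    rw [htop, Subgroup.relIndex_top_right] at h1
    rw [h1]
    exact Subgroup.relIndex_dvd_card _ _
  have hKcard : Nat.card (K'.subgroupOf N) = Nat.card K' :=
    Nat.card_congr (Subgroup.subgroupOfEquivOfLe hKN).toEquiv
  rw [hKcard] at hidx
  -- u divides |N|
  have huN : u ∣ Nat.card ↥N := by
    have hA1 : 1 < Nat.card A := lt_trans hup.one_lt hAcard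
    obtain ⟨a, ha, ha1⟩ : ∃ a ∈ A, a ≠ 1 := by
      by_contra hcon
      push Not at hcon
      have : A = ⊥ := (Subgroup.eq_bot_iff_forall A).mpr hcon
      rw [this, Subgroup.card_bot] at hA1
      exact lt_irrefl _ hA1
    have ho : orderOf a = u := by
      have hd := orderOf_dvd_of_pow_eq_one (hAe a ha)
      rcases (Nat.dvd_prime hup).mp hd with h | h
      · exact absurd (orderOf_eq_one_iff.mp h) ha1
      · exact h
    rw [← ho]
    exact orderOf_dvd_natCard a
  have hmul := Subgroup.card_mul_index (piCore (sigma N) ↥N)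
  rw [← hmul] at huN
  have huK : u ∣ Nat.card K' := by
    rcases (Nat.Prime.dvd_mul hup).mp huN with h | h
    · exfalso
      apply husig
      apply Helper23.mem_of_dvd_card_piCoreOf (sigma N) N hup
      have h1 : Nat.card (piCoreOf (sigma N) N) = Nat.card (piCore (sigma N) ↥N) :=
        Subgroup.card_map_of_injective N.subtype_injective
      rw [h1]
      exact h
    · exact dvd_trans h hidx
  have hkap : u ∈ kappa N := hKU.hall.2.1 u hup huK
  obtain ⟨-, -, -, hcyc⟩ := hkap
  -- A lies in a cyclic Sylow subgroup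
  have hAp : IsPGroup u A := by
    intro g
    refine ⟨1, ?_⟩
    rw [pow_one]
    exact Subtype.ext (hAe g.1 g.2)
  obtain ⟨Q, hQ⟩ := hAp.exists_le_sylow
  have hQc : IsCyclic (Q : Subgroup ↥N) := (hcyc Q).1
  have hAcyc : IsCyclic A := Subgroup.isCyclic_of_le hQ
  obtain ⟨g, hg⟩ := hAcyc.exists_generator
  have hcard : orderOf g = Nat.card A := orderOf_eq_card_of_forall_mem_zpowers hg
  have hgu : g ^ u = 1 := Subtype.ext (hAe g.1 g.2)
  have hle : orderOf g ≤ u := Nat.le_of_dvd hup.pos (orderOf_dvd_of_pow_eq_one hgu)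
  omega

end Cfsg.Agent.Helper46
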