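import Cfsg.Agent.Helper22.BG12a
import Cfsg.Agent.Helper4.BGZNPC
import Cfsg.Agent.S1403
import Cfsg.Agent.S1414
import Cfsg.Agent.S1426

/-!
# CALL LZ piece E0 (for helper1)
-/

set_option autoImplicit false


namespace Cfsg.Agent.Helper46

open Cfsg Subgroup

universe u

variable {G : Type u} [Group G] [Finite G]

/-- E0 (Z7d). -/
theorem bgz_E0_cent (hG : IsMinSimpleOddOrder G) {Ms Es S₁ : Subgroup G} {s : ℕ}
    (hMs : IsCoatom Ms) (hEs : IsComplIn Es (sigmaCore Ms) Ms) (hsσ : s ∈ sigma Ms)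
    (hsβ : s ∉ beta Ms) (hS₁ : S₁ ≤ sigmaCore Ms) (hS₁s : IsPGroup s S₁)
    (hEsS : Es ≤ normalizer (S₁ : Set G)) :
    ∀ e ∈ Es ⊓ ⁅Ms, Ms⁆, ∀ a ∈ S₁, e * a = a * e := by
  intro e he a ha
  have hU : Cfsg.Agent.Helper22.BGUniq G :=
    fun K hK h1 h2 => Cfsg.Agent.S1403.result hG K hK h1 h2
  have hsp : s.Prime := hsσ.1
  have hsd : s ∣ Nat.card Ms := hsσ.2.1
  have hnpc : HasNormalPComplement s ↥⁅Ms, Ms⁆ :=
    ((Cfsg.Agent.S1414.result hG Ms hMs).2.2.2.2 s hsp hsd hsβ).1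
  have hle : sigmaCore Ms ≤ ⁅Ms, Ms⁆ := by
    have h := (Cfsg.Agent.S1426.result hG Ms hMs Es hEs).2.1
    rw [← h]
    exact Subgroup.commutator_mono hEs.2.1 hEs.1
  have hord : (orderOf e).Coprime s := by
    have h1 : orderOf e ∣ Nat.card Es := by
      have h := orderOf_dvd_natCard (⟨e, he.1⟩ : Es)
      rwa [← Subgroup.orderOf_coe] at h
    have h2 : ¬ s ∣ Nat.card Es := fun hd =>
      Cfsg.Agent.Helper22.bg12_not_sigma_of_dvd hG hU hMs hEs hsp hd hsσ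
    exact (((Nat.Prime.coprime_iff_not_dvd hsp).mpr fun h => h2 (h.trans h1))).symm
  exact Cfsg.Agent.Helper4.bgz_npc_centralizes hsp hnpc (hS₁.trans hle) hS₁s he.2 hord
    (hEsS he.1) a ha

end Cfsg.Agent.Helper46
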