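import Cfsg.Agent.Helper46.BGZT2
import Cfsg.Agent.S1428

/-!
# CALL LZ piece N2 (for helper1): no `τ₂(M*)`-element of prime order in `E* ∩ C(P)`
-/

set_option autoImplicit false

namespace Cfsg.Agent.Helper46

open Cfsg Subgroup

universe u

variable {G : Type u} [Group G] [Finite G]

/-- N2 (Z7a). -/
theorem bgz_no_tau2 (hG : IsMinSimpleOddOrder G) {M E P X Ms Es : Subgroup G} {p : ℕ}
    (hM : IsCoatom M) (hE : IsComplIn E (sigmaCore M) M) (hp : p ∈ tau1 M) (hPE : P ≤ E)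
    (hP : Nat.card P = p) (hD : sigmaCore M ⊓ centralizer (P : Set G) ≠ ⊥)
    (hXM : centralizer (X : Set G) ≤ M) (hX1 : X ≠ ⊥) (hMs : IsCoatom Ms)
    (hEs : IsComplIn Es (sigmaCore Ms) Ms) (hpMs : p ∈ tau1 Ms) (hPEs : P ≤ Es)
    (hXs : X ≤ sigmaCore Ms ⊓ centralizer (P : Set G)) (hcap : sigmaCore M ⊓ Ms = ⊥)
    (hME : M ⊓ Ms ≤ E) :
    ∀ y ∈ Es ⊓ centralizer (P : Set G), (orderOf y).Prime → orderOf y ∉ tau2 Ms := by
  intro y hy hyp hτ
  have hRc : Nat.card (zpowers y) = orderOf y := Nat.card_zpowers y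
  have hREs : zpowers y ≤ Es ⊓ centralizer (P : Set G) := by
    rw [zpowers_le]; exact hy
  have h1 := Cfsg.Agent.S1428.result hG Ms hMs Es hEs p hpMs P hPEs hP (zpowers y) hREs
    (by rw [hRc]; exact hyp)
  have hXR : X ≤ centralizer ((zpowers y : Subgroup G) : Set G) := fun x hx => (h1 (hXs hx)).2
  have hyX : y ∈ centralizer (X : Set G) := by
    rw [mem_centralizer_iff]
    intro x hx
    exact (mem_centralizer_iff.mp (hXR hx) y (mem_zpowers y)).symm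
  have hyM : y ∈ M := hXM hyX
  have hyMs : y ∈ Ms := hEs.1 hy.1
  have hyE : y ∈ E := hME ⟨hyM, hyMs⟩
  have hRE : zpowers y ≤ E ⊓ centralizer (P : Set G) := by
    rw [zpowers_le]; exact ⟨hyE, hy.2⟩
  have h2 := Cfsg.Agent.S1428.result hG M hM E hE p hp P hPE hP (zpowers y) hRE
    (by rw [hRc]; exact hyp)
  have hC : sigmaCore Ms ⊓ centralizer ((zpowers y : Subgroup G) : Set G) ≠ ⊥ := by
    intro h
    apply hX1
    rw [eq_bot_iff, ← h]
    exact fun x hx => ⟨(hXs hx).1, hXR hx⟩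
  have h3 := (bgz_tau2_unique hG hMs hτ (zpowers_le.mpr hyMs) hRc hC).1
  apply hD
  rw [eq_bot_iff, ← hcap]
  intro d hd
  exact ⟨hd.1, h3 (h2 hd).2⟩

end Cfsg.Agent.Helper46
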