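import Cfsg.Agent.Helper20.BG13P4
import Cfsg.Agent.S1403
import Cfsg.Agent.S1420

/-!
# CALL LZ piece T2 (for helper1): S1420(d) for a subgroup of order `r ∈ τ₂(M)`
-/

set_option autoImplicit false

namespace Cfsg.Agent.Helper46

open Cfsg Subgroup

universe u

variable {G : Type u} [Group G] [Finite G]

/-- T2. S1420(d) for a subgroup of order `r ∈ τ₂(M)`. -/
theorem bgz_tau2_unique (hG : IsMinSimpleOddOrder G) {M R : Subgroup G} {r : ℕ} (hM : IsCoatom M)
    (hr : r ∈ tau2 M) (hRM : R ≤ M) (hR : Nat.card R = r)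
    (hC : sigmaCore M ⊓ centralizer (R : Set G) ≠ ⊥) :
    centralizer (R : Set G) ≤ M ∧
      ∀ L : Subgroup G, IsCoatom L → centralizer (R : Set G) ≤ L → L = M := by
  have hU : Cfsg.Agent.Helper22.BGUniq G :=
    fun K hK h1 h2 => Cfsg.Agent.S1403.result hG K hK h1 h2
  have hrp : r.Prime := hr.1
  -- a complement
  obtain ⟨E, hE, -⟩ := Cfsg.Agent.Helper20.bg13_exists_compl_ge hG hU hM (K := ⊥) bot_le
    (by rw [Subgroup.card_bot]; exact Nat.coprime_one_left _)
  -- a generator of `R`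
  have hRp : Fact (Nat.card R).Prime := ⟨by rw [hR]; exact hrp⟩
  have hcyc : IsCyclic R := isCyclic_of_prime_card (p := Nat.card R) rfl
  obtain ⟨g, hg⟩ := hcyc.exists_generator
  have hgo : orderOf g = r := by
    rw [orderOf_eq_card_of_forall_mem_zpowers hg, hR]
  have hxo : orderOf (g : G) = r := by rw [Subgroup.orderOf_coe, hgo]
  have hxR : (g : G) ∈ R := g.2
  have hx1 : (g : G) ≠ 1 := by
    intro h
    rw [← orderOf_eq_one_iff, hxo] at h
    exact hrp.one_lt.ne' h
  -- `C_G(x) = C_G(R)`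
  have hcent : centralizer ({(g : G)} : Set G) = centralizer (R : Set G) := by
    apply le_antisymm
    · intro c hc
      rw [mem_centralizer_iff] at hc ⊢
      intro h hh
      obtain ⟨k, hk⟩ := Subgroup.mem_zpowers_iff.mp (hg ⟨h, hh⟩)
      have hk' : h = (g : G) ^ k := by
        have := congrArg (Subtype.val) hk
        simpa using this.symm
      have hcomm : Commute (g : G) c := hc (g : G) (Set.mem_singleton _)
      rw [hk']
      exact (hcomm.zpow_left k).eq
    · exact Subgroup.centralizer_le (Set.singleton_subset_iff.mpr hxR)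
  -- `x ∈ sigmaHat M`
  obtain ⟨y, hy1⟩ := (Subgroup.ne_bot_iff_exists_ne_one).mp hC
  have hyσ : (y : G) ∈ sigmaCore M := y.2.1
  have hyc : (y : G) ∈ centralizer (R : Set G) := y.2.2
  have hy1' : (y : G) ≠ 1 := fun h => hy1 (Subtype.ext h)
  have hhat : (g : G) ∈ sigmaHat M :=
    ⟨hRM hxR, (y : G), hyσ, hy1', mem_centralizer_iff.mp hyc (g : G) hxR⟩
  have hprimes : ∀ p : ℕ, p.Prime → p ∣ orderOf (g : G) → p ∈ tau2 M := by
    intro p hp hd
    rw [hxo] at hd
    rw [(Nat.prime_dvd_prime_iff_eq hp hrp).mp hd]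
    exact hr
  have h := (Cfsg.Agent.S1420.result hG M hM E hE).2.2.2 (g : G) (hRM hxR) hx1 hprimes hhat
  rw [hcent] at h
  exact h

end Cfsg.Agent.Helper46
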