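import Mathlib

/-!
Helper46: abstract product ("trace") lemmas for Glauberman's theorem on weakly closed elements
of `Z(N(J(S)))`: an abelian `p`-group `A` acting quadratically on a finite invariant set `Ω` of
a commutative group, with a unique fixed point `x`; if the product over `Ω` and the `p`-th powers
lie in a subgroup `Z` of fixed points, then `x ∈ Z` (for `p = 2` under a size condition on the
orbits).
-/

set_option autoImplicit false

namespace Cfsg.Agent.Helper46

/-- pairing by a fixed-point-free translation of order two -/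
theorem wc_prod_pairs {M : Type*} [CommGroup M] [DecidableEq M] (s : M) (hs : s * s = 1)
    (hs1 : s ≠ 1) :
    ∀ (n : ℕ) (D : Finset M), D.card = n → (∀ d ∈ D, d * s ∈ D) → (∀ d ∈ D, d * d = 1) →
      ∏ d ∈ D, d = s ^ (n / 2) ∧ Even n := by
  intro n
  induction n using Nat.strong_induction_on with
  | _ n ih =>
  intro D hn hD hsq
  rcases Finset.eq_empty_or_nonempty D with rfl | ⟨d, hd⟩
  · simp at hn
    subst hn
    simp
  · have hds : d * s ∈ D := hD d hd
    have hne : d * s ≠ d := by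
      intro h
      apply hs1
      have h1 : d * s = d * 1 := by rw [h, mul_one]
      exact mul_left_cancel h1
    have hds' : d * s ∈ D.erase d := Finset.mem_erase.mpr ⟨hne, hds⟩
    have h2 : 2 ≤ D.card := Finset.one_lt_card.mpr ⟨d, hd, d * s, hds, hne.symm⟩
    have hcard : ((D.erase d).erase (d * s)).card = n - 2 := by
      rw [Finset.card_erase_of_mem hds', Finset.card_erase_of_mem hd, hn]
      omega
    have hclosed : ∀ d' ∈ (D.erase d).erase (d * s), d' * s ∈ (D.erase d).erase (d * s) := by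
      intro d' hd'
      rw [Finset.mem_erase, Finset.mem_erase] at hd' ⊢
      refine ⟨?_, ?_, hD d' hd'.2.2⟩
      · intro h
        exact hd'.2.1 (mul_right_cancel h)
      · intro h
        apply hd'.1
        calc d' = d' * (s * s) := by rw [hs, mul_one]
          _ = d' * s * s := by rw [mul_assoc]
          _ = d * s := by rw [h]
    have hsq' : ∀ d' ∈ (D.erase d).erase (d * s), d' * d' = 1 := by
      intro d' hd'
      exact hsq d' (Finset.mem_of_mem_erase (Finset.mem_of_mem_erase hd'))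
    obtain ⟨h3, h4⟩ := ih (n - 2) (by omega) _ hcard hclosed hsq'
    constructor
    · rw [← Finset.mul_prod_erase D (fun d => d) hd,
        ← Finset.mul_prod_erase (D.erase d) (fun d => d) hds', h3]
      have h5 : n / 2 = (n - 2) / 2 + 1 := by omega
      rw [h5, pow_succ]
      calc d * (d * s * s ^ ((n - 2) / 2)) = (d * d) * (s ^ ((n - 2) / 2) * s) := by
            rw [mul_comm (s ^ ((n - 2) / 2)) s, mul_assoc, mul_assoc]
        _ = s ^ ((n - 2) / 2) * s := by rw [hsq d hd, one_mul]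
    · obtain ⟨r, hr⟩ := h4
      exact ⟨r + 1, by omega⟩

/-- a finite inverse-closed set without involutions has product one -/
theorem wc_prod_inv {M : Type*} [CommGroup M] [DecidableEq M] (D : Finset M)
    (hinv : ∀ d ∈ D, d⁻¹ ∈ D) (hne : ∀ d ∈ D, d ≠ 1 → d⁻¹ ≠ d) : ∏ d ∈ D, d = 1 := by
  apply Finset.prod_involution (fun d _ => d⁻¹)
  · intro d _
    exact mul_inv_cancel d
  · intro d hd h
    exact hne d hd h
  · intro d _
    exact inv_inv d
  · intro d hd
    exact hinv d hd

/-- if every orbit product lies in `Z` then so does the product over an invariant set -/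
theorem wc_prod_orbits {M : Type*} [CommGroup M] [DecidableEq M] {A : Type*} [Group A]
    [Fintype A] (φ : A →* MulAut M) (Z : Subgroup M) :
    ∀ (n : ℕ) (Ω : Finset M), Ω.card = n → (∀ a, ∀ y ∈ Ω, φ a y ∈ Ω) →
      (∀ y ∈ Ω, ∏ y' ∈ Finset.univ.image (fun a : A => φ a y), y' ∈ Z) → ∏ y ∈ Ω, y ∈ Z := by
  intro n
  induction n using Nat.strong_induction_on with
  | _ n ih =>
  intro Ω hn hΩ horb
  rcases Finset.eq_empty_or_nonempty Ω with rfl | ⟨y, hy⟩
  · rw [Finset.prod_empty]
    exact Z.one_mem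
  · have hOsub : Finset.univ.image (fun a : A => φ a y) ⊆ Ω := by
      intro y' hy'
      obtain ⟨a, -, rfl⟩ := Finset.mem_image.mp hy'
      exact hΩ a y hy
    have hyO : y ∈ Finset.univ.image (fun a : A => φ a y) :=
      Finset.mem_image.mpr ⟨1, Finset.mem_univ _, by simp⟩
    have hcard : (Ω \ Finset.univ.image (fun a : A => φ a y)).card < n := by
      rw [← hn]
      exact Finset.card_lt_card (Finset.sdiff_ssubset hOsub ⟨y, hyO⟩)
    have hinv : ∀ a, ∀ y' ∈ Ω \ Finset.univ.image (fun a : A => φ a y),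
        φ a y' ∈ Ω \ Finset.univ.image (fun a : A => φ a y) := by
      intro a y' hy'
      rw [Finset.mem_sdiff] at hy' ⊢
      refine ⟨hΩ a y' hy'.1, ?_⟩
      intro h
      obtain ⟨b, -, hb⟩ := Finset.mem_image.mp h
      apply hy'.2
      refine Finset.mem_image.mpr ⟨a⁻¹ * b, Finset.mem_univ _, ?_⟩
      have hb' : φ b y = φ a y' := hb
      rw [map_mul, MulAut.mul_apply, hb', map_inv, MulAut.inv_apply_self]
    have h1 := ih _ hcard (Ω \ Finset.univ.image (fun a : A => φ a y)) rfl hinv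
      (fun y' hy' => horb y' (Finset.mem_sdiff.mp hy').1)
    have h2 := horb y hy
    rw [← Finset.prod_sdiff hOsub]
    exact Z.mul_mem h1 h2

/-- the commutator map `a ↦ y⁻¹ * a • y` of a quadratic action, as a homomorphism -/
def wcDelta {M : Type*} [CommGroup M] {A : Type*} [Group A] (φ : A →* MulAut M) (y : M)
    (h : ∀ a b, φ a (y⁻¹ * φ b y) = y⁻¹ * φ b y) : A →* M where
  toFun a := y⁻¹ * φ a y
  map_one' := by simp
  map_mul' a b := by
    have h1 := h a b
    calc y⁻¹ * φ (a * b) y = y⁻¹ * φ a (y * (y⁻¹ * φ b y)) := by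
          rw [mul_inv_cancel_left, map_mul, MulAut.mul_apply]
      _ = y⁻¹ * (φ a y * (y⁻¹ * φ b y)) := by rw [map_mul, h1]
      _ = (y⁻¹ * φ a y) * (y⁻¹ * φ b y) := by rw [mul_assoc]

theorem wcDelta_apply {M : Type*} [CommGroup M] {A : Type*} [Group A] (φ : A →* MulAut M) (y : M)
    (h : ∀ a b, φ a (y⁻¹ * φ b y) = y⁻¹ * φ b y) (a : A) :
    wcDelta φ y h a = y⁻¹ * φ a y := rfl

/-- the product over a nontrivial orbit lies in `Z` -/
theorem wc_orbit_prod {M : Type*} [CommGroup M] [DecidableEq M] {A : Type*} [Group A]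
    [Fintype A] (φ : A →* MulAut M) (Z : Subgroup M) (hZ : ∀ z ∈ Z, ∀ a, φ a z = z)
    (p : ℕ) [hp : Fact p.Prime] (n : ℕ) (hA : Nat.card A = p ^ n)
    (y : M) (hquad : ∀ a b, φ a (y⁻¹ * φ b y) = y⁻¹ * φ b y) (hpow : y ^ p ∈ Z)
    (a₀ : A) (ha₀ : φ a₀ y ≠ y)
    (hgood : p = 2 → ∃ a, φ a y ≠ y ∧ φ a y ≠ φ a₀ y) :
    ∏ y' ∈ Finset.univ.image (fun a : A => φ a y), y' ∈ Z := by
  have hδa : ∀ a, wcDelta φ y hquad a = y⁻¹ * φ a y := fun a => rfl
  have hmemDF : ∀ d, d ∈ Finset.univ.image (fun a : A => wcDelta φ y hquad a) ↔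
      ∃ a, wcDelta φ y hquad a = d := by
    intro d
    rw [Finset.mem_image]
    simp
  have hO : Finset.univ.image (fun a : A => φ a y) =
      (Finset.univ.image (fun a : A => wcDelta φ y hquad a)).image (fun d => y * d) := by
    rw [Finset.image_image]
    congr 1
    funext a
    simp [hδa]
  rw [hO, Finset.prod_image (fun d₁ _ d₂ _ h => mul_left_cancel h), Finset.prod_mul_distrib,
    Finset.prod_const]
  have hcard : (Finset.univ.image (fun a : A => wcDelta φ y hquad a)).card =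
      Nat.card (wcDelta φ y hquad).range := by
    have h1 : ((wcDelta φ y hquad).range : Set M) =
        ((Finset.univ.image (fun a : A => wcDelta φ y hquad a) : Finset M) : Set M) := by
      ext d
      rw [Finset.mem_coe, hmemDF]
      exact MonoidHom.mem_range
    rw [← Set.ncard_coe_finset, ← h1, ← Nat.card_coe_set_eq]
    rfl
  have hdvd : (Finset.univ.image (fun a : A => wcDelta φ y hquad a)).card ∣ p ^ n := by
    rw [hcard, ← hA]
    exact Subgroup.card_range_dvd _
  obtain ⟨j, -, hDj⟩ := (Nat.dvd_prime_pow hp.out).mp hdvd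
  have hs1 : wcDelta φ y hquad a₀ ≠ 1 := by
    intro h
    apply ha₀
    rw [hδa] at h
    exact (inv_mul_eq_one.mp h).symm
  have h1mem : (1 : M) ∈ Finset.univ.image (fun a : A => wcDelta φ y hquad a) :=
    (hmemDF 1).mpr ⟨1, map_one _⟩
  have hsmem : wcDelta φ y hquad a₀ ∈ Finset.univ.image (fun a : A => wcDelta φ y hquad a) :=
    (hmemDF _).mpr ⟨a₀, rfl⟩
  have hj0 : j ≠ 0 := by
    intro h0
    rw [h0, pow_zero] at hDj
    exact hs1 (Finset.card_le_one.mp hDj.le _ hsmem _ h1mem)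
  have hypow : y ^ (Finset.univ.image (fun a : A => wcDelta φ y hquad a)).card ∈ Z := by
    rw [hDj]
    obtain ⟨j', rfl⟩ := Nat.exists_eq_succ_of_ne_zero hj0
    rw [pow_succ', pow_mul]
    exact Z.pow_mem hpow _
  have hprod1 : ∏ d ∈ Finset.univ.image (fun a : A => wcDelta φ y hquad a), d = 1 := by
    by_cases hp2 : p = 2
    · obtain ⟨a, ha1, ha2⟩ := hgood hp2
      have ht1 : wcDelta φ y hquad a ≠ 1 := by
        intro h
        apply ha1
        rw [hδa] at h
        exact (inv_mul_eq_one.mp h).symm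
      have hts : wcDelta φ y hquad a ≠ wcDelta φ y hquad a₀ := by
        intro h
        apply ha2
        rw [hδa, hδa] at h
        exact mul_left_cancel h
      have htmem : wcDelta φ y hquad a ∈ Finset.univ.image (fun a : A => wcDelta φ y hquad a) :=
        (hmemDF _).mpr ⟨a, rfl⟩
      have hsq : ∀ d ∈ Finset.univ.image (fun a : A => wcDelta φ y hquad a), d * d = 1 := by
        intro d hd
        obtain ⟨b, rfl⟩ := (hmemDF d).mp hd
        rw [hδa]
        have h1 : φ b (y ^ p) = y ^ p := hZ _ hpow b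
        rw [hp2, map_pow] at h1
        calc y⁻¹ * φ b y * (y⁻¹ * φ b y) = (y ^ 2)⁻¹ * (φ b y) ^ 2 := by
              rw [pow_two, pow_two, mul_inv, mul_mul_mul_comm]
          _ = 1 := by rw [h1, inv_mul_cancel]
      have hclosed : ∀ d ∈ Finset.univ.image (fun a : A => wcDelta φ y hquad a),
          d * wcDelta φ y hquad a₀ ∈ Finset.univ.image (fun a : A => wcDelta φ y hquad a) := by
        intro d hd
        obtain ⟨b, rfl⟩ := (hmemDF d).mp hd
        exact (hmemDF _).mpr ⟨b * a₀, map_mul _ b a₀⟩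
      obtain ⟨h3, -⟩ := wc_prod_pairs (wcDelta φ y hquad a₀) (hsq _ hsmem) hs1 _ _ rfl hclosed hsq
      rw [h3, hDj, hp2]
      have h2lt : 2 < (Finset.univ.image (fun a : A => wcDelta φ y hquad a)).card :=
        Finset.two_lt_card.mpr ⟨1, h1mem, _, hsmem, _, htmem, hs1.symm, ht1.symm, hts.symm⟩
      rw [hDj, hp2] at h2lt
      have hj2 : 2 ≤ j := by
        by_contra hj2
        have hj1 : j = 1 := by omega
        rw [hj1] at h2lt
        omega
      obtain ⟨i, rfl⟩ := Nat.exists_eq_add_of_le hj2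
      have h4 : 2 ^ (2 + i) / 2 = 2 * 2 ^ i := by
        rw [pow_add]
        omega
      rw [h4, pow_mul, pow_two, hsq _ hsmem, one_pow]
    · apply wc_prod_inv
      · intro d hd
        obtain ⟨a, rfl⟩ := (hmemDF d).mp hd
        exact (hmemDF _).mpr ⟨a⁻¹, map_inv _ a⟩
      · intro d hd hd1 hdd
        obtain ⟨a, rfl⟩ := (hmemDF d).mp hd
        have h2 : (wcDelta φ y hquad a) ^ 2 = 1 := by
          rw [pow_two]
          nth_rewrite 1 [← hdd]
          exact inv_mul_cancel _
        have h3 : (wcDelta φ y hquad a) ^ (p ^ n) = 1 := by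
          rw [← map_pow, ← hA, pow_card_eq_one', map_one]
        have h5 : Nat.gcd 2 (p ^ n) = 1 :=
          Nat.Coprime.pow_right n ((Nat.coprime_primes Nat.prime_two hp.out).mpr (Ne.symm hp2))
        have h4 : (wcDelta φ y hquad a) ^ (Nat.gcd 2 (p ^ n)) = 1 := pow_gcd_eq_one.mpr ⟨h2, h3⟩
        rw [h5, pow_one] at h4
        exact hd1 h4
  rw [hprod1, mul_one]
  exact hypow

/-- **trace argument**: the unique fixed point lies in `Z` -/
theorem wc_trace {M : Type*} [CommGroup M] {A : Type*} [Group A] [Finite A]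
    (φ : A →* MulAut M) (Z : Subgroup M) (hZ : ∀ z ∈ Z, ∀ a, φ a z = z)
    (p : ℕ) [Fact p.Prime] (n : ℕ) (hA : Nat.card A = p ^ n)
    (Ω : Finset M) (hΩ : ∀ a, ∀ y ∈ Ω, φ a y ∈ Ω)
    (hquad : ∀ y ∈ Ω, ∀ a b, φ a (y⁻¹ * φ b y) = y⁻¹ * φ b y)
    (hpow : ∀ y ∈ Ω, y ^ p ∈ Z)
    (x : M) (hx : x ∈ Ω) (hxfix : ∀ a, φ a x = x)
    (hfix : ∀ y ∈ Ω, (∀ a, φ a y = y) → y = x)
    (hgood : p = 2 → ∀ y ∈ Ω, ∀ a₀, φ a₀ y ≠ y → ∃ a, φ a y ≠ y ∧ φ a y ≠ φ a₀ y)
    (hprod : ∏ y ∈ Ω, y ∈ Z) : x ∈ Z := by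
  classical
  have : Fintype A := Fintype.ofFinite A
  have h1 : ∏ y ∈ Ω.erase x, y ∈ Z := by
    apply wc_prod_orbits φ Z _ (Ω.erase x) rfl
    · intro a y hy
      rw [Finset.mem_erase] at hy ⊢
      refine ⟨?_, hΩ a y hy.2⟩
      intro h
      apply hy.1
      rw [← hxfix a] at h
      exact (φ a).injective h
    · intro y hy
      rw [Finset.mem_erase] at hy
      have hmoved : ∃ a₀, φ a₀ y ≠ y := by
        by_contra hcon
        push Not at hcon
        exact hy.1 (hfix y hy.2 hcon)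
      obtain ⟨a₀, ha₀⟩ := hmoved
      exact wc_orbit_prod φ Z hZ p n hA y (hquad y hy.2) (hpow y hy.2) a₀ ha₀
        (fun hp2 => hgood hp2 y hy.2 a₀ ha₀)
  have h2 : x * ∏ y ∈ Ω.erase x, y = ∏ y ∈ Ω, y := Finset.mul_prod_erase Ω (fun y => y) hx
  have h3 : x = (∏ y ∈ Ω, y) * (∏ y ∈ Ω.erase x, y)⁻¹ := by
    rw [← h2, mul_inv_cancel_right]
  rw [h3]
  exact Z.mul_mem hprod (Z.inv_mem h1)

end Cfsg.Agent.Helper46
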