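import Mathlib
import Cfsg.Agent.Helper33.SylowRel
import Cfsg.Agent.Helper46.ThompsonJA

/-!
Helper46: basic tools for Glauberman's theorem on weakly closed elements of `Z(N(J(S)))`:
conjugate pairs `(gSg⁻¹, gxg⁻¹)` (`WFix`), abelian `p`-subgroups of largest order in `G`
(`WBig`), and elementary facts on `JA`.
-/

set_option autoImplicit false

namespace Cfsg.Agent.Helper46

open Helper33

variable {G : Type*} [Group G]

theorem wc_mem_cent {x k : G} : k ∈ Subgroup.centralizer ({x} : Set G) ↔ x * k = k * x := by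
  rw [Subgroup.mem_centralizer_iff]
  constructor
  · intro h
    exact h x rfl
  · intro h y hy
    rw [Set.mem_singleton_iff] at hy
    rw [hy]
    exact h

theorem wc_cj_le_cent {K : Subgroup G} {x : G} (hK : K ≤ Subgroup.centralizer ({x} : Set G))
    (g : G) : K.map (MulAut.conj g).toMonoidHom ≤ Subgroup.centralizer ({g * x * g⁻¹} : Set G) := by
  intro r hr
  rw [mem_cj] at hr
  have h1 := wc_mem_cent.mp (hK hr)
  rw [wc_mem_cent]
  calc g * x * g⁻¹ * r = g * (x * (g⁻¹ * r * g)) * g⁻¹ := by group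
    _ = g * (g⁻¹ * r * g * x) * g⁻¹ := by rw [h1]
    _ = r * (g * x * g⁻¹) := by group

/-- `R = gSg⁻¹` and `y = gxg⁻¹` for a common `g` -/
def WFix (S : Subgroup G) (x : G) (R : Subgroup G) (y : G) : Prop :=
  ∃ g : G, R = S.map (MulAut.conj g).toMonoidHom ∧ y = g * x * g⁻¹

theorem wFix_self (S : Subgroup G) (x : G) : WFix S x S x :=
  ⟨1, by rw [cj_one], by group⟩

theorem WFix.conj {S R : Subgroup G} {x y : G} (h : WFix S x R y) (n : G) :
    WFix S x (R.map (MulAut.conj n).toMonoidHom) (n * y * n⁻¹) := by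
  obtain ⟨g, rfl, rfl⟩ := h
  exact ⟨n * g, by rw [cj_mul], by group⟩

theorem WFix.isPGroup {p : ℕ} {S R : Subgroup G} {x y : G} (h : WFix S x R y)
    (hS : IsPGroup p S) : IsPGroup p R := by
  obtain ⟨g, rfl, rfl⟩ := h
  exact isPGroup_cj hS g

theorem WFix.card_eq {S R : Subgroup G} {x y : G} (h : WFix S x R y) :
    Nat.card R = Nat.card S := by
  obtain ⟨g, rfl, rfl⟩ := h
  exact card_cj g S

theorem WFix.mem {S R : Subgroup G} {x y : G} (h : WFix S x R y) (hx : x ∈ S) : y ∈ R := by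
  obtain ⟨g, rfl, rfl⟩ := h
  exact cj_mem_cj hx

theorem WFix.le_cent {S R : Subgroup G} {x y : G} (h : WFix S x R y)
    (hS : S ≤ Subgroup.centralizer ({x} : Set G)) :
    R ≤ Subgroup.centralizer ({y} : Set G) := by
  obtain ⟨g, rfl, rfl⟩ := h
  exact wc_cj_le_cent hS g

theorem WFix.normalizer_JA_le {S R : Subgroup G} {x y : G} (h : WFix S x R y)
    (hN : Subgroup.normalizer (JA S : Set G) ≤ Subgroup.centralizer ({x} : Set G)) :
    Subgroup.normalizer (JA R : Set G) ≤ Subgroup.centralizer ({y} : Set G) := by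
  obtain ⟨g, rfl, rfl⟩ := h
  rw [JA_map (MulAut.conj g).toMonoidHom ((MulAut.conj g).injective.injOn), normalizer_cj]
  exact wc_cj_le_cent hN g

theorem WFix.unique [Finite G] {S R : Subgroup G} {x y y' : G} (h : WFix S x R y)
    (h' : WFix S x R y')
    (hN : Subgroup.normalizer (S : Set G) ≤ Subgroup.centralizer ({x} : Set G)) : y = y' := by
  obtain ⟨g, rfl, rfl⟩ := h
  obtain ⟨g', hR, rfl⟩ := h'
  have h1 : g⁻¹ * g' ∈ Subgroup.normalizer (S : Set G) := by
    apply mem_normalizer_of_cj_eq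
    rw [cj_mul, ← hR, cj_inv_cj]
  have h2 := wc_mem_cent.mp (hN h1)
  calc g * x * g⁻¹ = g * (x * (g⁻¹ * g')) * g'⁻¹ := by group
    _ = g * (g⁻¹ * g' * x) * g'⁻¹ := by rw [h2]
    _ = g' * x * g'⁻¹ := by group

/-- a `p`-subgroup centralising a conjugate `gxg⁻¹` lies in a conjugate `R` of `S` paired with it -/
theorem exists_wFix_of_le_cent [Finite G] {p : ℕ} [Fact p.Prime] (S : Sylow p G) (x : G)
    (hS : (S : Subgroup G) ≤ Subgroup.centralizer ({x} : Set G)) (g : G) (P : Subgroup G)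
    (hP : IsPGroup p P) (hPy : P ≤ Subgroup.centralizer ({g * x * g⁻¹} : Set G)) :
    ∃ R : Subgroup G, P ≤ R ∧ WFix (S : Subgroup G) x R (g * x * g⁻¹) := by
  have hTH : (S : Subgroup G).map (MulAut.conj g).toMonoidHom ≤
      Subgroup.centralizer ({g * x * g⁻¹} : Set G) := wc_cj_le_cent hS g
  have hidx : ¬ p ∣ ((S : Subgroup G).map (MulAut.conj g).toMonoidHom).relIndex
      (Subgroup.centralizer ({g * x * g⁻¹} : Set G)) := by
    intro h
    apply S.not_dvd_index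
    have h1 := h.trans (Subgroup.relIndex_dvd_index_of_le hTH)
    have h2 := relIndex_cj g (S : Subgroup G) ⊤
    rw [Subgroup.map_top_of_surjective _ (MulAut.conj g).surjective, Subgroup.relIndex_top_right,
      Subgroup.relIndex_top_right] at h2
    rwa [h2] at h1
  obtain ⟨c, hc, hcP⟩ := exists_cj_le_of_relIndex hTH (isPGroup_cj S.2 g) hidx hPy hP
  refine ⟨(S : Subgroup G).map (MulAut.conj (c⁻¹ * g)).toMonoidHom, ?_, c⁻¹ * g, rfl, ?_⟩
  · rw [cj_mul]
    exact (cj_le_iff c).mp hcP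
  · have h1 := wc_mem_cent.mp hc
    calc g * x * g⁻¹ = c⁻¹ * (c * (g * x * g⁻¹)) := by group
      _ = c⁻¹ * (g * x * g⁻¹ * c) := by rw [h1]
      _ = c⁻¹ * g * x * (c⁻¹ * g)⁻¹ := by group

/-- an abelian `p`-subgroup of largest order among the abelian `p`-subgroups of `G` -/
def WBig (p : ℕ) (A : Subgroup G) : Prop :=
  IsPGroup p A ∧ Ab A ∧ ∀ B : Subgroup G, IsPGroup p B → Ab B → Nat.card B ≤ Nat.card A

theorem wBig_of_maxAb [Finite G] {p : ℕ} [Fact p.Prime] (S : Sylow p G) {A : Subgroup G}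
    (hA : MaxAb (S : Subgroup G) A) : WBig p A := by
  refine ⟨S.2.to_le hA.1, hA.2.1, ?_⟩
  intro B hB hBab
  obtain ⟨c, hc⟩ := exists_cj_le_sylow S hB
  have h1 := hA.2.2 _ hc (hBab.map _)
  rwa [card_cj] at h1

theorem WBig.maxAb {p : ℕ} {A Y : Subgroup G} (hA : WBig p A) (hAY : A ≤ Y)
    (hY : IsPGroup p Y) : MaxAb Y A :=
  ⟨hAY, hA.2.1, fun B hB hBab => hA.2.2 B (hY.to_le hB) hBab⟩

theorem WBig.le_JA {p : ℕ} {A Y : Subgroup G} (hA : WBig p A) (hAY : A ≤ Y)
    (hY : IsPGroup p Y) : A ≤ JA Y :=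
  le_sSup (hA.maxAb hAY hY)

theorem WBig.of_card {p : ℕ} {A B : Subgroup G} (hA : WBig p A) (hB : IsPGroup p B)
    (hBab : Ab B) (hcard : Nat.card A ≤ Nat.card B) : WBig p B :=
  ⟨hB, hBab, fun C hC hCab => (hA.2.2 C hC hCab).trans hcard⟩

theorem JA_mono_of_wBig {p : ℕ} {A X Y : Subgroup G} (hA : WBig p A) (hAX : A ≤ X)
    (hXY : X ≤ Y) (hY : IsPGroup p Y) : JA X ≤ JA Y := by
  apply sSup_le
  intro A' hA'
  have hX : IsPGroup p X := hY.to_le hXY
  have h1 : Nat.card A ≤ Nat.card A' := hA'.2.2 A hAX hA.2.1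
  have h2 : WBig p A' := hA.of_card (hX.to_le hA'.1) hA'.2.1 h1
  exact h2.le_JA (hA'.1.trans hXY) hY

/-- an element of `X` centralising a largest abelian subgroup `A` of `X` lies in `A` -/
theorem mem_of_maxAb_of_commute [Finite G] {X A : Subgroup G} (hA : MaxAb X A) {u : G}
    (hu : u ∈ X) (hc : ∀ a ∈ A, u * a = a * u) : u ∈ A := by
  have h1 : Ab (A ⊔ Subgroup.zpowers u) := by
    apply ab_sup hA.2.1 (ab_zpowers u)
    intro a ha b hb
    obtain ⟨i, rfl⟩ := Subgroup.mem_zpowers_iff.mp hb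
    have h0 : Commute a u := (hc a ha).symm
    exact (h0.zpow_right i).eq
  have h2 := hA.2.2 _ (sup_le hA.1 (Subgroup.zpowers_le.mpr hu)) h1
  have h3 : A = A ⊔ Subgroup.zpowers u := Subgroup.eq_of_le_of_card_ge le_sup_left h2
  rw [h3]
  exact Subgroup.mem_sup_right (Subgroup.mem_zpowers u)

theorem mem_JA_of_commute [Finite G] {X : Subgroup G} {u : G} (hu : u ∈ X)
    (hc : ∀ a ∈ X, u * a = a * u) : u ∈ JA X := by
  obtain ⟨A, hA⟩ := exists_maxAb X
  exact (le_sSup hA : A ≤ JA X) (mem_of_maxAb_of_commute hA hu (fun a ha => hc a (hA.1 ha)))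

/-- a `p`-subgroup of `N` lies in a Sylow `p`-subgroup of `N` (in the `relIndex` language) -/
theorem exists_sylow_ge_in [Finite G] {p : ℕ} [Fact p.Prime] {N Q : Subgroup G} (hQN : Q ≤ N)
    (hQ : IsPGroup p Q) :
    ∃ P : Subgroup G, Q ≤ P ∧ P ≤ N ∧ IsPGroup p P ∧ ¬ p ∣ P.relIndex N := by
  have hQ' : IsPGroup p (Q.subgroupOf N) := hQ.comap_subtype
  obtain ⟨R', hR'⟩ := hQ'.exists_le_sylow
  refine ⟨(R' : Subgroup N).map N.subtype, ?_, Subgroup.map_subtype_le _, R'.2.map _, ?_⟩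
  · intro x hx
    have h1 : (⟨x, hQN hx⟩ : N) ∈ (R' : Subgroup N) := hR' (Subgroup.mem_subgroupOf.mpr hx)
    exact ⟨⟨x, hQN hx⟩, h1, rfl⟩
  · have hRsub : ((R' : Subgroup N).map N.subtype).subgroupOf N = (R' : Subgroup N) :=
      Subgroup.comap_map_eq_self_of_injective (Subgroup.subtype_injective N) _
    show ¬ p ∣ (((R' : Subgroup N).map N.subtype).subgroupOf N).index
    rw [hRsub]
    exact R'.not_dvd_index

end Cfsg.Agent.Helper46
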