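import Mathlib
import Cfsg.Prelude.Def_LocalEven
import Cfsg.Agent.Helper33.SylowRel
import Cfsg.Agent.Helper19.ThompsonNPC
import Cfsg.Agent.Helper46.Involves
import Cfsg.Agent.Helper46.ThompsonJA
import Cfsg.Agent.Helper46.WeakB

/-!
Helper46: Glauberman's theorem on weakly closed elements of `Z(N(J(S)))`, local case, part 1:
the induction hypothesis in subgroup form, and the "singleton property": a largest abelian
`p`-subgroup not centralising the normal closure `V` of `x` centralises at most one conjugate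
of `x`.
-/

set_option autoImplicit false

namespace Cfsg.Agent.Helper46

open Cfsg Helper33

universe u

/-- the normal closure of `x` -/
abbrev wcV {G : Type*} [Group G] (x : G) : Subgroup G := Subgroup.normalClosure ({x} : Set G)

/-- the centralizer of the normal closure of `x` -/
abbrev wcC {G : Type*} [Group G] (x : G) : Subgroup G :=
  Subgroup.centralizer ((Subgroup.normalClosure ({x} : Set G) : Subgroup G) : Set G)

/-- the side condition of Glauberman's theorem -/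
def WCond (p : ℕ) {Γ : Type u} [Group Γ] (S : Subgroup Γ) (x : Γ) : Prop :=
  p ≠ 2 ∨ (∃ w ∈ S, w ∈ Subgroup.centralizer (S : Set Γ) ∧ w ^ p = x) ∨
    ¬ Involves (Equiv.Perm (Fin 4)) Γ

/-- Glauberman's weak closure statement for one group -/
def WCStmt (p : ℕ) (Γ : Type u) [Group Γ] : Prop :=
  ∀ (S : Sylow p Γ) (x : Γ), x ∈ (S : Subgroup Γ) →
    Subgroup.normalizer (JA (S : Subgroup Γ) : Set Γ) ≤ Subgroup.centralizer ({x} : Set Γ) →
    WCond p (S : Subgroup Γ) x →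
    ∀ g : Γ, g * x * g⁻¹ ∈ (S : Subgroup Γ) → g * x * g⁻¹ = x

/-- the induction hypothesis, for a proper subgroup `N` with Sylow `p`-subgroup `P` -/
theorem wc_ih_sub {p : ℕ} [Fact p.Prime] {G : Type u} [Group G] [Finite G]
    (IH : ∀ (G' : Type u) [Group G'] [Finite G'], Nat.card G' < Nat.card G → WCStmt p G')
    (N P : Subgroup G) (hN : N ≠ ⊤) (hPN : P ≤ N) (hP : IsPGroup p P)
    (hidx : ¬ p ∣ P.relIndex N) (y : G) (hy : y ∈ P)
    (hNJ : N ⊓ Subgroup.normalizer (JA P : Set G) ≤ Subgroup.centralizer ({y} : Set G))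
    (hcond : p ≠ 2 ∨ (∃ w ∈ P, w ∈ Subgroup.centralizer (P : Set G) ∧ w ^ p = y) ∨
      ¬ Involves (Equiv.Perm (Fin 4)) G)
    (n : G) (hn : n ∈ N) (hny : n * y * n⁻¹ ∈ P) : n * y * n⁻¹ = y := by
  have hlt : Nat.card N < Nat.card G := Helper19.card_lt_of_ne_top hN
  let P' : Sylow p N := (hP.comap_subtype (K := N)).toSylow hidx
  have hP' : (P' : Subgroup N) = P.subgroupOf N := rfl
  have hmap : (P.subgroupOf N).map N.subtype = P := Subgroup.map_subgroupOf_eq_of_le hPN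
  have hyN : y ∈ N := hPN hy
  have key := IH N hlt P' ⟨y, hyN⟩ ?_ ?_ ?_ ⟨n, hn⟩ ?_
  · exact congrArg Subtype.val key
  · show (⟨y, hyN⟩ : N) ∈ P.subgroupOf N
    exact Subgroup.mem_subgroupOf.mpr hy
  · intro m hm
    rw [wc_mem_cent]
    apply Subtype.ext
    have h1 : (m : G) ∈ Subgroup.normalizer (JA P : Set G) := by
      have h2 := Subgroup.le_normalizer_map (H := JA (P' : Subgroup N)) N.subtype
      have h3 : (JA (P' : Subgroup N)).map N.subtype = JA P := by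
        rw [← JA_map N.subtype N.subtype_injective.injOn, hP', hmap]
      rw [h3] at h2
      exact h2 ⟨m, hm, rfl⟩
    exact wc_mem_cent.mp (hNJ ⟨m.2, h1⟩)
  · rcases hcond with h | ⟨w, hwP, hwc, hwy⟩ | h
    · exact Or.inl h
    · refine Or.inr (Or.inl ⟨⟨w, hPN hwP⟩, ?_, ?_, ?_⟩)
      · show (⟨w, hPN hwP⟩ : N) ∈ P.subgroupOf N
        exact Subgroup.mem_subgroupOf.mpr hwP
      · rw [Subgroup.mem_centralizer_iff]
        intro z hz
        have hz' : (z : G) ∈ P := Subgroup.mem_subgroupOf.mp hz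
        exact Subtype.ext (Subgroup.mem_centralizer_iff.mp hwc z hz')
      · exact Subtype.ext hwy
    · exact Or.inr (Or.inr (fun hM => h (involves_of_subgroup N hM)))
  · show (⟨n, hn⟩ * ⟨y, hyN⟩ * ⟨n, hn⟩⁻¹ : N) ∈ P.subgroupOf N
    exact Subgroup.mem_subgroupOf.mpr hny

/-- the local situation: the normal closure of `x` is a `p`-group -/
structure WcLocal (p : ℕ) [Fact p.Prime] {G : Type u} [Group G] [Finite G] (S : Sylow p G)
    (x : G) : Prop where
  mem : x ∈ (S : Subgroup G)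
  norm : Subgroup.normalizer (JA (S : Subgroup G) : Set G) ≤ Subgroup.centralizer ({x} : Set G)
  pgrp : IsPGroup p (wcV x)
  cond : WCond p (S : Subgroup G) x
  ih : ∀ (G' : Type u) [Group G'] [Finite G'], Nat.card G' < Nat.card G → WCStmt p G'

section

variable {p : ℕ} [Fact p.Prime] {G : Type u} [Group G] [Finite G] {S : Sylow p G} {x : G}

theorem WcLocal.S_le (h : WcLocal p S x) :
    (S : Subgroup G) ≤ Subgroup.centralizer ({x} : Set G) :=
  (Subgroup.le_normalizer.trans (normalizer_le_normalizer_JA _)).trans h.norm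

theorem WcLocal.NS_le (h : WcLocal p S x) :
    Subgroup.normalizer ((S : Subgroup G) : Set G) ≤ Subgroup.centralizer ({x} : Set G) :=
  (normalizer_le_normalizer_JA _).trans h.norm

theorem WcLocal.V_le_S (h : WcLocal p S x) : wcV x ≤ (S : Subgroup G) :=
  normal_pgroup_le_sylow' _ h.pgrp S

omit [Fact p.Prime] [Finite G] in
theorem wc_conj_mem_V (x g : G) : g * x * g⁻¹ ∈ wcV x :=
  (Subgroup.normalClosure_normal (s := ({x} : Set G))).conj_mem _
    (Subgroup.subset_normalClosure rfl) g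

theorem WcLocal.V_le_of_wFix (h : WcLocal p S x) {R : Subgroup G} {y : G}
    (hR : WFix (S : Subgroup G) x R y) : wcV x ≤ R := by
  obtain ⟨g, rfl, rfl⟩ := hR
  intro v hv
  rw [mem_cj]
  apply h.V_le_S
  have h1 := (Subgroup.normalClosure_normal (s := ({x} : Set G))).conj_mem v hv g⁻¹
  simpa using h1

/-- a normal `p`-subgroup centralises `V` -/
theorem WcLocal.normal_le_C (h : WcLocal p S x) (X : Subgroup G) [hX : X.Normal]
    (hXp : IsPGroup p X) : X ≤ wcC x := by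
  have h1 : X ≤ (S : Subgroup G) := normal_pgroup_le_sylow' X hXp S
  have h2 : x ∈ Subgroup.centralizer (X : Set G) := by
    rw [Subgroup.mem_centralizer_iff]
    intro z hz
    exact (wc_mem_cent.mp (h.S_le (h1 hz))).symm
  have h3 : wcV x ≤ Subgroup.centralizer (X : Set G) :=
    Subgroup.normalClosure_le_normal (Set.singleton_subset_iff.mpr h2)
  exact Subgroup.le_centralizer_iff.mp h3

theorem WcLocal.V_ab (h : WcLocal p S x) : Ab (wcV x) := by
  have h1 := h.normal_le_C (wcV x) h.pgrp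
  intro a ha b hb
  exact Subgroup.mem_centralizer_iff.mp (h1 hb) a ha

/-- no "bad pair" with intersection of order larger than `d` -/
def WNoBad (p : ℕ) {G : Type u} [Group G] (S : Subgroup G) (x : G) (d : ℕ) : Prop :=
  ∀ (R : Subgroup G) (y : G) (R' : Subgroup G) (y' : G) (A' : Subgroup G),
    WFix S x R y → WFix S x R' y' → y ≠ y' → WBig p A' → ¬ A' ≤ wcC x → A' ≤ R → A' ≤ R' →
    Nat.card (R ⊓ R' : Subgroup G) ≤ d

theorem wc_sl1 (_h : WcLocal p S x) {d : ℕ} (hmax : WNoBad p (S : Subgroup G) x d)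
    (X R : Subgroup G) (y : G) (hR : WFix (S : Subgroup G) x R y) (A' : Subgroup G)
    (hA' : WBig p A') (hA'C : ¬ A' ≤ wcC x)
    (hA'R : A' ≤ R ⊓ Subgroup.normalizer (X : Set G))
    (hd : d < Nat.card (R ⊓ Subgroup.normalizer (X : Set G) : Subgroup G)) :
    ∃ P R' : Subgroup G, R ⊓ Subgroup.normalizer (X : Set G) ≤ P ∧
      ¬ p ∣ P.relIndex (Subgroup.normalizer (X : Set G)) ∧
      WFix (S : Subgroup G) x R' y ∧ P = R' ⊓ Subgroup.normalizer (X : Set G) := by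
  have hRp : IsPGroup p R := hR.isPGroup S.2
  obtain ⟨P, hQP, hPN, hPp, hPidx⟩ := exists_sylow_ge_in
    (inf_le_right : R ⊓ Subgroup.normalizer (X : Set G) ≤ _) (hRp.to_le inf_le_left)
  obtain ⟨c, hc⟩ := exists_cj_le_sylow S hPp
  have hPR' : P ≤ (S : Subgroup G).map (MulAut.conj c⁻¹).toMonoidHom := (cj_le_iff c).mp hc
  have hR' : WFix (S : Subgroup G) x ((S : Subgroup G).map (MulAut.conj c⁻¹).toMonoidHom)
      (c⁻¹ * x * c⁻¹⁻¹) := ⟨c⁻¹, rfl, rfl⟩
  have hyy : y = c⁻¹ * x * c⁻¹⁻¹ := by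
    by_contra hne
    have h1 := hmax R y _ _ A' hR hR' hne hA' hA'C (hA'R.trans inf_le_left)
      ((hA'R.trans hQP).trans hPR')
    have h2 : Nat.card (R ⊓ Subgroup.normalizer (X : Set G) : Subgroup G) ≤
        Nat.card (R ⊓ (S : Subgroup G).map (MulAut.conj c⁻¹).toMonoidHom : Subgroup G) :=
      Subgroup.card_le_of_le (le_inf inf_le_left (hQP.trans hPR'))
    omega
  rw [← hyy] at hR'
  refine ⟨P, _, hQP, hPidx, hR', ?_⟩
  apply Subgroup.eq_of_le_of_card_ge (le_inf hPR' hPN)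
  exact card_le_of_relIndex hPN hPp hPidx inf_le_right ((hR'.isPGroup S.2).to_le inf_le_left)

theorem wc_sl2 (h : WcLocal p S x) (X R' : Subgroup G) (y : G)
    (hX : Subgroup.normalizer (X : Set G) ≠ ⊤)
    (hR' : WFix (S : Subgroup G) x R' y) (hXR' : X ≤ R')
    (hidx : ¬ p ∣ (R' ⊓ Subgroup.normalizer (X : Set G)).relIndex
      (Subgroup.normalizer (X : Set G)))
    (n : G) (hn : n ∈ Subgroup.normalizer (X : Set G)) (hny : n * y * n⁻¹ ≠ y) :
    ∃ m ∈ Subgroup.normalizer (X : Set G),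
      m ∈ Subgroup.normalizer (JA (R' ⊓ Subgroup.normalizer (X : Set G)) : Set G) ∧
      m * y * m⁻¹ ≠ y := by
  by_contra hcon
  push Not at hcon
  apply hny
  have hR'c : R' ≤ Subgroup.centralizer ({y} : Set G) := hR'.le_cent h.S_le
  have hyR' : y ∈ R' := hR'.mem h.mem
  have hR'p : IsPGroup p R' := hR'.isPGroup S.2
  have hcX : ∀ z ∈ R', (∀ r ∈ R', z * r = r * z) → z ∈ Subgroup.normalizer (X : Set G) := by
    intro z _ hzc
    apply Subgroup.centralizer_le_normalizer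
    rw [Subgroup.mem_centralizer_iff]
    intro r hr
    exact (hzc r (hXR' hr)).symm
  have hyN : y ∈ Subgroup.normalizer (X : Set G) :=
    hcX y hyR' (fun r hr => wc_mem_cent.mp (hR'c hr))
  have hVR' : wcV x ≤ R' := h.V_le_of_wFix hR'
  obtain ⟨g, hg1, hg2⟩ := hR'
  apply wc_ih_sub h.ih (Subgroup.normalizer (X : Set G)) (R' ⊓ Subgroup.normalizer (X : Set G)) hX
    inf_le_right (hR'p.to_le inf_le_left) hidx y ⟨hyR', hyN⟩ ?_ ?_ n hn ?_
  · rintro m ⟨hm1, hm2⟩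
    rw [wc_mem_cent]
    have h1 := hcon m hm1 hm2
    calc y * m = (m * y * m⁻¹) * m := by rw [h1]
      _ = m * y := by group
  · rcases h.cond with hc | ⟨w, hwS, hwc, hwx⟩ | hc
    · exact Or.inl hc
    · have h1 : g * w * g⁻¹ ∈ R' := by
        rw [hg1]
        exact cj_mem_cj hwS
      have h2 : ∀ r ∈ R', (g * w * g⁻¹) * r = r * (g * w * g⁻¹) := by
        intro r hr
        rw [hg1, mem_cj] at hr
        have h3 := Subgroup.mem_centralizer_iff.mp hwc _ hr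
        calc g * w * g⁻¹ * r = g * (w * (g⁻¹ * r * g)) * g⁻¹ := by group
          _ = g * ((g⁻¹ * r * g) * w) * g⁻¹ := by rw [h3]
          _ = r * (g * w * g⁻¹) := by group
      refine Or.inr (Or.inl ⟨g * w * g⁻¹, ⟨h1, hcX _ h1 h2⟩, ?_, ?_⟩)
      · rw [Subgroup.mem_centralizer_iff]
        intro r hr
        exact (h2 r hr.1).symm
      · rw [hg2, ← hwx, conj_pow]
    · exact Or.inr (Or.inr hc)
  · refine ⟨?_, Subgroup.mul_mem _ (Subgroup.mul_mem _ hn hyN) (Subgroup.inv_mem _ hn)⟩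
    apply hVR'
    rw [hg2]
    have h1 : n * (g * x * g⁻¹) * n⁻¹ = (n * g) * x * (n * g)⁻¹ := by group
    rw [h1]
    exact wc_conj_mem_V x _

theorem wc_chain (h : WcLocal p S x) {d : ℕ} (hmax : WNoBad p (S : Subgroup G) x d)
    (A' : Subgroup G) (hA' : WBig p A') (hA'C : ¬ A' ≤ wcC x) (y : G) :
    ∀ (k : ℕ) (P R : Subgroup G) (m : G), WFix (S : Subgroup G) x R y → P ≤ R →
      d < Nat.card P → A' ≤ P → m ∈ Subgroup.normalizer (JA P : Set G) → m * y * m⁻¹ ≠ y →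
      Nat.card G - Nat.card (JA P) = k → False := by
  intro k
  induction k using Nat.strong_induction_on with
  | _ k ih =>
  intro P R m hR hPR hdP hA'P hm hmy hk
  have hRp : IsPGroup p R := hR.isPGroup S.2
  have hPp : IsPGroup p P := hRp.to_le hPR
  have hPN : P ≤ Subgroup.normalizer (JA P : Set G) :=
    Subgroup.le_normalizer.trans (normalizer_le_normalizer_JA P)
  have hA'X : A' ≤ JA P := hA'.le_JA hA'P hPp
  have hXP : JA P ≤ P := JA_le P
  have hXtop : Subgroup.normalizer (JA P : Set G) ≠ ⊤ := by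
    intro htop
    have hXn : (JA P).Normal := Subgroup.normalizer_eq_top_iff.mp htop
    exact hA'C (hA'X.trans (h.normal_le_C (JA P) (hPp.to_le hXP)))
  have hPle : P ≤ R ⊓ Subgroup.normalizer (JA P : Set G) := le_inf hPR hPN
  obtain ⟨P', R', hQP', hP'idx, hR', hP'eq⟩ := wc_sl1 h hmax (JA P) R y hR A' hA' hA'C
    (hA'P.trans hPle) (lt_of_lt_of_le hdP (Subgroup.card_le_of_le hPle))
  have hPP' : P ≤ P' := hPle.trans hQP'
  have hP'R' : P' ≤ R' := hP'eq.le.trans inf_le_left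
  have hR'p : IsPGroup p R' := hR'.isPGroup S.2
  have hP'p : IsPGroup p P' := hR'p.to_le hP'R'
  rw [hP'eq] at hP'idx
  obtain ⟨m', -, hm'J, hm'y⟩ := wc_sl2 h (JA P) R' y hXtop hR'
    ((hXP.trans hPP').trans hP'R') hP'idx m hm hmy
  rw [← hP'eq] at hm'J
  have hmono : JA P ≤ JA P' := JA_mono_of_wBig hA' hA'P hPP' hP'p
  by_cases heq : JA P = JA P'
  · have hP'R'eq : P' = R' := by
      by_contra hne
      have hlt := lt_inf_normalizer hR'p hP'R' hne
      have h1 : R' ⊓ Subgroup.normalizer (P' : Set G) ≤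
          R' ⊓ Subgroup.normalizer (JA P : Set G) :=
        inf_le_inf le_rfl (by rw [heq]; exact normalizer_le_normalizer_JA P')
      exact absurd (lt_of_lt_of_le hlt (h1.trans hP'eq.ge)) (lt_irrefl _)
    have h1 : m ∈ Subgroup.normalizer (JA R' : Set G) := by
      rw [← hP'R'eq, ← heq]
      exact hm
    have h2 := wc_mem_cent.mp (hR'.normalizer_JA_le h.norm h1)
    apply hmy
    calc m * y * m⁻¹ = (y * m) * m⁻¹ := by rw [h2]
      _ = y := by group
  · have hlt : Nat.card (JA P) < Nat.card (JA P') :=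
      card_lt_card_of_lt (lt_of_le_of_ne hmono heq)
    have hle : Nat.card (JA P') ≤ Nat.card G := Subgroup.card_le_card_group _
    exact ih (Nat.card G - Nat.card (JA P')) (by omega) P' R' m' hR' hP'R'
      (lt_of_lt_of_le hdP (Subgroup.card_le_of_le hPP')) (hA'P.trans hPP') hm'J hm'y rfl

/-- **singleton property**: there is no bad pair -/
theorem wc_no_bad (h : WcLocal p S x) :
    ∀ (k : ℕ) (R₁ : Subgroup G) (y₁ : G) (R₂ : Subgroup G) (y₂ : G) (A' : Subgroup G),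
      WFix (S : Subgroup G) x R₁ y₁ → WFix (S : Subgroup G) x R₂ y₂ → y₁ ≠ y₂ → WBig p A' →
      ¬ A' ≤ wcC x → A' ≤ R₁ → A' ≤ R₂ →
      Nat.card G - Nat.card (R₁ ⊓ R₂ : Subgroup G) = k → False := by
  intro k
  induction k using Nat.strong_induction_on with
  | _ k ih =>
  intro R₁ y₁ R₂ y₂ A' hR₁ hR₂ hy hA' hA'C hA'R₁ hA'R₂ hk
  have hmax : WNoBad p (S : Subgroup G) x (Nat.card (R₁ ⊓ R₂ : Subgroup G)) := by
    intro R y R' y' A'' hR hR' hne hA'' hA''C hA''R hA''R'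
    by_contra hgt
    push Not at hgt
    have hle : Nat.card (R ⊓ R' : Subgroup G) ≤ Nat.card G := Subgroup.card_le_card_group _
    exact ih (Nat.card G - Nat.card (R ⊓ R' : Subgroup G)) (by omega) R y R' y' A'' hR hR' hne
      hA'' hA''C hA''R hA''R' rfl
  have hR₁p := hR₁.isPGroup S.2
  have hR₂p := hR₂.isPGroup S.2
  have hDp : IsPGroup p (R₁ ⊓ R₂ : Subgroup G) := hR₁p.to_le inf_le_left
  have hA'D : A' ≤ R₁ ⊓ R₂ := le_inf hA'R₁ hA'R₂
  have hDtop : Subgroup.normalizer ((R₁ ⊓ R₂ : Subgroup G) : Set G) ≠ ⊤ := by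
    intro htop
    have hDn : (R₁ ⊓ R₂).Normal := Subgroup.normalizer_eq_top_iff.mp htop
    exact hA'C (hA'D.trans (h.normal_le_C (R₁ ⊓ R₂) hDp))
  have hDR₁ : R₁ ⊓ R₂ ≠ R₁ := by
    intro heq
    have h1 : R₁ ≤ R₂ := inf_eq_left.mp heq
    have h2 : R₁ = R₂ := Subgroup.eq_of_le_of_card_ge h1 (by rw [hR₁.card_eq, hR₂.card_eq])
    rw [h2] at hR₁
    exact hy (hR₁.unique hR₂ h.NS_le)
  have hDR₂ : R₁ ⊓ R₂ ≠ R₂ := by
    intro heq
    have h1 : R₂ ≤ R₁ := inf_eq_right.mp heq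
    have h2 : R₂ = R₁ := Subgroup.eq_of_le_of_card_ge h1 (by rw [hR₁.card_eq, hR₂.card_eq])
    rw [h2] at hR₂
    exact hy (hR₁.unique hR₂ h.NS_le)
  have hlt₁ := lt_inf_normalizer hR₁p (inf_le_left : R₁ ⊓ R₂ ≤ R₁) hDR₁
  have hlt₂ := lt_inf_normalizer hR₂p (inf_le_right : R₁ ⊓ R₂ ≤ R₂) hDR₂
  have hc₁ := card_lt_card_of_lt hlt₁
  have hc₂ := card_lt_card_of_lt hlt₂
  obtain ⟨P₁, R₁', hQP₁, hP₁idx, hR₁', hP₁eq⟩ := wc_sl1 h hmax (R₁ ⊓ R₂) R₁ y₁ hR₁ A' hA' hA'C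
    (hA'D.trans hlt₁.le) hc₁
  obtain ⟨P₂, R₂', hQP₂, hP₂idx, hR₂', hP₂eq⟩ := wc_sl1 h hmax (R₁ ⊓ R₂) R₂ y₂ hR₂ A' hA' hA'C
    (hA'D.trans hlt₂.le) hc₂
  have hP₁R₁' : P₁ ≤ R₁' := hP₁eq.le.trans inf_le_left
  have hP₂R₂' : P₂ ≤ R₂' := hP₂eq.le.trans inf_le_left
  have hP₁N : P₁ ≤ Subgroup.normalizer ((R₁ ⊓ R₂ : Subgroup G) : Set G) :=
    hP₁eq.le.trans inf_le_right
  have hP₂N : P₂ ≤ Subgroup.normalizer ((R₁ ⊓ R₂ : Subgroup G) : Set G) :=
    hP₂eq.le.trans inf_le_right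
  have hP₁p : IsPGroup p P₁ := (hR₁'.isPGroup S.2).to_le hP₁R₁'
  have hP₂p : IsPGroup p P₂ := (hR₂'.isPGroup S.2).to_le hP₂R₂'
  obtain ⟨n, hn, hnP⟩ := exists_cj_le_of_relIndex hP₁N hP₁p hP₁idx hP₂N hP₂p
  have hR₁'' := hR₁'.conj n⁻¹
  have hP₂R : P₂ ≤ R₁'.map (MulAut.conj n⁻¹).toMonoidHom := (cj_le_iff n).mp (hnP.trans hP₁R₁')
  have hmove : n⁻¹ * y₁ * n⁻¹⁻¹ = y₂ := by
    by_contra hne
    have h1 := hmax _ _ R₂' y₂ A' hR₁'' hR₂' hne hA' hA'C
      (((hA'D.trans hlt₂.le).trans hQP₂).trans hP₂R)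
      (((hA'D.trans hlt₂.le).trans hQP₂).trans hP₂R₂')
    have h2 : Nat.card (R₂ ⊓ Subgroup.normalizer ((R₁ ⊓ R₂ : Subgroup G) : Set G) : Subgroup G) ≤
        Nat.card (R₁'.map (MulAut.conj n⁻¹).toMonoidHom ⊓ R₂' : Subgroup G) :=
      Subgroup.card_le_of_le (hQP₂.trans (le_inf hP₂R hP₂R₂'))
    omega
  have hmove' : n⁻¹ * y₁ * n⁻¹⁻¹ ≠ y₁ := by
    rw [hmove]
    exact hy.symm
  have hDR₁' : R₁ ⊓ R₂ ≤ R₁' := (hlt₁.le.trans hQP₁).trans hP₁R₁'
  rw [hP₁eq] at hP₁idx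
  obtain ⟨m, -, hmJ, hmy⟩ := wc_sl2 h (R₁ ⊓ R₂) R₁' y₁ hDtop hR₁' hDR₁' hP₁idx n⁻¹
    (Subgroup.inv_mem _ hn) hmove'
  rw [← hP₁eq] at hmJ
  exact wc_chain h hmax A' hA' hA'C y₁ _ P₁ R₁' m hR₁' hP₁R₁'
    (lt_of_lt_of_le hc₁ (Subgroup.card_le_of_le hQP₁)) ((hA'D.trans hlt₁.le).trans hQP₁) hmJ hmy
    rfl

/-- a largest abelian `p`-subgroup not centralising `V` centralises at most one conjugate of
`x` -/
theorem wc_unique_of_big (h : WcLocal p S x) (B : Subgroup G) (hB : WBig p B)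
    (hBC : ¬ B ≤ wcC x) (g₁ g₂ : G)
    (h1 : B ≤ Subgroup.centralizer ({g₁ * x * g₁⁻¹} : Set G))
    (h2 : B ≤ Subgroup.centralizer ({g₂ * x * g₂⁻¹} : Set G)) :
    g₁ * x * g₁⁻¹ = g₂ * x * g₂⁻¹ := by
  obtain ⟨R₁, hBR₁, hR₁⟩ := exists_wFix_of_le_cent S x h.S_le g₁ B hB.1 h1
  obtain ⟨R₂, hBR₂, hR₂⟩ := exists_wFix_of_le_cent S x h.S_le g₂ B hB.1 h2
  by_contra hne
  exact wc_no_bad h _ R₁ _ R₂ _ B hR₁ hR₂ hne hB hBC hBR₁ hBR₂ rfl

end

end Cfsg.Agent.Helper46
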