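import Mathlib
import Cfsg.Agent.Helper10.Thompson
import Cfsg.Agent.Helper33.SylowRel
import Cfsg.Agent.Helper41.BaerSuzuki
import Cfsg.Agent.Helper46.Basic
import Cfsg.Agent.Helper46.SFourE
import Cfsg.Agent.Helper46.TwoEndA

/-!
Helper46: tools for the `S₄`-free case of Glauberman's theorem on weakly closed elements:

* `wc_sfour_of_transvection`: a variant of `twoEnd_sfour_of_transvection` (`TwoEndB.lean`)
  without the odd-order normal section and for an abelian (not necessarily elementary) `V`;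
* `wc_involution_inverts`: an involution outside every normal `2`-subgroup inverts a nontrivial
  element of odd order (copied from helper41's `Cfsg/Agent/S0200.lean`, with
  `wc_isPGroup_closure_pair`);
* `wc_exists_odd_comm`: the resulting commutator of odd order modulo a normal subgroup.
-/

set_option autoImplicit false

namespace Cfsg.Agent.Helper46

open Cfsg

universe u

set_option maxHeartbeats 1600000 in
theorem wc_sfour_of_transvection {G : Type u} [Group G] [Finite G]
    (V H A : Subgroup G) [hVn : V.Normal] [hHn : H.Normal]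
    (hVab : ∀ a ∈ V, ∀ b ∈ V, a * b = b * a)
    (hHW : H ≤ Subgroup.centralizer (V : Set G)) (hWH : Subgroup.centralizer (V : Set G) ≤ H)
    (hAab : ∀ a ∈ A, ∀ b ∈ A, a * b = b * a) (hVA : V ≤ Subgroup.normalizer (A : Set G))
    (e : G) (heA : e ∈ A) (hesq : e * e ∈ H)
    (w₀ : G) (hw₀V : w₀ ∈ V) (hw₀e : w₀ * e ≠ e * w₀)
    (hu2 : (w₀ * e * w₀⁻¹ * e⁻¹) * (w₀ * e * w₀⁻¹ * e⁻¹) = 1)
    (hidx : Nat.card V ≤ 2 * Nat.card (V ⊓ Subgroup.centralizer ({e} : Set G) : Subgroup G))
    (k : G) (m : ℕ) (hm : Odd m) (hdm : (e * k * e⁻¹ * k⁻¹) ^ m ∈ H)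
    (hd : e * k * e⁻¹ * k⁻¹ ∉ H) :
    Involves (Equiv.Perm (Fin 4)) G := by
  classical
  set u := w₀ * e * w₀⁻¹ * e⁻¹ with hu
  have hu1 : u ≠ 1 := by
    intro h
    apply hw₀e
    have h1 : w₀ * e = u * (e * w₀) := by rw [hu]; group
    rw [h1, h, one_mul]
  have huV : u ∈ V := by
    have h1 := V.mul_mem hw₀V (hVn.conj_mem _ (V.inv_mem hw₀V) e)
    have h2 : u = w₀ * (e * w₀⁻¹ * e⁻¹) := by rw [hu]; group
    rw [h2]; exact h1
  have huA : u ∈ A := by
    have h1 : w₀ * e * w₀⁻¹ ∈ A := (Subgroup.mem_normalizer_iff.mp (hVA hw₀V) e).mp heA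
    exact A.mul_mem h1 (A.inv_mem heA)
  have hue : e * u * e⁻¹ = u := by
    rw [hAab e heA u huA]; group
  have huu : u * u = 1 := hu2
  have huinv : u⁻¹ = u := inv_eq_of_mul_eq_one_left huu
  -- transvection property
  have hT : ∀ w ∈ V, w * e * w⁻¹ * e⁻¹ = 1 ∨ w * e * w⁻¹ * e⁻¹ = u := by
    have hDV : V ⊓ Subgroup.centralizer ({e} : Set G) ≤ V := inf_le_left
    have hmemD : ∀ x : G, x ∈ V ⊓ Subgroup.centralizer ({e} : Set G) ↔
        x ∈ V ∧ e * x = x * e := by
      intro x
      rw [Subgroup.mem_inf, Subgroup.mem_centralizer_iff]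
      constructor
      · rintro ⟨h1, h2⟩
        exact ⟨h1, h2 e rfl⟩
      · rintro ⟨h1, h2⟩
        refine ⟨h1, ?_⟩
        intro y hy
        rw [Set.mem_singleton_iff] at hy
        rw [hy]; exact h2
    have hw₀D : w₀ ∉ V ⊓ Subgroup.centralizer ({e} : Set G) :=
      fun h => hw₀e ((hmemD w₀).mp h).2.symm
    have hrel : (V ⊓ Subgroup.centralizer ({e} : Set G)).relIndex V = 2 := by
      have h1 := Helper10.card_eq_card_mul_relIndex hDV
      have h2 : (V ⊓ Subgroup.centralizer ({e} : Set G)).relIndex V ≠ 1 := by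
        intro h
        exact hw₀D (Subgroup.relIndex_eq_one.mp h hw₀V)
      have h3 : (V ⊓ Subgroup.centralizer ({e} : Set G)).relIndex V ≠ 0 := by
        intro h
        rw [h, mul_zero] at h1
        exact Nat.card_pos.ne' h1
      have h4 : 0 < Nat.card (V ⊓ Subgroup.centralizer ({e} : Set G) : Subgroup G) := Nat.card_pos
      have h5 : (V ⊓ Subgroup.centralizer ({e} : Set G)).relIndex V ≤ 2 := by
        by_contra h6
        push Not at h6
        nlinarith
      omega
    have hidx2 : ((V ⊓ Subgroup.centralizer ({e} : Set G)).subgroupOf V).index = 2 := hrel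
    intro w hw
    by_cases hwD : w ∈ V ⊓ Subgroup.centralizer ({e} : Set G)
    · left
      have h1 := ((hmemD w).mp hwD).2
      rw [← h1]; group
    · right
      have h1 : (⟨w₀⁻¹, V.inv_mem hw₀V⟩ : V) * ⟨w, hw⟩ ∈
          (V ⊓ Subgroup.centralizer ({e} : Set G)).subgroupOf V := by
        rw [Subgroup.mul_mem_iff_of_index_two hidx2]
        constructor
        · intro h2
          exfalso
          have h3 : w₀⁻¹ ∈ V ⊓ Subgroup.centralizer ({e} : Set G) := Subgroup.mem_subgroupOf.mp h2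
          exact hw₀D (by simpa using Subgroup.inv_mem _ h3)
        · intro h2
          exact absurd (Subgroup.mem_subgroupOf.mp h2) hwD
      have h2 : w₀⁻¹ * w ∈ V ⊓ Subgroup.centralizer ({e} : Set G) := Subgroup.mem_subgroupOf.mp h1
      have h3 := ((hmemD _).mp h2).2
      have h4 : w * e * w⁻¹ * e⁻¹ = w₀ * ((w₀⁻¹ * w) * e) * (w₀⁻¹ * w)⁻¹ * w₀⁻¹ * e⁻¹ := by group
      rw [h4, ← h3, hu]; group
  have hT' : ∀ v ∈ V, e * v * e⁻¹ = v ∨ e * v * e⁻¹ = u * v := by
    intro v hv
    have h1 : e * v * e⁻¹ = (v * e * v⁻¹ * e⁻¹)⁻¹ * v := by group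
    rcases hT v hv with h | h
    · left; rw [h1, h, inv_one, one_mul]
    · right; rw [h1, h, huinv]
  -- the conjugate transvection
  set e' := k * e * k⁻¹ with he'
  set u' := k * u * k⁻¹ with hu'
  have hu'V : u' ∈ V := hVn.conj_mem u huV k
  have hu'u' : u' * u' = 1 := by
    have h1 : u' * u' = k * (u * u) * k⁻¹ := by rw [hu']; group
    rw [h1, huu]; group
  have hu'inv : u'⁻¹ = u' := inv_eq_of_mul_eq_one_left hu'u'
  have hT'' : ∀ v ∈ V, e' * v * e'⁻¹ = v ∨ e' * v * e'⁻¹ = u' * v := by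
    intro v hv
    have h1 : e' * v * e'⁻¹ = k * (e * (k⁻¹ * v * k) * e⁻¹) * k⁻¹ := by rw [he']; group
    have h2 : k⁻¹ * v * k ∈ V := by
      have := hVn.conj_mem v hv k⁻¹
      simpa using this
    rcases hT' _ h2 with h | h
    · left; rw [h1, h]; group
    · right; rw [h1, h, hu']; group
  have hu'e' : e' * u' * e'⁻¹ = u' := by
    have h1 : e' * u' * e'⁻¹ = k * (e * u * e⁻¹) * k⁻¹ := by rw [he', hu']; group
    rw [h1, hue]
  have hcomm : u * u' = u' * u := hVab u huV u' hu'V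
  -- the four-group U
  set U : Subgroup G := Subgroup.closure {u, u'} with hU
  have huU : u ∈ U := Subgroup.subset_closure (Set.mem_insert _ _)
  have hu'U : u' ∈ U := Subgroup.subset_closure (Set.mem_insert_of_mem _ rfl)
  have hUV : U ≤ V := by
    rw [hU, Subgroup.closure_le]
    intro y hy
    rcases hy with rfl | hy
    · exact huV
    · rw [Set.mem_singleton_iff] at hy; rw [hy]; exact hu'V
  have hUsq : ∀ z ∈ U, z * z = 1 := by
    intro z hz
    have hz' : z ∈ V ∧ z * z = 1 := by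
      refine Subgroup.closure_induction (p := fun z _ => z ∈ V ∧ z * z = 1) ?_ ?_ ?_ ?_ hz
      · intro y hy
        rcases hy with rfl | hy
        · exact ⟨huV, huu⟩
        · rw [Set.mem_singleton_iff] at hy; rw [hy]; exact ⟨hu'V, hu'u'⟩
      · exact ⟨V.one_mem, one_mul 1⟩
      · intro a b _ _ ha hb
        refine ⟨V.mul_mem ha.1 hb.1, ?_⟩
        calc a * b * (a * b) = a * (b * a) * b := by group
          _ = a * (a * b) * b := by rw [hVab b hb.1 a ha.1]
          _ = (a * a) * (b * b) := by group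
          _ = 1 := by rw [ha.2, hb.2, one_mul]
      · intro a _ ha
        refine ⟨V.inv_mem ha.1, ?_⟩
        calc a⁻¹ * a⁻¹ = (a * a)⁻¹ := by group
          _ = 1 := by rw [ha.2, inv_one]
    exact hz'.2
  have hU2 : IsPGroup 2 U := by
    apply isPGroup_of_forall_pow
    intro x hx
    exact ⟨1, by rw [pow_one, pow_two]; exact hUsq x hx⟩
  have hHU : H ≤ Subgroup.centralizer (U : Set G) :=
    hHW.trans (Subgroup.centralizer_le (SetLike.coe_subset_coe.mpr hUV))
  have heN : e ∈ Subgroup.normalizer (U : Set G) := by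
    apply twoEnd_mem_normalizer_closure_pair
    · rw [hue]; exact huU
    · rcases hT' u' hu'V with h | h
      · rw [h]; exact hu'U
      · rw [h]; exact U.mul_mem huU hu'U
  have he'N : e' ∈ Subgroup.normalizer (U : Set G) := by
    apply twoEnd_mem_normalizer_closure_pair
    · rcases hT'' u huV with h | h
      · rw [h]; exact huU
      · rw [h]; exact U.mul_mem hu'U huU
    · rw [hu'e']; exact hu'U
  set d := e * k * e⁻¹ * k⁻¹ with hdef
  have hde : d = e * e'⁻¹ := by rw [hdef, he']; group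
  have hdN : d ∈ Subgroup.normalizer (U : Set G) := by
    rw [hde]; exact Subgroup.mul_mem _ heN (Subgroup.inv_mem _ he'N)
  have he'sq : e' * e' ∈ H := by
    have h1 := hHn.conj_mem _ hesq k
    have h2 : e' * e' = k * (e * e) * k⁻¹ := by rw [he']; group
    rw [h2]; exact h1
  have hT''' : ∀ v ∈ V, e'⁻¹ * v * e' = v ∨ e'⁻¹ * v * e' = u' * v := by
    intro v hv
    have h2 : e'⁻¹ * v * e' ∈ V := by
      have := hVn.conj_mem v hv e'⁻¹
      simpa using this
    have h3 : e' * (e'⁻¹ * v * e') * e'⁻¹ = v := by group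
    rcases hT'' _ h2 with h | h
    · left; rw [h3] at h; exact h.symm
    · right
      rw [h3] at h
      calc e'⁻¹ * v * e' = u'⁻¹ * (u' * (e'⁻¹ * v * e')) := by group
        _ = u' * v := by rw [← h, hu'inv]
  have hdV : ∀ v ∈ V, ∃ z ∈ U, d * v * d⁻¹ = z * v := by
    intro v hv
    have h1 : d * v * d⁻¹ = e * (e'⁻¹ * v * e') * e⁻¹ := by rw [hde]; group
    rcases hT''' v hv with h | h
    · rcases hT' v hv with h' | h'
      · exact ⟨1, U.one_mem, by rw [h1, h, h', one_mul]⟩
      · exact ⟨u, huU, by rw [h1, h, h']⟩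
    · have h2 : e * (u' * v) * e⁻¹ = (e * u' * e⁻¹) * (e * v * e⁻¹) := by group
      have h3 : e * u' * e⁻¹ ∈ U := (Subgroup.mem_normalizer_iff.mp heN u').mp hu'U
      rcases hT' v hv with h' | h'
      · exact ⟨e * u' * e⁻¹, h3, by rw [h1, h, h2, h']⟩
      · exact ⟨e * u' * e⁻¹ * u, U.mul_mem h3 huU, by rw [h1, h, h2, h']; group⟩
  have hdnc : d ∉ Subgroup.centralizer (U : Set G) := by
    intro hdc
    apply hd
    apply hWH
    rw [Subgroup.mem_centralizer_iff]
    intro v hv
    obtain ⟨z, hz, hzv⟩ := hdV v hv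
    have hc : v * d * v⁻¹ * d⁻¹ = z⁻¹ := by
      have h1 : v * d * v⁻¹ * d⁻¹ = v * (d * v * d⁻¹)⁻¹ := by group
      rw [h1, hzv]; group
    have hzc : Commute z⁻¹ d := Subgroup.mem_centralizer_iff.mp hdc z⁻¹ (U.inv_mem hz)
    have hzz : z⁻¹ * z⁻¹ = 1 := hUsq _ (U.inv_mem hz)
    have hdmv : Commute (d ^ m) v := (Subgroup.mem_centralizer_iff.mp (hHW hdm) v hv).symm
    have h5 := twoEnd_comm_eq_one (v := v) (d := d) (by rw [hc]; exact hzc)
      (by rw [hc]; exact hzz) hm hdmv
    have h6 : v * d = (v * d * v⁻¹ * d⁻¹) * (d * v) := by group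
    rw [h6, h5, one_mul]
  have hedc : e * d * e⁻¹ * d ∈ Subgroup.centralizer (U : Set G) := by
    apply hHU
    have h1 : e * d * e⁻¹ * d = (e * e) * (k * (e * e)⁻¹ * k⁻¹) := by rw [hdef]; group
    rw [h1]
    exact H.mul_mem hesq (hHn.conj_mem _ (H.inv_mem hesq) k)
  have hd3e : d ^ 3 = d * d * d := by rw [pow_succ, pow_two]
  have hd3 : d ^ 3 ^ 1 ∈ Subgroup.centralizer (U : Set G) := by
    rcases hT' u' hu'V with hA1 | hA1
    · exfalso
      apply hdnc
      have heC : e ∈ Subgroup.centralizer (U : Set G) := by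
        apply twoEnd_mem_centralizer_closure_pair
        · calc u * e = (e * u * e⁻¹) * e := by rw [hue]
            _ = e * u := by group
        · calc u' * e = (e * u' * e⁻¹) * e := by rw [hA1]
            _ = e * u' := by group
      apply twoEnd_mem_of_sq_of_odd _ _ hm (hHU hdm)
      have h1 : d * d = e * (e'⁻¹ * e * e'⁻¹⁻¹) * (e' * e')⁻¹ := by rw [hde]; group
      rw [h1]
      exact Subgroup.mul_mem _ (Subgroup.mul_mem _ heC
        (twoEnd_conj_mem_centralizer (Subgroup.inv_mem _ he'N) heC))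
        (Subgroup.inv_mem _ (hHU he'sq))
    · rcases hT'' u huV with hB1 | hB1
      · exfalso
        apply hdnc
        have he'C : e' ∈ Subgroup.centralizer (U : Set G) := by
          apply twoEnd_mem_centralizer_closure_pair
          · calc u * e' = (e' * u * e'⁻¹) * e' := by rw [hB1]
              _ = e' * u := by group
          · calc u' * e' = (e' * u' * e'⁻¹) * e' := by rw [hu'e']
              _ = e' * u' := by group
        apply twoEnd_mem_of_sq_of_odd _ _ hm (hHU hdm)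
        have h1 : d * d = (e * e) * (e⁻¹ * e'⁻¹ * e⁻¹⁻¹) * e'⁻¹ := by rw [hde]; group
        rw [h1]
        exact Subgroup.mul_mem _ (Subgroup.mul_mem _ (hHU hesq)
          (twoEnd_conj_mem_centralizer (Subgroup.inv_mem _ heN) (Subgroup.inv_mem _ he'C)))
          (Subgroup.inv_mem _ he'C)
      · have h1 : e'⁻¹ * u * e' = u' * u := by
          rcases hT''' u huV with h | h
          · have h2 : e' * (e'⁻¹ * u * e') * e'⁻¹ = u := by group
            rw [h, hB1] at h2
            rw [h, h2]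
          · exact h
        have hdu : d * u * d⁻¹ = u' := by
          have h2 : d * u * d⁻¹ = e * (e'⁻¹ * u * e') * e⁻¹ := by rw [hde]; group
          have h3 : e * (u' * u) * e⁻¹ = (e * u' * e⁻¹) * (e * u * e⁻¹) := by group
          rw [h2, h1, h3, hA1, hue, hcomm, mul_assoc, huu, mul_one]
        have hu'e'' : e'⁻¹ * u' * e' = u' := by
          calc e'⁻¹ * u' * e' = e'⁻¹ * (e' * u' * e'⁻¹) * e' := by rw [hu'e']
            _ = u' := by group
        have hdu' : d * u' * d⁻¹ = u * u' := by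
          have h2 : d * u' * d⁻¹ = e * (e'⁻¹ * u' * e') * e⁻¹ := by rw [hde]; group
          rw [h2, hu'e'', hA1]
        have h4 : u' * (u * u') = u := by rw [hcomm, ← mul_assoc, hu'u', one_mul]
        have h5 : d * (u * u') * d⁻¹ = (d * u * d⁻¹) * (d * u' * d⁻¹) := by group
        have h3u : d ^ 3 * u * (d ^ 3)⁻¹ = u := by
          have h2 : d ^ 3 * u * (d ^ 3)⁻¹ = d * (d * (d * u * d⁻¹) * d⁻¹) * d⁻¹ := by
            rw [hd3e]; group
          rw [h2, hdu, hdu', h5, hdu, hdu', h4]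
        have h3u' : d ^ 3 * u' * (d ^ 3)⁻¹ = u' := by
          have h2 : d ^ 3 * u' * (d ^ 3)⁻¹ = d * (d * (d * u' * d⁻¹) * d⁻¹) * d⁻¹ := by
            rw [hd3e]; group
          rw [h2, hdu', h5, hdu, hdu', h4, hdu]
        rw [pow_one]
        apply twoEnd_mem_centralizer_closure_pair
        · calc u * d ^ 3 = (d ^ 3 * u * (d ^ 3)⁻¹) * d ^ 3 := by rw [h3u]
            _ = d ^ 3 * u := by group
        · calc u' * d ^ 3 = (d ^ 3 * u' * (d ^ 3)⁻¹) * d ^ 3 := by rw [h3u']
            _ = d ^ 3 * u' := by group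
  exact involves_four_of_inverted U hU2 e d heN hdN hdnc 1 hd3 hedc

/-- Two involutions whose product has `2`-power order generate a `2`-group.
(Copied from helper41's `Cfsg/Agent/S0200.lean`.) -/
theorem wc_isPGroup_closure_pair {G : Type*} [Group G] (t s : G) (ht : orderOf t = 2)
    (ht2 : t * t = 1) (hs2 : s * s = 1) (j : ℕ) (hj : orderOf (t * s) = 2 ^ j) :
    IsPGroup 2 (Subgroup.closure ({t, s} : Set G)) := by
  have : Fact (Nat.Prime 2) := ⟨Nat.prime_two⟩
  have htinv : t⁻¹ = t := inv_eq_of_mul_eq_one_right ht2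
  have hsinv : s⁻¹ = s := inv_eq_of_mul_eq_one_right hs2
  have hconj : t * (t * s) * t⁻¹ = (t * s)⁻¹ := by
    rw [mul_inv_rev, hsinv, htinv, ← mul_assoc, ht2, one_mul]
  have hZ : IsPGroup 2 (Subgroup.zpowers (t * s)) :=
    IsPGroup.of_card (n := j) (by rw [Nat.card_zpowers, hj])
  have hT : IsPGroup 2 (Subgroup.zpowers t) :=
    IsPGroup.of_card (n := 1) (by rw [Nat.card_zpowers, ht, pow_one])
  have hfwd : ∀ z ∈ Subgroup.zpowers (t * s), t * z * t⁻¹ ∈ Subgroup.zpowers (t * s) := by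
    intro z hz
    obtain ⟨i, rfl⟩ := Subgroup.mem_zpowers_iff.mp hz
    rw [← conj_zpow, hconj]
    exact Subgroup.zpow_mem _ (Subgroup.inv_mem _ (Subgroup.mem_zpowers (t * s))) i
  have hTN : Subgroup.zpowers t ≤
      Subgroup.normalizer ((Subgroup.zpowers (t * s) : Subgroup G) : Set G) := by
    rw [Subgroup.zpowers_le, Subgroup.mem_normalizer_iff]
    intro z
    constructor
    · exact hfwd z
    · intro hz
      have h1 := hfwd _ hz
      have e : t * (t * z * t⁻¹) * t⁻¹ = z := by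
        rw [htinv]
        calc t * (t * z * t) * t = (t * t) * z * (t * t) := by group
          _ = z := by rw [ht2, one_mul, mul_one]
      rwa [e] at h1
  have hsup := IsPGroup.to_sup_of_normal_left' hZ hT hTN
  refine hsup.to_le ?_
  rw [Subgroup.closure_le]
  intro z hz
  rcases hz with rfl | hz
  · exact Subgroup.mem_sup_right (Subgroup.mem_zpowers _)
  · rw [Set.mem_singleton_iff] at hz
    subst hz
    have hmem : t * (t * z) ∈ Subgroup.zpowers (t * z) ⊔ Subgroup.zpowers t :=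
      Subgroup.mul_mem _ (Subgroup.mem_sup_right (Subgroup.mem_zpowers _))
        (Subgroup.mem_sup_left (Subgroup.mem_zpowers _))
    rwa [← mul_assoc, ht2, one_mul] at hmem

/-- An involution lying in no normal 2-subgroup of a finite group inverts a nontrivial element
of odd order (a consequence of the Baer–Suzuki Theorem).
(Copied from helper41's `Cfsg/Agent/S0200.lean`.) -/
theorem wc_involution_inverts {G : Type*} [Group G] [Finite G] (t : G) (ht : orderOf t = 2)
    (hO : ∀ N : Subgroup G, N.Normal → IsPGroup 2 N → t ∉ N) :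
    ∃ h : G, h ≠ 1 ∧ Odd (orderOf h) ∧ t * h * t⁻¹ = h⁻¹ := by
  classical
  have hF : Fact (Nat.Prime 2) := ⟨Nat.prime_two⟩
  have ht2 : t * t = 1 := by
    have := pow_orderOf_eq_one t
    rwa [ht, pow_two] at this
  have htinv : t⁻¹ = t := inv_eq_of_mul_eq_one_right ht2
  let K : Set G := {y | ∃ g : G, y = g * t * g⁻¹}
  have hK : ∀ x ∈ K, ∀ g : G, g * x * g⁻¹ ∈ K := by
    rintro _ ⟨a, rfl⟩ g
    exact ⟨g * a, by group⟩
  have hnot : ¬ ∀ x ∈ K, ∀ y ∈ K, IsPGroup 2 (Subgroup.closure ({x, y} : Set G)) := by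
    intro hall
    apply hO (Cfsg.Agent.Helper41.sylowCore 2 G) (Cfsg.Agent.Helper41.sylowCore_normal 2 G)
      (Cfsg.Agent.Helper41.sylowCore_isPGroup 2 G)
    rw [Cfsg.Agent.Helper41.mem_sylowCore]
    intro P
    exact Cfsg.Agent.Helper41.baer_suzuki_mem K hK hall t ⟨1, by group⟩ P
  push Not at hnot
  obtain ⟨_, ⟨g₁, rfl⟩, _, ⟨g₂, rfl⟩, hnp⟩ := hnot
  obtain ⟨s, hs⟩ : ∃ s : G, s = (g₁⁻¹ * g₂) * t * (g₁⁻¹ * g₂)⁻¹ := ⟨_, rfl⟩
  have hs2 : s * s = 1 := by
    rw [hs]
    have e : g₁⁻¹ * g₂ * t * (g₁⁻¹ * g₂)⁻¹ * (g₁⁻¹ * g₂ * t * (g₁⁻¹ * g₂)⁻¹) =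
        g₁⁻¹ * g₂ * (t * t) * (g₁⁻¹ * g₂)⁻¹ := by group
    rw [e, ht2]
    group
  have hsinv : s⁻¹ = s := inv_eq_of_mul_eq_one_right hs2
  have hnp' : ¬ IsPGroup 2 (Subgroup.closure ({t, s} : Set G)) := by
    intro hp
    apply hnp
    refine (hp.map (MulAut.conj g₁).toMonoidHom).to_le ?_
    rw [Subgroup.closure_le]
    intro z hz
    rcases hz with rfl | hz
    · exact ⟨t, Subgroup.subset_closure (by simp), by simp⟩
    · rw [Set.mem_singleton_iff] at hz
      subst hz
      refine ⟨s, Subgroup.subset_closure (by simp), ?_⟩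
      simp only [MulEquiv.toMonoidHom_eq_coe, MonoidHom.coe_coe, MulAut.conj_apply]
      rw [hs]
      group
  have hconj : t * (t * s) * t⁻¹ = (t * s)⁻¹ := by
    rw [mul_inv_rev, hsinv, htinv, ← mul_assoc, ht2, one_mul]
  have hconjpow : ∀ j : ℕ, t * (t * s) ^ j * t⁻¹ = ((t * s) ^ j)⁻¹ := by
    intro j
    rw [← conj_pow, hconj, inv_pow]
  have hm0 : orderOf (t * s) ≠ 0 := (orderOf_pos (t * s)).ne'
  obtain ⟨k, m, hmodd, hkm⟩ := Nat.exists_eq_two_pow_mul_odd hm0
  refine ⟨(t * s) ^ (2 ^ k), ?_, ?_, hconjpow _⟩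
  · intro h1
    have hdvd : orderOf (t * s) ∣ 2 ^ k := orderOf_dvd_of_pow_eq_one h1
    obtain ⟨j, -, hj⟩ := (Nat.dvd_prime_pow Nat.prime_two).mp hdvd
    exact hnp' (wc_isPGroup_closure_pair t s ht ht2 hs2 j hj)
  · rw [orderOf_pow, hkm]
    have hg : Nat.gcd (2 ^ k * m) (2 ^ k) = 2 ^ k := Nat.gcd_eq_right (dvd_mul_right _ _)
    rw [hg, Nat.mul_div_cancel_left _ (by positivity)]
    exact hmodd

/-- an element of order two modulo the normal subgroup `C` whose conjugates do not all lie in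
`S C` has a commutator of odd order `> 1` modulo `C` -/
theorem wc_exists_odd_comm {G : Type u} [Group G] [Finite G] {p : ℕ} [Fact p.Prime] (hp2 : p = 2)
    (C : Subgroup G) [hCn : C.Normal] (S : Sylow p G) (a : G) (haC : a ∉ C) (ha2 : a * a ∈ C)
    (hnot : ¬ ∀ g : G, ∃ s ∈ (S : Subgroup G), ∃ c ∈ C, g * a * g⁻¹ = s * c) :
    ∃ (k : G) (m : ℕ), Odd m ∧ (a * k * a⁻¹ * k⁻¹) ^ m ∈ C ∧ a * k * a⁻¹ * k⁻¹ ∉ C := by
  subst hp2
  have hsurj : Function.Surjective (QuotientGroup.mk' C) := QuotientGroup.mk'_surjective C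
  have hmemC : ∀ g : G, QuotientGroup.mk' C g = 1 ↔ g ∈ C := by
    intro g
    rw [← MonoidHom.mem_ker, QuotientGroup.ker_mk']
  have ht1 : QuotientGroup.mk' C a ≠ 1 := fun h => haC ((hmemC a).mp h)
  have ht2 : QuotientGroup.mk' C a ^ 2 = 1 := by
    rw [← map_pow, hmemC, pow_two]
    exact ha2
  have ht : orderOf (QuotientGroup.mk' C a) = 2 := orderOf_eq_prime ht2 ht1
  have hO : ∀ N : Subgroup (G ⧸ C), N.Normal → IsPGroup 2 N → QuotientGroup.mk' C a ∉ N := by
    intro N hNn hN2 htN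
    apply hnot
    intro g
    have h1 : N ≤ ((S.mapSurjective hsurj : Sylow 2 (G ⧸ C)) : Subgroup (G ⧸ C)) :=
      Helper33.normal_pgroup_le_sylow' N hN2 _
    have h2 : QuotientGroup.mk' C (g * a * g⁻¹) ∈ N := by
      rw [map_mul, map_mul, map_inv]
      exact hNn.conj_mem _ htN _
    have h3 := h1 h2
    rw [Sylow.coe_mapSurjective] at h3
    obtain ⟨s, hs, hsg⟩ := h3
    refine ⟨s, hs, s⁻¹ * (g * a * g⁻¹), ?_, by group⟩
    rw [← hmemC, map_mul, map_inv, hsg, inv_mul_cancel]
  obtain ⟨hbar, hh1, hhodd, hhinv⟩ := wc_involution_inverts _ ht hO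
  obtain ⟨k, rfl⟩ := hsurj hbar
  have hd : QuotientGroup.mk' C (a * k * a⁻¹ * k⁻¹) =
      (QuotientGroup.mk' C k)⁻¹ * (QuotientGroup.mk' C k)⁻¹ := by
    rw [map_mul, map_mul, map_mul, map_inv, map_inv, hhinv]
  refine ⟨k, orderOf (QuotientGroup.mk' C k), hhodd, ?_, ?_⟩
  · rw [← hmemC, map_pow, hd, ← mul_inv_rev, inv_pow, ← pow_two, ← pow_mul, mul_comm, pow_mul,
      pow_orderOf_eq_one, one_pow, inv_one]
  · intro h
    rw [← hmemC, hd, ← mul_inv_rev, inv_eq_one] at h
    apply hh1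
    have h2 : orderOf (QuotientGroup.mk' C k) ∣ 2 := by
      apply orderOf_dvd_of_pow_eq_one
      rw [pow_two]
      exact h
    have h3 : orderOf (QuotientGroup.mk' C k) = 1 := by
      rcases (Nat.dvd_prime Nat.prime_two).mp h2 with h4 | h4
      · exact h4
      · rw [h4] at hhodd
        exact absurd hhodd (by decide)
    exact orderOf_eq_one_iff.mp h3

/-- an element commuting with all conjugates of `x` centralises the normal closure of `x` -/
theorem wc_mem_C_of_forall {G : Type*} [Group G] {x a : G}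
    (h : ∀ g : G, (g * x * g⁻¹) * a = a * (g * x * g⁻¹)) :
    a ∈ Subgroup.centralizer ((Subgroup.normalClosure ({x} : Set G) : Subgroup G) : Set G) := by
  have h1 : Subgroup.normalClosure ({x} : Set G) ≤ Subgroup.centralizer ({a} : Set G) := by
    apply (Subgroup.closure_le _).mpr
    intro v hv
    obtain ⟨b, hb, hbv⟩ := Group.mem_conjugatesOfSet_iff.mp hv
    rw [Set.mem_singleton_iff] at hb
    subst hb
    obtain ⟨c, rfl⟩ := isConj_iff.mp hbv
    rw [SetLike.mem_coe, Subgroup.mem_centralizer_iff]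
    intro z hz
    rw [Set.mem_singleton_iff] at hz
    rw [hz]
    exact (h c).symm
  rw [Subgroup.mem_centralizer_iff]
  intro v hv
  have h2 := Subgroup.mem_centralizer_iff.mp (h1 hv) a rfl
  exact h2.symm

/-- a subgroup `B` of `A` with `A ⊆ B ∪ a₀B` has index at most two -/
theorem wc_card_le_two_mul {G : Type*} [Group G] [Finite G] (A B : Subgroup G) (a₀ : G)
    (h : ∀ a ∈ A, a ∈ B ∨ a₀⁻¹ * a ∈ B) : Nat.card A ≤ 2 * Nat.card B := by
  classical
  let f : A → B × Bool := fun a =>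
    if ha : (a : G) ∈ B then (⟨a, ha⟩, false)
    else (⟨a₀⁻¹ * a, (h a a.2).resolve_left ha⟩, true)
  have hf : Function.Injective f := by
    intro a b hab
    by_cases ha : (a : G) ∈ B <;> by_cases hb : (b : G) ∈ B
    · simp only [f, dif_pos ha, dif_pos hb, Prod.mk.injEq] at hab
      have h1 : (a : G) = (b : G) := congrArg (fun z : B => (z : G)) hab.1
      exact Subtype.ext h1
    · simp [f, dif_pos ha, dif_neg hb] at hab
    · simp [f, dif_neg ha, dif_pos hb] at hab
    · simp only [f, dif_neg ha, dif_neg hb, Prod.mk.injEq] at hab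
      have h1 : a₀⁻¹ * (a : G) = a₀⁻¹ * (b : G) := congrArg (fun z : B => (z : G)) hab.1
      exact Subtype.ext (mul_left_cancel h1)
  have h1 := Nat.card_le_card_of_injective f hf
  rw [Nat.card_prod] at h1
  have h2 : Nat.card Bool = 2 := by simp
  rw [h2] at h1
  omega

end Cfsg.Agent.Helper46
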