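import Mathlib
import Cfsg.Agent.Helper10.Thompson
import Cfsg.Agent.Helper19.ThompsonNPC
import Cfsg.Agent.Helper46.ThompsonA
import Cfsg.Agent.Helper46.SylowLemmas
import Cfsg.Agent.Helper46.WeakA
import Cfsg.Agent.Helper46.WeakC
import Cfsg.Agent.Helper46.WeakD

/-!
Helper46: Glauberman's theorem on weakly closed elements of `Z(N(J(S)))`, local case, part 2:
if the normal closure of `x` is a `p`-group (and `x ^ p` is central) then `x` is central.
-/

set_option autoImplicit false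

namespace Cfsg.Agent.Helper46

open Cfsg Helper33

universe u

section

variable {p : ℕ} [Fact p.Prime] {G : Type u} [Group G] [Finite G] {S : Sylow p G} {x : G}

set_option maxHeartbeats 1600000 in
/-- the sub-case `p = 2` in which some conjugate `y` of `x` has exactly two conjugates under the
largest abelian subgroup `A` -/
theorem wc_local_two (h : WcLocal p S x) (hp2 : p = 2)
    (hxx : ∀ g : G, g * (x * x) * g⁻¹ = x * x)
    (A : Subgroup G) (hA : MaxAb (S : Subgroup G) A) (_hAC : ¬ A ≤ wcC x)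
    (hVA : wcV x ≤ Subgroup.normalizer (A : Set G))
    (y : G) (g₀ : G) (hy : y = g₀ * x * g₀⁻¹) (a₀ : G) (ha₀ : a₀ ∈ A)
    (hmove : a₀ * y * a₀⁻¹ ≠ y)
    (hall : ∀ a ∈ A, a * y * a⁻¹ = y ∨ a * y * a⁻¹ = a₀ * y * a₀⁻¹) : False := by
  have hSx := h.S_le
  have hVS := h.V_le_S
  have hVab := h.V_ab
  have hAS := hA.1
  have hAab := hA.2.1
  have hyV : y ∈ wcV x := by
    rw [hy]
    exact wc_conj_mem_V x g₀
  have hyy : y * y = x * x := by
    rw [hy]
    have h1 : g₀ * x * g₀⁻¹ * (g₀ * x * g₀⁻¹) = g₀ * (x * x) * g₀⁻¹ := by group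
    rw [h1, hxx]
  have hcy : a₀ * y * a₀⁻¹ ∈ wcV x :=
    (Subgroup.normalClosure_normal (s := ({x} : Set G))).conj_mem y hyV a₀
  obtain ⟨t, ht⟩ : ∃ t, t = y⁻¹ * (a₀ * y * a₀⁻¹) := ⟨_, rfl⟩
  have hty : a₀ * y * a₀⁻¹ = y * t := by
    rw [ht]; group
  have ht1 : t ≠ 1 := by
    intro h1
    apply hmove
    rw [hty, h1, mul_one]
  have htV : t ∈ wcV x := by
    rw [ht]
    exact Subgroup.mul_mem _ (Subgroup.inv_mem _ hyV) hcy
  have htA : t ∈ A := by
    have h1 : y⁻¹ * a₀ * y⁻¹⁻¹ ∈ A :=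
      (Subgroup.mem_normalizer_iff.mp (hVA (Subgroup.inv_mem _ hyV)) a₀).mp ha₀
    have h2 : t = (y⁻¹ * a₀ * y⁻¹⁻¹) * a₀⁻¹ := by
      rw [ht]; group
    rw [h2]
    exact A.mul_mem h1 (A.inv_mem ha₀)
  have hyt : y * t = t * y := hVab y hyV t htV
  have htt : t * t = 1 := by
    have h1 : (a₀ * y * a₀⁻¹) * (a₀ * y * a₀⁻¹) = y * y := by
      have h0 : (a₀ * y * a₀⁻¹) * (a₀ * y * a₀⁻¹) = a₀ * (y * y) * a₀⁻¹ := by group
      rw [h0, hyy, hxx]
    rw [hty] at h1
    have h2 : y * t * (y * t) = (y * y) * (t * t) := by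
      calc y * t * (y * t) = y * (t * y) * t := by group
        _ = y * (y * t) * t := by rw [hyt]
        _ = (y * y) * (t * t) := by group
    rw [h2] at h1
    have h3 : (y * y) * (t * t) = (y * y) * 1 := by rw [h1, mul_one]
    exact mul_left_cancel h3
  have htinv : t⁻¹ = t := inv_eq_of_mul_eq_one_left htt
  have ha₀t : a₀ * t = t * a₀ := hAab a₀ ha₀ t htA
  have hBmem : ∀ a, a ∈ A ⊓ Subgroup.centralizer ({y} : Set G) ↔ a ∈ A ∧ y * a = a * y := by
    intro a
    rw [Subgroup.mem_inf, wc_mem_cent]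
  obtain ⟨B, hB⟩ : ∃ B : Subgroup G, B = A ⊓ Subgroup.centralizer ({y} : Set G) := ⟨_, rfl⟩
  rw [← hB] at hBmem
  have hBA : B ≤ A := by
    rw [hB]; exact inf_le_left
  have hAB : ∀ a ∈ A, a ∈ B ∨ a₀⁻¹ * a ∈ B := by
    intro a ha
    rcases hall a ha with h1 | h1
    · left
      rw [hBmem]
      refine ⟨ha, ?_⟩
      calc y * a = (a * y * a⁻¹) * a := by rw [h1]
        _ = a * y := by group
    · right
      rw [hBmem]
      refine ⟨A.mul_mem (A.inv_mem ha₀) ha, ?_⟩
      calc y * (a₀⁻¹ * a) = a₀⁻¹ * (a₀ * y * a₀⁻¹) * a := by group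
        _ = a₀⁻¹ * (a * y * a⁻¹) * a := by rw [h1]
        _ = a₀⁻¹ * a * y := by group
  have hcardAB : Nat.card A ≤ 2 * Nat.card B := wc_card_le_two_mul A B a₀ hAB
  have hBy : ∀ b ∈ B, y * b = b * y := fun b hb => ((hBmem b).mp hb).2
  have hBsab : Ab (B ⊔ Subgroup.zpowers y) := by
    apply ab_sup (hAab.mono hBA) (ab_zpowers y)
    intro b hb z hz
    obtain ⟨i, rfl⟩ := Subgroup.mem_zpowers_iff.mp hz
    have h0 : Commute b y := (hBy b hb).symm
    exact (h0.zpow_right i).eq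
  have hBsS : B ⊔ Subgroup.zpowers y ≤ (S : Subgroup G) :=
    sup_le (hBA.trans hAS) (Subgroup.zpowers_le.mpr (hVS hyV))
  have hyB : y ∉ B := by
    intro hyB
    apply hmove
    have h1 := hAab a₀ ha₀ y (hBA hyB)
    rw [h1]; group
  have hyBs : y ∈ B ⊔ Subgroup.zpowers y := Subgroup.mem_sup_right (Subgroup.mem_zpowers y)
  have hcardBs : 2 * Nat.card B ≤ Nat.card (B ⊔ Subgroup.zpowers y : Subgroup G) := by
    have h1 := Helper10.card_eq_card_mul_relIndex (le_sup_left : B ≤ B ⊔ Subgroup.zpowers y)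
    have h2 : B.relIndex (B ⊔ Subgroup.zpowers y) ≠ 1 := by
      intro h3
      exact hyB (Subgroup.relIndex_eq_one.mp h3 hyBs)
    have h3 : B.relIndex (B ⊔ Subgroup.zpowers y) ≠ 0 := by
      intro h4
      rw [h4, mul_zero] at h1
      exact Nat.card_pos.ne' h1
    have h4 : 2 ≤ B.relIndex (B ⊔ Subgroup.zpowers y) := by omega
    calc 2 * Nat.card B ≤ B.relIndex (B ⊔ Subgroup.zpowers y) * Nat.card B :=
          Nat.mul_le_mul_right _ h4
      _ = Nat.card (B ⊔ Subgroup.zpowers y : Subgroup G) := by rw [h1, mul_comm]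
  have hBsbig : WBig p (B ⊔ Subgroup.zpowers y) :=
    (wBig_of_maxAb S hA).of_card (S.2.to_le hBsS) hBsab (hcardAB.trans hcardBs)
  have hBsy : B ⊔ Subgroup.zpowers y ≤ Subgroup.centralizer ({y} : Set G) := by
    apply sup_le
    · rw [hB]; exact inf_le_right
    · exact Subgroup.zpowers_le.mpr (wc_mem_cent.mpr rfl)
  have hBsx : B ⊔ Subgroup.zpowers y ≤ Subgroup.centralizer ({x} : Set G) := hBsS.trans hSx
  have hxy : x ≠ y := by
    intro hxy
    apply hmove
    have h1 := wc_mem_cent.mp (hSx (hAS ha₀))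
    rw [← hxy]
    calc a₀ * x * a₀⁻¹ = (x * a₀) * a₀⁻¹ := by rw [h1]
      _ = x := by group
  rcases h.cond with hc | ⟨w, hwS, hwc, hwx⟩ | hc
  · exact hc hp2
  · -- `x` is a square of an element of `Z(S)`
    obtain ⟨R, hBsR, hR⟩ := exists_wFix_of_le_cent S x hSx g₀ (B ⊔ Subgroup.zpowers y) hBsbig.1
      (by rw [← hy]; exact hBsy)
    have hRp : IsPGroup p R := hR.isPGroup S.2
    obtain ⟨g, hg1, hg2⟩ := hR
    have huR : g * w * g⁻¹ ∈ R := by
      rw [hg1]
      exact cj_mem_cj hwS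
    have huc : ∀ r ∈ R, (g * w * g⁻¹) * r = r * (g * w * g⁻¹) := by
      intro r hr
      rw [hg1, mem_cj] at hr
      have h3 := Subgroup.mem_centralizer_iff.mp hwc _ hr
      calc g * w * g⁻¹ * r = g * (w * (g⁻¹ * r * g)) * g⁻¹ := by group
        _ = g * ((g⁻¹ * r * g) * w) * g⁻¹ := by rw [h3]
        _ = r * (g * w * g⁻¹) := by group
    have huu : (g * w * g⁻¹) * (g * w * g⁻¹) = y := by
      rw [hy, hg2, ← hwx, hp2, pow_two]; group
    have hmax : MaxAb R (B ⊔ Subgroup.zpowers y) := hBsbig.maxAb hBsR hRp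
    have huBs : g * w * g⁻¹ ∈ B ⊔ Subgroup.zpowers y :=
      mem_of_maxAb_of_commute hmax huR (fun b hb => huc b (hBsR hb))
    have hBs_eq : B ⊔ Subgroup.zpowers y = Subgroup.closure ((B : Set G) ∪ {y}) := by
      rw [Subgroup.closure_union, Subgroup.closure_eq, ← Subgroup.zpowers_eq_closure]
    have key : ∀ v ∈ Subgroup.closure ((B : Set G) ∪ {y}),
        v * t = t * v ∧ (a₀ * v * a₀⁻¹ = v ∨ a₀ * v * a₀⁻¹ = v * t) := by
      intro v hv
      refine Subgroup.closure_induction (p := fun v _ =>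
        v * t = t * v ∧ (a₀ * v * a₀⁻¹ = v ∨ a₀ * v * a₀⁻¹ = v * t)) ?_ ?_ ?_ ?_ hv
      · intro v hv
        rcases hv with hv | hv
        · refine ⟨hAab v (hBA hv) t htA, Or.inl ?_⟩
          rw [hAab a₀ ha₀ v (hBA hv)]; group
        · rw [Set.mem_singleton_iff] at hv
          rw [hv]
          exact ⟨hyt, Or.inr hty⟩
      · exact ⟨by rw [one_mul, mul_one], Or.inl (by group)⟩
      · intro v w _ _ hv hw
        have hvw : v * w * t = t * (v * w) := by
          calc v * w * t = v * (w * t) := by group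
            _ = v * (t * w) := by rw [hw.1]
            _ = (v * t) * w := by group
            _ = (t * v) * w := by rw [hv.1]
            _ = t * (v * w) := by group
        refine ⟨hvw, ?_⟩
        have h1 : a₀ * (v * w) * a₀⁻¹ = (a₀ * v * a₀⁻¹) * (a₀ * w * a₀⁻¹) := by group
        rcases hv.2 with h2 | h2 <;> rcases hw.2 with h3 | h3
        · left; rw [h1, h2, h3]
        · right; rw [h1, h2, h3]; group
        · right
          rw [h1, h2, h3]
          calc v * t * w = v * (t * w) := by group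
            _ = v * (w * t) := by rw [hw.1]
            _ = v * w * t := by group
        · left
          rw [h1, h2, h3]
          calc v * t * (w * t) = v * (t * w) * t := by group
            _ = v * (w * t) * t := by rw [hw.1]
            _ = v * w * (t * t) := by group
            _ = v * w := by rw [htt, mul_one]
      · intro v _ hv
        have hvi : v⁻¹ * t = t * v⁻¹ := by
          calc v⁻¹ * t = v⁻¹ * (t * v) * v⁻¹ := by group
            _ = v⁻¹ * (v * t) * v⁻¹ := by rw [hv.1]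
            _ = t * v⁻¹ := by group
        refine ⟨hvi, ?_⟩
        have h1 : a₀ * v⁻¹ * a₀⁻¹ = (a₀ * v * a₀⁻¹)⁻¹ := by group
        rcases hv.2 with h2 | h2
        · left; rw [h1, h2]
        · right
          rw [h1, h2, mul_inv_rev, htinv, hvi]
    rw [hBs_eq] at huBs
    obtain ⟨hut, hu2⟩ := key _ huBs
    apply hmove
    have h1 : a₀ * y * a₀⁻¹ =
        (a₀ * (g * w * g⁻¹) * a₀⁻¹) * (a₀ * (g * w * g⁻¹) * a₀⁻¹) := by
      rw [← huu]; group
    rcases hu2 with h2 | h2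
    · rw [h1, h2, huu]
    · rw [h1, h2]
      calc g * w * g⁻¹ * t * (g * w * g⁻¹ * t)
          = (g * w * g⁻¹) * (t * (g * w * g⁻¹)) * t := by group
        _ = (g * w * g⁻¹) * ((g * w * g⁻¹) * t) * t := by rw [hut]
        _ = ((g * w * g⁻¹) * (g * w * g⁻¹)) * (t * t) := by group
        _ = y := by rw [htt, mul_one, huu]
  · -- `G` is `S₄`-free
    apply hc
    have hBsC : B ⊔ Subgroup.zpowers y ≤ wcC x := by
      by_contra hnot
      apply hxy
      have h1 := wc_unique_of_big h _ hBsbig hnot 1 g₀ (by simpa using hBsx)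
        (by rw [← hy]; exact hBsy)
      rw [← hy] at h1
      simpa using h1
    have hBC : B ≤ wcC x := le_sup_left.trans hBsC
    have ha₀sq : a₀ * a₀ ∈ B := by
      rw [hBmem]
      refine ⟨A.mul_mem ha₀ ha₀, ?_⟩
      have h1 : a₀ * a₀ * y * (a₀ * a₀)⁻¹ = y := by
        calc a₀ * a₀ * y * (a₀ * a₀)⁻¹ = a₀ * (a₀ * y * a₀⁻¹) * a₀⁻¹ := by group
          _ = a₀ * (y * t) * a₀⁻¹ := by rw [hty]
          _ = (a₀ * y * a₀⁻¹) * (a₀ * t) * a₀⁻¹ := by group
          _ = (y * t) * (t * a₀) * a₀⁻¹ := by rw [hty, ha₀t]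
          _ = y * (t * t) := by group
          _ = y := by rw [htt, mul_one]
      calc y * (a₀ * a₀) = (a₀ * a₀ * y * (a₀ * a₀)⁻¹) * (a₀ * a₀) := by rw [h1]
        _ = a₀ * a₀ * y := by group
    have ha₀C : a₀ ∉ wcC x := by
      intro h1
      apply hmove
      have h2 := Subgroup.mem_centralizer_iff.mp h1 y hyV
      rw [← h2]; group
    have hidx : Nat.card (wcV x) ≤
        2 * Nat.card (wcV x ⊓ Subgroup.centralizer ({a₀} : Set G) : Subgroup G) := by
      have h1 : Ab (B ⊔ wcV x) := by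
        apply ab_sup (hAab.mono hBA) hVab
        intro b hb v hv
        exact (Subgroup.mem_centralizer_iff.mp (hBC hb) v hv).symm
      have h2 : Nat.card (B ⊔ wcV x : Subgroup G) ≤ Nat.card A :=
        hA.2.2 _ (sup_le (hBA.trans hAS) hVS) h1
      have h3 := Helper19.card_sup_mul_card_inf' B (wcV x) (by
        rw [Subgroup.normalizer_eq_top_iff.mpr inferInstance]; exact le_top)
      have h4 : B ⊓ wcV x ≤ wcV x ⊓ Subgroup.centralizer ({a₀} : Set G) := by
        rintro b ⟨hb1, hb2⟩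
        exact ⟨hb2, wc_mem_cent.mpr (hAab a₀ ha₀ b (hBA hb1))⟩
      have h5 := Subgroup.card_le_of_le h4
      have h6 : 0 < Nat.card B := Nat.card_pos
      have h7 : Nat.card B * Nat.card (wcV x) ≤
          Nat.card B * (2 * Nat.card (B ⊓ wcV x : Subgroup G)) := by
        calc Nat.card B * Nat.card (wcV x)
            = Nat.card (B ⊔ wcV x : Subgroup G) * Nat.card (B ⊓ wcV x : Subgroup G) := h3.symm
          _ ≤ Nat.card A * Nat.card (B ⊓ wcV x : Subgroup G) := Nat.mul_le_mul_right _ h2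
          _ ≤ (2 * Nat.card B) * Nat.card (B ⊓ wcV x : Subgroup G) :=
              Nat.mul_le_mul_right _ hcardAB
          _ = Nat.card B * (2 * Nat.card (B ⊓ wcV x : Subgroup G)) := by ring
      have h8 := Nat.le_of_mul_le_mul_left h7 h6
      omega
    have hnot : ¬ ∀ g : G, ∃ s ∈ (S : Subgroup G), ∃ c ∈ wcC x, g * a₀ * g⁻¹ = s * c := by
      intro hall'
      apply ha₀C
      apply wc_mem_C_of_forall
      intro g
      obtain ⟨s, hs, c, hc', hsc⟩ := hall' g⁻¹
      have h1 := wc_mem_cent.mp (hSx hs)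
      have h2 := Subgroup.mem_centralizer_iff.mp hc' x (Subgroup.subset_normalClosure rfl)
      have h3 : x * (g⁻¹ * a₀ * g⁻¹⁻¹) = (g⁻¹ * a₀ * g⁻¹⁻¹) * x := by
        rw [hsc]
        calc x * (s * c) = (x * s) * c := by group
          _ = (s * x) * c := by rw [h1]
          _ = s * (x * c) := by group
          _ = s * (c * x) := by rw [h2]
          _ = s * c * x := by group
      calc g * x * g⁻¹ * a₀ = g * (x * (g⁻¹ * a₀ * g⁻¹⁻¹)) * g⁻¹ := by group
        _ = g * ((g⁻¹ * a₀ * g⁻¹⁻¹) * x) * g⁻¹ := by rw [h3]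
        _ = a₀ * (g * x * g⁻¹) := by group
    obtain ⟨k, m, hm, hdm, hd⟩ := wc_exists_odd_comm hp2 (wcC x) S a₀ ha₀C (hBC ha₀sq) hnot
    have hw₀e : y * a₀ ≠ a₀ * y := by
      intro h1
      apply hmove
      rw [← h1]; group
    have hu2 : (y * a₀ * y⁻¹ * a₀⁻¹) * (y * a₀ * y⁻¹ * a₀⁻¹) = 1 := by
      have h1 : y * a₀ * y⁻¹ * a₀⁻¹ = t⁻¹ := by
        have h2 : a₀ * y⁻¹ * a₀⁻¹ ∈ wcV x :=
          (Subgroup.normalClosure_normal (s := ({x} : Set G))).conj_mem _
            (Subgroup.inv_mem _ hyV) a₀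
        have h3 := hVab y hyV _ h2
        calc y * a₀ * y⁻¹ * a₀⁻¹ = y * (a₀ * y⁻¹ * a₀⁻¹) := by group
          _ = (a₀ * y⁻¹ * a₀⁻¹) * y := h3
          _ = t⁻¹ := by rw [ht]; group
      rw [h1, htinv, htt]
    exact wc_sfour_of_transvection (wcV x) (wcC x) A hVab le_rfl le_rfl hAab hVA a₀ ha₀
      (hBC ha₀sq) y hyV hw₀e hu2 hidx k m hm hdm hd

end

end Cfsg.Agent.Helper46
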