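import Mathlib
import Cfsg.Agent.Helper46.ThompsonA
import Cfsg.Agent.Helper46.SylowLemmas
import Cfsg.Agent.Helper46.WeakA
import Cfsg.Agent.Helper46.WeakC
import Cfsg.Agent.Helper46.WeakE

/-!
Helper46: Glauberman's theorem on weakly closed elements of `Z(N(J(S)))`, local case, part 3:
if the normal closure of `x` is a `p`-group and `x ^ p` is central, then `x` is central.
-/

set_option autoImplicit false

namespace Cfsg.Agent.Helper46

open Cfsg Helper33
open scoped IsMulCommutative

universe u

section

variable {p : ℕ} [Fact p.Prime] {G : Type u} [Group G] [Finite G] {S : Sylow p G} {x : G}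

set_option maxHeartbeats 1600000 in
/-- **the local case**: `x` is central -/
theorem wc_local (h : WcLocal p S x) (hxp : ∀ g : G, g * x ^ p * g⁻¹ = x ^ p) :
    ∀ g : G, g * x * g⁻¹ = x := by
  classical
  by_contra hcon
  have hSx := h.S_le
  have hVS := h.V_le_S
  have hVab := h.V_ab
  have hxV : x ∈ wcV x := Subgroup.subset_normalClosure rfl
  by_cases hcase : ∀ A, MaxAb (S : Subgroup G) A → A ≤ wcC x
  · -- every largest abelian subgroup of `S` centralises `V`: Frattini argument
    apply hcon
    have hJ : JA (S : Subgroup G) = JA ((S : Subgroup G) ⊓ wcC x) :=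
      JA_eq_of_forall_le inf_le_left (fun A hA => le_inf hA.1 (hcase A hA))
    obtain ⟨P, hP⟩ := exists_sylow_subgroupOf_normal (wcC x) S
    have hfrat := Sylow.normalizer_sup_eq_top P
    rw [hP, Subgroup.subgroupOf_map_subtype] at hfrat
    intro g
    have hg : g ∈ Subgroup.normalizer (((S : Subgroup G) ⊓ wcC x : Subgroup G) : Set G) ⊔
        wcC x := by
      rw [hfrat]; trivial
    have hle : Subgroup.normalizer (((S : Subgroup G) ⊓ wcC x : Subgroup G) : Set G) ⊔ wcC x ≤
        Subgroup.centralizer ({x} : Set G) := by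
      apply sup_le
      · refine (normalizer_le_normalizer_JA _).trans ?_
        rw [← hJ]
        exact h.norm
      · intro c hc
        rw [wc_mem_cent]
        exact Subgroup.mem_centralizer_iff.mp hc x hxV
    have h1 := wc_mem_cent.mp (hle hg)
    calc g * x * g⁻¹ = (x * g) * g⁻¹ := by rw [h1]
      _ = x := by group
  · push Not at hcase
    obtain ⟨A, ⟨hA, hAC⟩, hAmax⟩ : ∃ A : Subgroup G,
        (MaxAb (S : Subgroup G) A ∧ ¬ A ≤ wcC x) ∧
        ∀ A', MaxAb (S : Subgroup G) A' → ¬ A' ≤ wcC x →
          Nat.card (A' ⊓ wcV x : Subgroup G) ≤ Nat.card (A ⊓ wcV x : Subgroup G) := by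
      obtain ⟨A₀, hA₀, hA₀C⟩ := hcase
      have hne : Nonempty {A : Subgroup G // MaxAb (S : Subgroup G) A ∧ ¬ A ≤ wcC x} :=
        ⟨⟨A₀, hA₀, hA₀C⟩⟩
      obtain ⟨A, hAm⟩ := Finite.exists_max
        (fun A : {A : Subgroup G // MaxAb (S : Subgroup G) A ∧ ¬ A ≤ wcC x} =>
          Nat.card ((A : Subgroup G) ⊓ wcV x : Subgroup G))
      exact ⟨A.1, A.2, fun A' hA' hA'C => hAm ⟨A', hA', hA'C⟩⟩
    have hAS := hA.1
    have hAab := hA.2.1
    have hVA : wcV x ≤ Subgroup.normalizer (A : Set G) := by
      by_contra hVA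
      obtain ⟨A', hA', hlt, hA'N⟩ :=
        replacementA_step (S : Subgroup G) A (wcV x) S.2 hA hVab hVS hVA
      have hA'C : A' ≤ wcC x := by
        by_contra hA'C
        exact absurd (hAmax A' hA' hA'C) (not_le.mpr hlt)
      have h1 : Ab (A' ⊔ wcV x) := by
        apply ab_sup hA'.2.1 hVab
        intro a ha v hv
        exact (Subgroup.mem_centralizer_iff.mp (hA'C ha) v hv).symm
      have h2 := hA'.2.2 _ (sup_le hA'.1 hVS) h1
      have h3 : A' = A' ⊔ wcV x := Subgroup.eq_of_le_of_card_ge le_sup_left h2
      apply hVA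
      calc wcV x ≤ A' ⊔ wcV x := le_sup_right
        _ = A' := h3.symm
        _ ≤ _ := hA'N
    -- the trace argument
    have hAbig : WBig p A := wBig_of_maxAb S hA
    have : IsMulCommutative (wcV x) := (ab_iff _).mp hVab
    obtain ⟨n, hn⟩ := IsPGroup.iff_card.mp (S.2.to_le hAS)
    let : Fintype (wcV x) := Fintype.ofFinite _
    have hφ : ∀ (a : A) (v : wcV x),
        (((MulAut.conjNormal (H := wcV x)).comp A.subtype a v : wcV x) : G) =
          a * v * (a : G)⁻¹ := fun a v => rfl
    have hZmem : ∀ v : wcV x, v ∈ (Subgroup.center G).subgroupOf (wcV x) ↔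
        ∀ g : G, g * v * g⁻¹ = v := by
      intro v
      rw [Subgroup.mem_subgroupOf, Subgroup.mem_center_iff]
      constructor
      · intro hv g
        rw [hv g]; group
      · intro hv g
        calc g * (v : G) = (g * v * g⁻¹) * g := by group
          _ = v * g := by rw [hv g]
    have hΩmem : ∀ v : wcV x,
        v ∈ Finset.univ.filter (fun v : wcV x => ∃ g : G, (v : G) = g * x * g⁻¹) ↔
          ∃ g : G, (v : G) = g * x * g⁻¹ := by
      intro v
      simp
    have hxx : p = 2 → ∀ g : G, g * (x * x) * g⁻¹ = x * x := by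
      intro hp2 g
      have h1 := hxp g
      rwa [hp2, pow_two] at h1
    have key := wc_trace ((MulAut.conjNormal (H := wcV x)).comp A.subtype)
      ((Subgroup.center G).subgroupOf (wcV x)) ?_ p n hn
      (Finset.univ.filter (fun v : wcV x => ∃ g : G, (v : G) = g * x * g⁻¹)) ?_ ?_ ?_
      ⟨x, hxV⟩ ?_ ?_ ?_ ?_ ?_
    · exact hcon ((hZmem _).mp key)
    · -- Z is fixed
      intro z hz a
      apply Subtype.ext
      rw [hφ]
      exact (hZmem z).mp hz a
    · -- Ω is invariant
      intro a y hy
      rw [hΩmem] at hy ⊢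
      obtain ⟨g, hg⟩ := hy
      refine ⟨a * g, ?_⟩
      rw [hφ, hg]; group
    · -- quadratic action
      intro y _ a b
      apply Subtype.ext
      rw [hφ, Subgroup.coe_mul, Subgroup.coe_inv, hφ]
      have h1 : (y : G)⁻¹ * b * (y : G)⁻¹⁻¹ ∈ A :=
        (Subgroup.mem_normalizer_iff.mp (hVA (Subgroup.inv_mem _ y.2)) b).mp b.2
      have h2 : (y : G)⁻¹ * (b * y * (b : G)⁻¹) ∈ A := by
        have h3 : (y : G)⁻¹ * (b * y * (b : G)⁻¹) = ((y : G)⁻¹ * b * (y : G)⁻¹⁻¹) * (b : G)⁻¹ := by
          group
        rw [h3]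
        exact A.mul_mem h1 (A.inv_mem b.2)
      rw [hAab a a.2 _ h2]; group
    · -- p-th powers
      intro y hy
      rw [hΩmem] at hy
      obtain ⟨g, hg⟩ := hy
      rw [hZmem]
      intro g'
      rw [Subgroup.coe_pow, hg, conj_pow, hxp, hxp]
    · -- x ∈ Ω
      rw [hΩmem]
      exact ⟨1, by simp⟩
    · -- x is fixed
      intro a
      apply Subtype.ext
      rw [hφ]
      have h1 := wc_mem_cent.mp (hSx (hAS a.2))
      show (a : G) * x * (a : G)⁻¹ = x
      calc (a : G) * x * (a : G)⁻¹ = (x * a) * (a : G)⁻¹ := by rw [h1]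
        _ = x := by group
    · -- uniqueness of the fixed point
      intro y hy hfix
      rw [hΩmem] at hy
      obtain ⟨g, hg⟩ := hy
      apply Subtype.ext
      show (y : G) = x
      have h1 : A ≤ Subgroup.centralizer ({g * x * g⁻¹} : Set G) := by
        intro a ha
        rw [wc_mem_cent, ← hg]
        have h2 := congrArg Subtype.val (hfix ⟨a, ha⟩)
        rw [hφ] at h2
        have h3 : a * (y : G) * a⁻¹ = y := h2
        calc (y : G) * a = (a * (y : G) * a⁻¹) * a := by rw [h3]
          _ = a * y := by group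
      have h2 : A ≤ Subgroup.centralizer ({1 * x * 1⁻¹} : Set G) := by
        simpa using hAS.trans hSx
      have h3 := wc_unique_of_big h A hAbig hAC g 1 h1 h2
      rw [hg, h3]; group
    · -- orbits of length two
      intro hp2 y hy a₀ ha₀
      by_contra hno
      push Not at hno
      rw [hΩmem] at hy
      obtain ⟨g, hg⟩ := hy
      apply wc_local_two h hp2 (hxx hp2) A hA hAC hVA (y : G) g hg a₀ a₀.2
      · intro h1
        apply ha₀
        apply Subtype.ext
        rw [hφ]
        exact h1
      · intro a ha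
        by_cases h1 : (MulAut.conjNormal (H := wcV x)).comp A.subtype ⟨a, ha⟩ y = y
        · left
          have h2 := congrArg Subtype.val h1
          rw [hφ] at h2
          exact h2
        · right
          have h2 := congrArg Subtype.val (hno ⟨a, ha⟩ h1)
          rw [hφ, hφ] at h2
          exact h2
    · -- the product over Ω is central
      rw [hZmem]
      intro g
      have h1 : ∀ v : wcV x, ((MulAut.conjNormal (H := wcV x) g v : wcV x) : G) = g * v * g⁻¹ :=
        fun v => rfl
      rw [← h1]
      congr 1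
      rw [map_prod]
      have h2 : (Finset.univ.filter (fun v : wcV x => ∃ g : G, (v : G) = g * x * g⁻¹)).image
          (MulAut.conjNormal (H := wcV x) g) =
          Finset.univ.filter (fun v : wcV x => ∃ g : G, (v : G) = g * x * g⁻¹) := by
        apply Finset.eq_of_subset_of_card_le
        · intro v hv
          obtain ⟨v', hv', rfl⟩ := Finset.mem_image.mp hv
          rw [hΩmem] at hv' ⊢
          obtain ⟨g', hg'⟩ := hv'
          refine ⟨g * g', ?_⟩
          rw [h1, hg']; group
        · rw [Finset.card_image_of_injective _ (MulAut.conjNormal (H := wcV x) g).injective]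
      nth_rewrite 2 [← h2]
      rw [Finset.prod_image (fun a _ b _ hab => (MulAut.conjNormal (H := wcV x) g).injective hab)]

end

end Cfsg.Agent.Helper46
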