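import Mathlib
import Cfsg.Prelude.Def_ConjugacyFunctors
import Cfsg.Agent.Helper33.Alperin
import Cfsg.Agent.Helper33.WellPlaced
import Cfsg.Agent.Helper46.Basic
import Cfsg.Agent.Helper46.WeakF

/-!
Helper46: **Glauberman's theorem on weakly closed elements**: an element `x` of a Sylow
`p`-subgroup `S` centralised by `N_G(J(S))` (abelian version of `J`) is weakly closed in `S`
with respect to `G`, provided `p` is odd, or `x` is a `p`-th power of an element of `Z(S)`, or
`S₄` is not involved in `G` (`wc_main`).

The reduction to the local case uses helper33's Alperin–Goldschmidt fusion theorem for the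
family of well-placed subgroups (`Helper33/Alperin.lean`, `Helper33/WellPlaced.lean`).
-/

set_option autoImplicit false

namespace Cfsg.Agent.Helper46

open Cfsg Helper33

universe u

theorem JA_isConjugacyFunctor {G : Type*} [Group G] [Finite G] (p : ℕ) :
    Cfsg.IsConjugacyFunctor p (JA : Subgroup G → Subgroup G) := by
  intro P _
  exact ⟨JA_le P, JA_ne_bot, fun g => JA_map _ ((MulAut.conj g).injective.injOn)⟩

/-- along a chain all of whose steps centralise `x`, the element `x` stays fixed -/
theorem wc_chain_fix {G : Type*} [Group G] (𝓕 : Set (Subgroup G)) (x : G)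
    (hF : ∀ T ∈ 𝓕, x ∈ T →
      Subgroup.normalizer (T : Set G) ≤ Subgroup.centralizer ({x} : Set G)) :
    ∀ l : List (Subgroup G × G), Chain 𝓕 {x} l → (prodOf l)⁻¹ * x * prodOf l = x := by
  intro l
  induction l with
  | nil =>
    intro _
    rw [prodOf_nil]; group
  | cons s l ih =>
    intro hc
    obtain ⟨h1, h2, h3, h4⟩ := hc
    have hxs : x ∈ s.1 := h3 rfl
    have hcomm := wc_mem_cent.mp (hF s.1 h1 hxs h2)
    have hset : conjSet s.2 ({x} : Set G) = {x} := by
      ext z
      rw [mem_conjSet, Set.mem_singleton_iff, Set.mem_singleton_iff]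
      constructor
      · intro hz
        calc z = s.2⁻¹ * (s.2 * z * s.2⁻¹) * s.2 := by group
          _ = s.2⁻¹ * (x * s.2) := by rw [hz]; group
          _ = s.2⁻¹ * (s.2 * x) := by rw [hcomm]
          _ = x := by group
      · intro hz
        rw [hz]
        calc s.2 * x * s.2⁻¹ = (x * s.2) * s.2⁻¹ := by rw [hcomm]
          _ = x := by group
    rw [hset] at h4
    have ih' := ih h4
    rw [prodOf_cons]
    calc (s.2 * prodOf l)⁻¹ * x * (s.2 * prodOf l)
        = (prodOf l)⁻¹ * (s.2⁻¹ * (x * s.2)) * prodOf l := by group
      _ = (prodOf l)⁻¹ * (s.2⁻¹ * (s.2 * x)) * prodOf l := by rw [hcomm]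
      _ = (prodOf l)⁻¹ * x * prodOf l := by group
      _ = x := ih'

set_option maxHeartbeats 1600000 in
/-- **Glauberman's weak closure theorem** for `Z(N(J(S)))`. -/
theorem wc_main (p : ℕ) [hp : Fact p.Prime] :
    ∀ (n : ℕ) (G : Type u) [Group G] [Finite G], Nat.card G = n → WCStmt p G := by
  intro n
  induction n using Nat.strong_induction_on with
  | _ n ih =>
  intro G _ _ hn
  have IH : ∀ (G' : Type u) [Group G'] [Finite G'], Nat.card G' < Nat.card G → WCStmt p G' := by
    intro G' _ _ hlt
    exact ih (Nat.card G') (by rw [← hn]; exact hlt) G' rfl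
  intro S
  have main : ∀ (k : ℕ) (x : G), orderOf x = k → x ∈ (S : Subgroup G) →
      Subgroup.normalizer (JA (S : Subgroup G) : Set G) ≤ Subgroup.centralizer ({x} : Set G) →
      WCond p (S : Subgroup G) x →
      ∀ g : G, g * x * g⁻¹ ∈ (S : Subgroup G) → g * x * g⁻¹ = x := by
    intro k
    induction k using Nat.strong_induction_on with
    | _ k ihk =>
    intro x hk hxS hN hcond
    have hSx : (S : Subgroup G) ≤ Subgroup.centralizer ({x} : Set G) :=
      (Subgroup.le_normalizer.trans (normalizer_le_normalizer_JA _)).trans hN
    have hW := JA_isConjugacyFunctor (G := G) p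
    -- every well-placed subgroup containing `x` has its normalizer centralising `x`
    have hwp : ∀ (d : ℕ) (T : Subgroup G), Cfsg.IsWellPlaced p JA (S : Subgroup G) T → x ∈ T →
        Nat.card (S : Subgroup G) -
          Nat.card ((S : Subgroup G) ⊓ Subgroup.normalizer (T : Set G) : Subgroup G) = d →
        Subgroup.normalizer (T : Set G) ≤ Subgroup.centralizer ({x} : Set G) := by
      intro d
      induction d using Nat.strong_induction_on with
      | _ d ihd =>
      intro T hT hxT hd
      have hTS : T ≤ (S : Subgroup G) := hT.1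
      have hTp : IsPGroup p T := S.2.to_le hTS
      by_cases htop : Subgroup.normalizer (T : Set G) = ⊤
      · -- the local case
        have hTn : T.Normal := Subgroup.normalizer_eq_top_iff.mp htop
        have hVT : wcV x ≤ T :=
          Subgroup.normalClosure_le_normal (Set.singleton_subset_iff.mpr hxT)
        have hloc : WcLocal p S x := ⟨hxS, hN, hTp.to_le hVT, hcond, IH⟩
        have hxp : ∀ g : G, g * x ^ p * g⁻¹ = x ^ p := by
          by_cases hx1 : x = 1
          · intro g
            rw [hx1, one_pow]; group
          · have hlt : orderOf (x ^ p) < orderOf x := by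
              obtain ⟨k', hk'⟩ := pow_eq_one_of_isPGroup S.2 hxS
              obtain ⟨j, -, hj⟩ := (Nat.dvd_prime_pow hp.out).mp (orderOf_dvd_of_pow_eq_one hk')
              have hj0 : j ≠ 0 := by
                intro h0
                rw [h0, pow_zero] at hj
                exact hx1 (orderOf_eq_one_iff.mp hj)
              obtain ⟨j', rfl⟩ := Nat.exists_eq_succ_of_ne_zero hj0
              rw [orderOf_pow, hj]
              have hg : Nat.gcd (p ^ (j' + 1)) p = p :=
                Nat.gcd_eq_right (dvd_pow_self p (Nat.succ_ne_zero j'))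
              rw [hg, pow_succ, Nat.mul_div_cancel _ hp.out.pos]
              exact (Nat.lt_mul_iff_one_lt_right (pow_pos hp.out.pos j')).mpr hp.out.one_lt
            intro g
            apply ihk (orderOf (x ^ p)) (by rw [← hk]; exact hlt) (x ^ p) rfl
              (Subgroup.pow_mem _ hxS p) ?_ ?_ g ?_
            · intro m hm
              rw [wc_mem_cent]
              have h1 : Commute x m := wc_mem_cent.mp (hN hm)
              exact (h1.pow_left p).eq
            · rcases hcond with hc | ⟨w, hwS, hwc, hwx⟩ | hc
              · exact Or.inl hc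
              · exact Or.inr (Or.inl ⟨w ^ p, Subgroup.pow_mem _ hwS p,
                  Subgroup.pow_mem _ hwc p, by rw [hwx]⟩)
              · exact Or.inr (Or.inr hc)
            · rw [← conj_pow]
              exact Subgroup.pow_mem _ (hloc.V_le_S (wc_conj_mem_V x g)) p
        intro g _
        rw [wc_mem_cent]
        have h1 := wc_local hloc hxp g
        calc x * g = (g * x * g⁻¹) * g := by rw [h1]
          _ = g * x := by group
      · -- the normalizer is a proper subgroup: induction
        have hRle : (S : Subgroup G) ⊓ Subgroup.normalizer (T : Set G) ≤ (S : Subgroup G) :=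
          inf_le_left
        have hxR : x ∈ (S : Subgroup G) ⊓ Subgroup.normalizer (T : Set G) :=
          ⟨hxS, Subgroup.le_normalizer hxT⟩
        have hNJ : Subgroup.normalizer (T : Set G) ⊓
            Subgroup.normalizer (JA ((S : Subgroup G) ⊓ Subgroup.normalizer (T : Set G)) : Set G) ≤
            Subgroup.centralizer ({x} : Set G) := by
          by_cases hRS : (S : Subgroup G) ⊓ Subgroup.normalizer (T : Set G) = S
          · rw [hRS]
            exact inf_le_right.trans hN
          · have hT₁ : Cfsg.IsWellPlaced p JA (S : Subgroup G)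
                (JA ((S : Subgroup G) ⊓ Subgroup.normalizer (T : Set G))) :=
              IsWellPlaced.next hT ((JA_le _).trans hRle)
            have hxT₁ : x ∈ JA ((S : Subgroup G) ⊓ Subgroup.normalizer (T : Set G)) :=
              mem_JA_of_commute hxR (fun a ha => wc_mem_cent.mp (hSx ha.1))
            have hlt := lt_inf_normalizer S.2 hRle hRS
            have hle : (S : Subgroup G) ⊓ Subgroup.normalizer
                (((S : Subgroup G) ⊓ Subgroup.normalizer (T : Set G) : Subgroup G) : Set G) ≤
                (S : Subgroup G) ⊓ Subgroup.normalizer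
                  (JA ((S : Subgroup G) ⊓ Subgroup.normalizer (T : Set G)) : Set G) :=
              inf_le_inf le_rfl (normalizer_le_normalizer_JA _)
            have hc1 := card_lt_card_of_lt hlt
            have hc2 := Subgroup.card_le_of_le hle
            have hc3 : Nat.card ((S : Subgroup G) ⊓ Subgroup.normalizer
                (JA ((S : Subgroup G) ⊓ Subgroup.normalizer (T : Set G)) : Set G) : Subgroup G) ≤
                Nat.card (S : Subgroup G) := Subgroup.card_le_of_le inf_le_left
            exact inf_le_right.trans (ihd _ (by omega) _ hT₁ hxT₁ rfl)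
        intro m hm
        rw [wc_mem_cent]
        have hmx : m * x * m⁻¹ ∈ T := (Subgroup.mem_normalizer_iff.mp hm x).mp hxT
        have key := wc_ih_sub IH (Subgroup.normalizer (T : Set G))
          ((S : Subgroup G) ⊓ Subgroup.normalizer (T : Set G)) htop inf_le_right
          (S.2.to_le inf_le_left) (IsWellPlaced.syl hT) x hxR hNJ ?_ m hm ⟨hTS hmx, Subgroup.le_normalizer hmx⟩
        · calc x * m = (m * x * m⁻¹) * m := by rw [key]
            _ = m * x := by group
        · rcases hcond with hc | ⟨w, hwS, hwc, hwx⟩ | hc
          · exact Or.inl hc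
          · refine Or.inr (Or.inl ⟨w, ⟨hwS, ?_⟩, ?_, hwx⟩)
            · apply Subgroup.centralizer_le_normalizer
              exact Subgroup.centralizer_le (SetLike.coe_subset_coe.mpr hTS) hwc
            · exact Subgroup.centralizer_le (SetLike.coe_subset_coe.mpr hRle) hwc
          · exact Or.inr (Or.inr hc)
    -- Alperin's fusion theorem for the well-placed subgroups
    intro g hg
    have h𝓕 : ∀ T : Subgroup G, T ≤ (S : Subgroup G) →
        ∃ U ∈ {T : Subgroup G | Cfsg.IsWellPlaced p JA (S : Subgroup G) T},
          U ≤ (S : Subgroup G) ∧ (∃ g : G, T.map (MulAut.conj g).toMonoidHom = U) ∧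
          ¬ p ∣ ((S : Subgroup G) ⊓ Subgroup.normalizer (U : Set G)).relIndex
            (Subgroup.normalizer (U : Set G)) := by
      intro T hT
      obtain ⟨c, hc, -⟩ := exists_wellPlaced_cj S hW T hT
      exact ⟨_, hc, hc.1, ⟨c, rfl⟩, IsWellPlaced.syl hc⟩
    have hdec := alperin_set S _ h𝓕 ({x} : Set G) (Set.singleton_subset_iff.mpr hxS) g⁻¹ (by
      intro z hz
      rw [mem_conjSet, Set.mem_singleton_iff] at hz
      have h1 : z = g * x * g⁻¹ := by
        rw [← hz]; group
      rw [h1]
      exact hg)
    obtain ⟨l, hl, hprod⟩ := hdec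
    have hfix := wc_chain_fix _ x (fun T hT hxT => hwp _ T hT hxT rfl) l hl
    rw [hprod] at hfix
    simpa using hfix
  intro x hxS hN hcond
  exact main (orderOf x) x rfl hxS hN hcond

end Cfsg.Agent.Helper46
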