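/-
helper46: in a `{p,q}`-group `X` with `C_X(O_p(X)) ≤ O_p(X)` and `q ∣ |X|` (`(p,q) ≠ (2,3)`), some
characteristic subgroup of a Sylow `p`-subgroup is normalized but not centralized by a
`q`-element.  Proof: Glauberman's weak closure theorem (`wc_main`) along the upper central series
of the Sylow subgroup.  (For S4411.)
-/
import Cfsg.Agent.Helper46.AqBasic
import Cfsg.Agent.Helper46.WeakG

set_option autoImplicit false

namespace Cfsg.Agent.Helper46

open Cfsg

universe u

theorem JA_top_characteristic (P : Type*) [Group P] : (JA (⊤ : Subgroup P)).Characteristic := by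
  rw [Subgroup.characteristic_iff_map_eq]
  intro φ
  have h := JA_map (X := (⊤ : Subgroup P)) φ.toMonoidHom (φ.injective.injOn)
  rw [← h]
  congr 1
  exact Subgroup.map_top_of_surjective _ φ.surjective

theorem JA_top_map {P X : Type*} [Group P] [Group X] (ι : P →* X) (hι : Function.Injective ι) :
    (JA (⊤ : Subgroup P)).map ι = JA ι.range := by
  rw [← JA_map ι hι.injOn, MonoidHom.range_eq_map]

theorem characteristic_comap_mk {P : Type*} [Group P] (C : Subgroup P) [hC : C.Characteristic]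
    (K' : Subgroup (P ⧸ C)) [hK : K'.Characteristic] :
    (K'.comap (QuotientGroup.mk' C)).Characteristic := by
  rw [Subgroup.characteristic_iff_comap_le]
  intro φ x hx
  rw [Subgroup.mem_comap] at hx ⊢
  have hφ : C.map φ.toMonoidHom = C := Subgroup.characteristic_iff_map_eq.mp hC φ
  have h2 : K'.comap (QuotientGroup.congr C C φ hφ).toMonoidHom = K' :=
    Subgroup.characteristic_iff_comap_eq.mp hK _
  rw [← h2]
  rw [Subgroup.mem_comap]
  exact hx

/-- conjugating by `c` with `c u c⁻¹ u⁻¹` central: powers -/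
theorem conj_pow_of_central {X : Type*} [Group X] {c u : X}
    (hz : c * u * c⁻¹ * u⁻¹ ∈ Subgroup.center X) (k : ℕ) :
    c ^ k * u * (c ^ k)⁻¹ = (c * u * c⁻¹ * u⁻¹) ^ k * u := by
  induction k with
  | zero => simp
  | succ k ih =>
    have hcomm : ∀ g : X, g * (c * u * c⁻¹ * u⁻¹) ^ k = (c * u * c⁻¹ * u⁻¹) ^ k * g := fun g =>
      Subgroup.mem_center_iff.mp (Subgroup.pow_mem _ hz k) g
    calc c ^ (k + 1) * u * (c ^ (k + 1))⁻¹ = c * (c ^ k * u * (c ^ k)⁻¹) * c⁻¹ := by
          rw [pow_succ']; group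
      _ = c * ((c * u * c⁻¹ * u⁻¹) ^ k * u) * c⁻¹ := by rw [ih]
      _ = (c * (c * u * c⁻¹ * u⁻¹) ^ k) * u * c⁻¹ := by group
      _ = ((c * u * c⁻¹ * u⁻¹) ^ k * c) * u * c⁻¹ := by rw [hcomm c]
      _ = (c * u * c⁻¹ * u⁻¹) ^ k * (c * u * c⁻¹ * u⁻¹) * u := by group
      _ = (c * u * c⁻¹ * u⁻¹) ^ (k + 1) * u := by rw [pow_succ]

set_option maxHeartbeats 1600000 in
/-- the `{p,q}`-group statement -/
theorem char_aq (p q : ℕ) [hp : Fact p.Prime] [hq : Fact q.Prime] (hpq : p ≠ q)
    (h23 : ¬ (p = 2 ∧ q = 3)) :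
    ∀ (n : ℕ) (X : Type u) [Group X] [Finite X], Nat.card X = n →
      ∀ (P : Type u) [Group P] (ι : P →* X), Function.Injective ι →
        IsPGroup p ι.range → ¬ p ∣ ι.range.index →
        (∀ x : X, ∃ a b : ℕ, x ^ (p ^ a * q ^ b) = 1) →
        Subgroup.centralizer (pCore p X : Set X) ≤ pCore p X →
        q ∣ Nat.card X →
        ∃ K : Subgroup P, K.Characteristic ∧ Aq q (K.map ι) := by
  intro n
  induction n using Nat.strong_induction_on with
  | _ n ih =>
  intro X _ _ hn P _ ι hι hPp hidx hpqX hC hqX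
  obtain ⟨S, hS⟩ : ∃ S : Sylow p X, (S : Subgroup X) = ι.range := ⟨hPp.toSylow hidx, rfl⟩
  by_cases hA : Aq q (JA (S : Subgroup X))
  · refine ⟨JA (⊤ : Subgroup P), JA_top_characteristic P, ?_⟩
    rw [JA_top_map ι hι, ← hS]; exact hA
  have hPfin : Finite P := Finite.of_injective ι hι
  have hq_cent : ∀ y ∈ Subgroup.normalizer (JA (S : Subgroup X) : Set X),
      (∃ a : ℕ, y ^ q ^ a = 1) → y ∈ Subgroup.centralizer (JA (S : Subgroup X) : Set X) := by
    intro y hyN hya
    by_contra hyC
    exact hA ⟨y, hyN, hyC, hya⟩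
  -- `N(J(S)) ≤ C(x)` for `x ∈ Z(S)`
  have hNJ : ∀ x ∈ (S : Subgroup X), x ∈ Subgroup.centralizer ((S : Subgroup X) : Set X) →
      Subgroup.normalizer (JA (S : Subgroup X) : Set X) ≤ Subgroup.centralizer ({x} : Set X) := by
    intro x hxS hxC
    obtain ⟨N, hN⟩ : ∃ N : Subgroup X, N = Subgroup.normalizer (JA (S : Subgroup X) : Set X) :=
      ⟨_, rfl⟩
    rw [← hN]
    have hSN : (S : Subgroup X) ≤ N := by
      rw [hN]; exact le_trans Subgroup.le_normalizer (normalizer_le_normalizer_JA _)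
    have hxJ : x ∈ JA (S : Subgroup X) :=
      mem_JA_of_commute hxS (fun a ha => (Subgroup.mem_centralizer_iff.mp hxC a ha).symm)
    obtain ⟨Q⟩ : Nonempty (Sylow q N) := inferInstance
    have h1 : (S : Subgroup X).subgroupOf N ≤ (Subgroup.centralizer ({x} : Set X)).subgroupOf N := by
      intro s hs
      rw [Subgroup.mem_subgroupOf] at hs ⊢
      rw [wc_mem_cent]
      exact (Subgroup.mem_centralizer_iff.mp hxC (s : X) hs).symm
    have h2 : (Q : Subgroup N) ≤ (Subgroup.centralizer ({x} : Set X)).subgroupOf N := by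
      intro y hy
      rw [Subgroup.mem_subgroupOf, wc_mem_cent]
      obtain ⟨a, ha⟩ := (Q.isPGroup' : IsPGroup q (Q : Subgroup N)) ⟨y, hy⟩
      have hya : ((y : N) : X) ^ q ^ a = 1 := by
        have := congrArg (fun z : (Q : Subgroup N) => ((z : N) : X)) ha
        simpa using this
      have hyN : (y : X) ∈ Subgroup.normalizer (JA (S : Subgroup X) : Set X) := by
        rw [← hN]; exact y.2
      have hyc := hq_cent (y : X) hyN ⟨a, hya⟩
      exact Subgroup.mem_centralizer_iff.mp hyc x hxJ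
    have h3 : ((Subgroup.centralizer ({x} : Set X)).subgroupOf N).index = 1 := by
      by_contra hne
      obtain ⟨r, hr, hrd⟩ := Nat.exists_prime_and_dvd hne
      have hrN : r ∣ Nat.card N := dvd_trans hrd (Subgroup.index_dvd_card _)
      have := Fact.mk hr
      obtain ⟨z, hz⟩ := exists_prime_orderOf_dvd_card' r hrN
      obtain ⟨a, b, hab⟩ := hpqX (z : X)
      have hrab : r ∣ p ^ a * q ^ b := by
        rw [← hz, ← Subgroup.orderOf_coe]; exact orderOf_dvd_of_pow_eq_one hab
      rcases (Nat.Prime.dvd_mul hr).mp hrab with h | h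
      · have hrp := (Nat.prime_dvd_prime_iff_eq hr hp.out).mp (hr.dvd_of_dvd_pow h)
        rw [hrp] at hrd
        have h4 : p ∣ ((S : Subgroup X).subgroupOf N).index :=
          dvd_trans hrd (Subgroup.index_dvd_of_le h1)
        have h5 : ((S : Subgroup X).subgroupOf N).index ∣ (S : Subgroup X).index :=
          Subgroup.relIndex_dvd_index_of_le hSN
        exact S.not_dvd_index (dvd_trans h4 h5)
      · have hrq := (Nat.prime_dvd_prime_iff_eq hr hq.out).mp (hr.dvd_of_dvd_pow h)
        rw [hrq] at hrd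
        exact Q.not_dvd_index (dvd_trans hrd (Subgroup.index_dvd_of_le h2))
    intro g hg
    have : (⟨g, hg⟩ : N) ∈ (Subgroup.centralizer ({x} : Set X)).subgroupOf N := by
      rw [Subgroup.index_eq_one.mp h3]; trivial
    exact Subgroup.mem_subgroupOf.mp this
  -- weak closure
  have hwc := wc_main p (Nat.card X) X rfl S
  have hWC : ∀ x : X, WCond p (S : Subgroup X) x := by
    intro x
    by_cases hp2 : p = 2
    · right; right
      intro hinv
      obtain ⟨K, f, hf⟩ := involves_iff.mp hinv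
      have h24 : Nat.card (Equiv.Perm (Fin 4)) = 24 := by
        rw [Nat.card_eq_fintype_card, Fintype.card_perm]; rfl
      have h3 : 3 ∣ Nat.card K := by
        have h := Subgroup.card_dvd_of_surjective f hf
        rw [h24] at h
        exact dvd_trans (by norm_num) h
      have : Fact (Nat.Prime 3) := ⟨Nat.prime_three⟩
      obtain ⟨z, hz⟩ := exists_prime_orderOf_dvd_card' 3 h3
      obtain ⟨a, b, hab⟩ := hpqX (z : X)
      have h3ab : 3 ∣ p ^ a * q ^ b := by
        rw [← hz, ← Subgroup.orderOf_coe]; exact orderOf_dvd_of_pow_eq_one hab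
      rcases (Nat.Prime.dvd_mul Nat.prime_three).mp h3ab with h | h
      · have := (Nat.prime_dvd_prime_iff_eq Nat.prime_three hp.out).mp
          (Nat.prime_three.dvd_of_dvd_pow h)
        omega
      · have := (Nat.prime_dvd_prime_iff_eq Nat.prime_three hq.out).mp
          (Nat.prime_three.dvd_of_dvd_pow h)
        exact h23 ⟨hp2, this.symm⟩
    · left; exact hp2
  have hPn : (pCore p X).Normal := pCore_normal p X
  have hZcentral : ∀ x ∈ (S : Subgroup X), x ∈ Subgroup.centralizer ((S : Subgroup X) : Set X) →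
      x ∈ Subgroup.center X := by
    intro x hxS hxC
    have hxP : x ∈ pCore p X := hC (Subgroup.centralizer_le (pCore_le_sylow S) hxC)
    rw [Subgroup.mem_center_iff]
    intro g
    have h1 : g * x * g⁻¹ ∈ (S : Subgroup X) := pCore_le_sylow S (hPn.conj_mem x hxP g)
    have h2 := hwc x hxS (hNJ x hxS hxC) (hWC x) g h1
    calc g * x = g * x * g⁻¹ * g := by group
      _ = x * g := by rw [h2]
  -- the central subgroup `Z = ι(Z(P))`
  obtain ⟨Z, hZdef⟩ : ∃ Z : Subgroup X, Z = (Subgroup.center P).map ι := ⟨_, rfl⟩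
  have hZc : Z ≤ Subgroup.center X := by
    rw [hZdef]
    rintro _ ⟨z, hz, rfl⟩
    apply hZcentral
    · rw [hS]; exact ⟨z, rfl⟩
    · rw [hS, Subgroup.mem_centralizer_iff]
      rintro _ ⟨s, rfl⟩
      rw [← map_mul, ← map_mul, Subgroup.mem_center_iff.mp hz s]
  have hZn : Z.Normal := by
    constructor
    intro z hz g
    have := Subgroup.mem_center_iff.mp (hZc hz) g
    have h1 : g * z * g⁻¹ = z := by rw [this]; group
    rw [h1]; exact hz
  have hPpP : IsPGroup p P := by
    have := IsPGroup.of_injective hPp ι.rangeRestrict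
      (by
        intro a b hab
        apply hι
        have := congrArg (fun z : ι.range => (z : X)) hab
        simpa using this)
    exact this
  have hPnt : Nontrivial P := by
    by_contra hnt
    rw [not_nontrivial_iff_subsingleton] at hnt
    have hSbot : (S : Subgroup X) = ⊥ := by
      rw [hS, eq_bot_iff]
      rintro _ ⟨a, rfl⟩
      rw [Subsingleton.elim a 1, map_one]; exact Subgroup.one_mem _
    have hPbot : pCore p X = ⊥ := by
      rw [eq_bot_iff, ← hSbot]; exact pCore_le_sylow S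
    have hX : ∀ x : X, x = 1 := by
      intro x
      have : x ∈ Subgroup.centralizer (pCore p X : Set X) := by
        rw [hPbot, Subgroup.mem_centralizer_iff]
        intro h hh
        rw [Subgroup.mem_bot.mp hh]; simp
      have := hC this
      rw [hPbot] at this
      exact Subgroup.mem_bot.mp this
    have hcard : Nat.card X = 1 := by
      rw [Nat.card_eq_one_iff_unique]
      exact ⟨⟨fun a b => by rw [hX a, hX b]⟩, ⟨1⟩⟩
    rw [hcard] at hqX
    exact hq.out.one_lt.ne' (Nat.dvd_one.mp hqX)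
  have hcnt : Nontrivial (Subgroup.center P) := hPpP.center_nontrivial
  have hZcard : 1 < Nat.card Z := by
    rw [hZdef, Subgroup.card_map_of_injective hι]
    exact Finite.one_lt_card
  have hZp : IsPGroup p Z := by
    rw [hZdef]
    exact (hPpP.to_subgroup _).map ι
  obtain ⟨i, hi⟩ := IsPGroup.iff_card.mp hZp
  have hπs : Function.Surjective (QuotientGroup.mk' Z) := QuotientGroup.mk'_surjective Z
  have hcardX : Nat.card X = Nat.card (X ⧸ Z) * Nat.card Z :=
    Subgroup.card_eq_card_quotient_mul_card_subgroup Z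
  have hlt : Nat.card (X ⧸ Z) < n := by
    rw [← hn, hcardX]
    have hpos : 0 < Nat.card (X ⧸ Z) := Nat.card_pos
    nlinarith
  have hcomap : Subgroup.center P ≤ Z.comap ι := by
    intro z hz
    rw [Subgroup.mem_comap, hZdef]
    exact ⟨z, hz, rfl⟩
  obtain ⟨ι', hι'def⟩ : ∃ ι' : P ⧸ Subgroup.center P →* X ⧸ Z,
      ι' = QuotientGroup.map (Subgroup.center P) Z ι hcomap := ⟨_, rfl⟩
  have hι'mk : ∀ a : P, ι' (QuotientGroup.mk' (Subgroup.center P) a) = QuotientGroup.mk' Z (ι a) := by
    intro a; rw [hι'def]; rfl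
  have hι' : Function.Injective ι' := by
    rw [injective_iff_map_eq_one]
    intro a
    obtain ⟨a, rfl⟩ := QuotientGroup.mk'_surjective (Subgroup.center P) a
    intro ha
    rw [hι'mk] at ha
    have h1 : ι a ∈ Z := (QuotientGroup.eq_one_iff _).mp ha
    rw [hZdef] at h1
    obtain ⟨z, hz, hza⟩ := h1
    have h2 : z = a := hι hza
    rw [← h2]
    exact (QuotientGroup.eq_one_iff z).mpr hz
  have hrange : ι'.range = ι.range.map (QuotientGroup.mk' Z) := by
    ext x'
    constructor
    · rintro ⟨a', rfl⟩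
      obtain ⟨a, rfl⟩ := QuotientGroup.mk'_surjective (Subgroup.center P) a'
      exact ⟨ι a, ⟨a, rfl⟩, (hι'mk a).symm⟩
    · rintro ⟨_, ⟨a, rfl⟩, rfl⟩
      exact ⟨QuotientGroup.mk' (Subgroup.center P) a, hι'mk a⟩
  have hPp' : IsPGroup p ι'.range := by rw [hrange]; exact hPp.map _
  have hidx' : ¬ p ∣ ι'.range.index := by
    rw [hrange]
    intro h
    exact hidx (dvd_trans h (Subgroup.index_map_dvd _ hπs))
  have hpqX' : ∀ x : X ⧸ Z, ∃ a b : ℕ, x ^ (p ^ a * q ^ b) = 1 := by
    intro x'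
    obtain ⟨x, rfl⟩ := hπs x'
    obtain ⟨a, b, hab⟩ := hpqX x
    exact ⟨a, b, by rw [← map_pow, hab, map_one]⟩
  have hC' : Subgroup.centralizer (pCore p (X ⧸ Z) : Set (X ⧸ Z)) ≤ pCore p (X ⧸ Z) := by
    intro c' hc'
    have hmapn : ((pCore p X).map (QuotientGroup.mk' Z)).Normal := hPn.map _ hπs
    have hmaple : (pCore p X).map (QuotientGroup.mk' Z) ≤ pCore p (X ⧸ Z) :=
      le_pCore hmapn ((pCore_isPGroup p X).map _)
    obtain ⟨D, hD⟩ : ∃ D : Subgroup X, D = (Subgroup.centralizer
        (((pCore p X).map (QuotientGroup.mk' Z) : Subgroup (X ⧸ Z)) : Set (X ⧸ Z))).comap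
        (QuotientGroup.mk' Z) := ⟨_, rfl⟩
    have hDn : D.Normal := by
      rw [hD]
      have := hmapn
      exact Subgroup.Normal.comap Subgroup.normal_centralizer _
    have hDp : IsPGroup p D := by
      apply isPGroup_of_forall_pow
      intro c hc
      rw [hD, Subgroup.mem_comap, Subgroup.mem_centralizer_iff] at hc
      have hzu : ∀ u ∈ pCore p X, c * u * c⁻¹ * u⁻¹ ∈ Z := by
        intro u hu
        have h1 := hc (QuotientGroup.mk' Z u) ⟨u, hu, rfl⟩
        rw [← QuotientGroup.eq_one_iff]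
        have h2 : (QuotientGroup.mk' Z) (c * u * c⁻¹ * u⁻¹) = 1 := by
          rw [map_mul, map_mul, map_mul, ← h1, map_inv, map_inv]; group
        exact h2
      have hcen : c ^ Nat.card Z ∈ Subgroup.centralizer (pCore p X : Set X) := by
        rw [Subgroup.mem_centralizer_iff]
        intro u hu
        have h1 := conj_pow_of_central (hZc (hzu u hu)) (Nat.card Z)
        have h2 : (c * u * c⁻¹ * u⁻¹) ^ Nat.card Z = 1 := by
          have h3 := pow_card_eq_one' (G := Z) (x := ⟨c * u * c⁻¹ * u⁻¹, hzu u hu⟩)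
          have h4 : ((⟨c * u * c⁻¹ * u⁻¹, hzu u hu⟩ : Z) : X) ^ Nat.card Z = 1 := by
            rw [← Subgroup.coe_pow, h3, Subgroup.coe_one]
          exact h4
        rw [h2, one_mul] at h1
        calc u * c ^ Nat.card Z = c ^ Nat.card Z * u * (c ^ Nat.card Z)⁻¹ * c ^ Nat.card Z := by
              rw [h1]
          _ = c ^ Nat.card Z * u := by group
      obtain ⟨j, hj⟩ := pow_mem_pCore (hC hcen)
      refine ⟨i + j, ?_⟩
      rw [pow_add, pow_mul, ← hi]; exact hj
    have hDle : D ≤ pCore p X := le_pCore hDn hDp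
    obtain ⟨c, rfl⟩ := hπs c'
    have hcD : c ∈ D := by
      rw [hD, Subgroup.mem_comap]
      exact Subgroup.centralizer_le hmaple hc'
    exact hmaple ⟨c, hDle hcD, rfl⟩
  have hqX' : q ∣ Nat.card (X ⧸ Z) := by
    rw [hcardX] at hqX
    rcases (Nat.Prime.dvd_mul hq.out).mp hqX with h | h
    · exact h
    · exfalso
      rw [hi] at h
      exact hpq ((Nat.prime_dvd_prime_iff_eq hq.out hp.out).mp (hq.out.dvd_of_dvd_pow h)).symm
  obtain ⟨K', hK'c, y', hy'N, hy'C, a, hy'a⟩ :=
    ih (Nat.card (X ⧸ Z)) hlt (X ⧸ Z) rfl (P ⧸ Subgroup.center P) ι' hι' hPp' hidx' hpqX' hC' hqX'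
  have hKmap : (K'.comap (QuotientGroup.mk' (Subgroup.center P))).map ι =
      (K'.map ι').comap (QuotientGroup.mk' Z) := by
    ext x
    constructor
    · rintro ⟨k, hk, rfl⟩
      exact ⟨QuotientGroup.mk' (Subgroup.center P) k, hk, hι'mk k⟩
    · rintro ⟨k', hk', hkx⟩
      obtain ⟨k, rfl⟩ := QuotientGroup.mk'_surjective (Subgroup.center P) k'
      rw [hι'mk] at hkx
      have h1 : (ι k)⁻¹ * x ∈ Z := QuotientGroup.eq.mp hkx
      rw [hZdef] at h1
      obtain ⟨z, hz, hzx⟩ := h1
      refine ⟨k * z, ?_, ?_⟩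
      · rw [SetLike.mem_coe, Subgroup.mem_comap]
        have hz1 : (QuotientGroup.mk' (Subgroup.center P)) z = 1 :=
          (QuotientGroup.eq_one_iff z).mpr hz
        have : (QuotientGroup.mk' (Subgroup.center P)) (k * z) =
            QuotientGroup.mk' (Subgroup.center P) k := by
          rw [map_mul, hz1, mul_one]
        rw [this]; exact hk'
      · rw [map_mul, hzx]; group
  refine ⟨K'.comap (QuotientGroup.mk' (Subgroup.center P)), characteristic_comap_mk _ K', ?_⟩
  rw [hKmap]
  obtain ⟨y₀, rfl⟩ := hπs y'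
  have hy0Z : y₀ ^ q ^ a ∈ Z := by
    rw [← QuotientGroup.eq_one_iff, QuotientGroup.mk_pow]; exact hy'a
  have hcop : Nat.Coprime (Nat.card Z) (q ^ a) := by
    rw [hi]
    exact Nat.Coprime.pow _ _ ((Nat.coprime_primes hp.out hq.out).mpr hpq)
  refine ⟨y₀ ^ Nat.card Z, ?_, ?_, a, ?_⟩
  · apply Subgroup.le_normalizer_comap (QuotientGroup.mk' Z)
    rw [Subgroup.mem_comap, map_pow]
    exact Subgroup.pow_mem _ hy'N _
  · intro hc
    apply hy'C
    have h1 : (QuotientGroup.mk' Z y₀) ^ Nat.card Z ∈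
        Subgroup.centralizer ((K'.map ι' : Subgroup (X ⧸ Z)) : Set (X ⧸ Z)) := by
      rw [Subgroup.mem_centralizer_iff]
      intro k' hk'
      obtain ⟨k, rfl⟩ := hπs k'
      have h2 := Subgroup.mem_centralizer_iff.mp hc k (Subgroup.mem_comap.mpr hk')
      rw [← map_pow, ← map_mul, ← map_mul, h2]
    exact mem_of_pow_mem_of_coprime h1 hy'a hcop
  · rw [← pow_mul, mul_comm, pow_mul]
    have h3 := pow_card_eq_one' (G := Z) (x := ⟨y₀ ^ q ^ a, hy0Z⟩)
    have h4 : ((⟨y₀ ^ q ^ a, hy0Z⟩ : Z) : X) ^ Nat.card Z = 1 := by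
      rw [← Subgroup.coe_pow, h3, Subgroup.coe_one]
    exact h4

end Cfsg.Agent.Helper46
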