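/-
helper46: a transfer-type splitting lemma.  If a finite group `Γ` acts on a finite abelian group
`B` and `S ≤ Γ` has index prime to `|B|`, then the fixed points of `Γ` are a direct factor of the
fixed points of `S`.  Used for S1945.
-/
import Mathlib

set_option autoImplicit false

namespace Cfsg.Agent.Helper46

open Subgroup

/-- the fixed points of a subgroup `S` of `Γ` acting on `B` -/
def fixSub {B : Type*} [CommGroup B] {Γ : Type*} [Group Γ] (φ : Γ →* MulAut B)
    (S : Subgroup Γ) : Subgroup B where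
  carrier := {b | ∀ s ∈ S, φ s b = b}
  mul_mem' := by
    intro a b ha hb s hs
    rw [map_mul, ha s hs, hb s hs]
  one_mem' := by
    intro s _
    exact map_one _
  inv_mem' := by
    intro a ha s hs
    rw [map_inv, ha s hs]

theorem mem_fixSub {B : Type*} [CommGroup B] {Γ : Type*} [Group Γ] (φ : Γ →* MulAut B)
    (S : Subgroup Γ) (b : B) : b ∈ fixSub φ S ↔ ∀ s ∈ S, φ s b = b := Iff.rfl

/-- the "norm" endomorphism `b ↦ ∏_{q ∈ Γ/S} q b` of `B` -/
noncomputable def normEnd {B : Type*} [CommGroup B] {Γ : Type*} [Group Γ] [Finite Γ]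
    (φ : Γ →* MulAut B) (S : Subgroup Γ) : B →* B :=
  letI : Fintype (Γ ⧸ S) := Fintype.ofFinite _
  ∏ q : Γ ⧸ S, ((φ (Quotient.out q)).toMonoidHom : B →* B)

theorem normEnd_apply {B : Type*} [CommGroup B] {Γ : Type*} [Group Γ] [Finite Γ]
    (φ : Γ →* MulAut B) (S : Subgroup Γ) (b : B) :
    letI : Fintype (Γ ⧸ S) := Fintype.ofFinite _
    normEnd φ S b = ∏ q : Γ ⧸ S, φ (Quotient.out q) b := by
  unfold normEnd
  rw [MonoidHom.finsetProd_apply]
  rfl

theorem normEnd_mem_fix {B : Type*} [CommGroup B] {Γ : Type*} [Group Γ] [Finite Γ]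
    (φ : Γ →* MulAut B) (S : Subgroup Γ) {b : B} (hb : b ∈ fixSub φ S) :
    normEnd φ S b ∈ fixSub φ ⊤ := by
  intro g _
  let _ : Fintype (Γ ⧸ S) := Fintype.ofFinite _
  rw [normEnd_apply, map_prod]
  have h1 : ∀ q : Γ ⧸ S, φ g (φ (Quotient.out q) b) = φ (Quotient.out (g • q)) b := by
    intro q
    have h2 : (Quotient.out (g • q))⁻¹ * (g * Quotient.out q) ∈ S := by
      rw [← QuotientGroup.eq]
      have h3 : ((Quotient.out (g • q) : Γ) : Γ ⧸ S) = g • q := QuotientGroup.out_eq' _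
      rw [h3]
      have h4 : ((Quotient.out q : Γ) : Γ ⧸ S) = q := QuotientGroup.out_eq' _
      conv_lhs => rw [← h4]
      rfl
    have h5 : g * Quotient.out q
        = Quotient.out (g • q) * ((Quotient.out (g • q))⁻¹ * (g * Quotient.out q)) := by
      group
    have h6 : φ g (φ (Quotient.out q) b) = φ (g * Quotient.out q) b := by
      rw [map_mul]
      rfl
    rw [h6, h5, map_mul]
    show φ (Quotient.out (g • q)) (φ ((Quotient.out (g • q))⁻¹ * (g * Quotient.out q)) b) = _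
    rw [hb _ h2]
  rw [Finset.prod_congr rfl (fun q _ => h1 q)]
  exact Equiv.prod_comp (MulAction.toPerm g : Equiv.Perm (Γ ⧸ S)) (fun q => φ (Quotient.out q) b)

theorem normEnd_of_fix {B : Type*} [CommGroup B] {Γ : Type*} [Group Γ] [Finite Γ]
    (φ : Γ →* MulAut B) (S : Subgroup Γ) {b : B} (hb : b ∈ fixSub φ ⊤) :
    normEnd φ S b = b ^ S.index := by
  let _ : Fintype (Γ ⧸ S) := Fintype.ofFinite _
  rw [normEnd_apply]
  have h : ∀ q : Γ ⧸ S, φ (Quotient.out q) b = b := fun q => hb _ (Subgroup.mem_top _)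
  rw [Finset.prod_eq_pow_card (b := b) (fun q _ => h q)]
  rw [Finset.card_univ, Subgroup.index_eq_card, Nat.card_eq_fintype_card]

/-- **Splitting lemma**: the `Γ`-fixed points are a direct factor of the `S`-fixed points when
`[Γ : S]` is prime to `|B|`. -/
theorem norm_split {B : Type*} [CommGroup B] [Finite B] {Γ : Type*} [Group Γ] [Finite Γ]
    (φ : Γ →* MulAut B) (S : Subgroup Γ) (hcop : S.index.Coprime (Nat.card B)) :
    ∃ K : Subgroup B, K ≤ fixSub φ S ∧ fixSub φ ⊤ ⊓ K = ⊥ ∧ fixSub φ ⊤ ⊔ K = fixSub φ S := by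
  have hle : fixSub φ ⊤ ≤ fixSub φ S := fun b hb s _ => hb s (Subgroup.mem_top _)
  refine ⟨fixSub φ S ⊓ (normEnd φ S).ker, inf_le_left, ?_, ?_⟩
  · rw [eq_bot_iff]
    intro b hb
    rw [Subgroup.mem_bot]
    have h1 : normEnd φ S b = 1 := MonoidHom.mem_ker.mp hb.2.2
    rw [normEnd_of_fix φ S hb.1] at h1
    have h2 : orderOf b ∣ S.index := orderOf_dvd_of_pow_eq_one h1
    have h3 : orderOf b ∣ Nat.card B := orderOf_dvd_natCard b
    have h4 : orderOf b = 1 := Nat.eq_one_of_dvd_coprimes hcop h2 h3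
    exact orderOf_eq_one_iff.mp h4
  · apply le_antisymm (sup_le hle inf_le_left)
    intro b hb
    by_cases hB : Nat.card B = 1
    · have : Subsingleton B := (Nat.card_eq_one_iff_unique.mp hB).1
      rw [Subsingleton.elim b 1]
      exact Subgroup.one_mem _
    have hB1 : 1 < Nat.card B := lt_of_le_of_ne Nat.card_pos (Ne.symm hB)
    obtain ⟨k, -, hk⟩ := Nat.exists_mul_mod_eq_one_of_coprime hcop hB1
    have hw : (normEnd φ S b) ^ k ∈ fixSub φ ⊤ := Subgroup.pow_mem _ (normEnd_mem_fix φ S hb) k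
    have h1 : normEnd φ S ((normEnd φ S b) ^ k) = normEnd φ S b := by
      rw [normEnd_of_fix φ S hw, ← pow_mul, mul_comm, ← pow_mod_natCard, hk, pow_one]
    have h2 : b * ((normEnd φ S b) ^ k)⁻¹ ∈ fixSub φ S ⊓ (normEnd φ S).ker := by
      refine Subgroup.mem_inf.mpr ⟨Subgroup.mul_mem _ hb (Subgroup.inv_mem _ (hle hw)),
        MonoidHom.mem_ker.mpr ?_⟩
      rw [map_mul, map_inv, h1, mul_inv_cancel]
    have h3 : b = (normEnd φ S b) ^ k * (b * ((normEnd φ S b) ^ k)⁻¹) := by
      rw [mul_comm b, mul_inv_cancel_left]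
    rw [h3]
    exact Subgroup.mul_mem_sup hw h2

end Cfsg.Agent.Helper46
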