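/-
helper46: the weakly closed elements of a Sylow `p`-subgroup `S` form a direct factor of `Z(S)`
(`p` odd, or `G` solvable).  For `p` odd they are `Z(S) ∩ Z(N_G(J(S)))` (Glauberman, `wc_main`);
for `G` solvable they are the elements of `S` that are central modulo `O_{p'}(G)`.
-/
import Cfsg.Agent.Helper46.NormSplit
import Cfsg.Agent.Helper46.WeakG
import Cfsg.Agent.Helper24.HallHigman
import Cfsg.Agent.Helper33.SylowRel

set_option autoImplicit false

universe u

namespace Cfsg.Agent.Helper46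

open Cfsg
open scoped IsMulCommutative

/-- subgroup form of `norm_split`: if `N` normalizes the abelian subgroup `B` and `S ≤ N` has index
prime to `|B|`, then `C_B(N)` is a direct factor of `C_B(S)`. -/
theorem norm_split_sub {G : Type*} [Group G] [Finite G] (N S B : Subgroup G) (hSN : S ≤ N)
    (hBN : N ≤ Subgroup.normalizer (B : Set G)) (hBab : ∀ a ∈ B, ∀ b ∈ B, a * b = b * a)
    (hcop : (S.relIndex N).Coprime (Nat.card B)) :
    ∃ K : Subgroup G, K ≤ B ⊓ Subgroup.centralizer (S : Set G) ∧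
      (B ⊓ Subgroup.centralizer (N : Set G)) ⊓ K = ⊥ ∧
      (B ⊓ Subgroup.centralizer (N : Set G)) ⊔ K = B ⊓ Subgroup.centralizer (S : Set G) ∧
      ∀ x ∈ B ⊓ Subgroup.centralizer (S : Set G),
        ∃ w ∈ B ⊓ Subgroup.centralizer (N : Set G), ∃ k ∈ K, w * k = x := by
  have : IsMulCommutative B := (ab_iff _).mp hBab
  let φ : ↥N →* MulAut ↥B := (B.normalizerMonoidHom).comp (Subgroup.inclusion hBN)
  have hφ : ∀ (n : ↥N) (b : ↥B), ((φ n b : ↥B) : G) = (n : G) * (b : G) * (n : G)⁻¹ :=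
    fun n b => rfl
  have key : ∀ T : Subgroup G, T ≤ N →
      (fixSub φ (T.subgroupOf N)).map B.subtype = B ⊓ Subgroup.centralizer (T : Set G) := by
    intro T hTN
    ext x
    constructor
    · rintro ⟨b, hb, rfl⟩
      refine Subgroup.mem_inf.mpr ⟨b.2, ?_⟩
      rw [Subgroup.mem_centralizer_iff]
      intro t ht
      have h1 : φ ⟨t, hTN ht⟩ b = b := hb ⟨t, hTN ht⟩ (Subgroup.mem_subgroupOf.mpr ht)
      have h2 : t * (b : G) * t⁻¹ = (b : G) := by
        rw [← hφ ⟨t, hTN ht⟩ b, h1]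
      show t * (b : G) = (b : G) * t
      calc t * (b : G) = (t * (b : G) * t⁻¹) * t := by group
        _ = (b : G) * t := by rw [h2]
    · intro hx
      obtain ⟨hxB, hxC⟩ := Subgroup.mem_inf.mp hx
      rw [Subgroup.mem_centralizer_iff] at hxC
      refine ⟨⟨x, hxB⟩, ?_, rfl⟩
      intro t ht
      apply Subtype.ext
      rw [hφ]
      show (t : G) * x * (t : G)⁻¹ = x
      rw [hxC (t : G) (Subgroup.mem_subgroupOf.mp ht)]
      group
  have hcop' : (S.subgroupOf N).index.Coprime (Nat.card ↥B) := hcop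
  obtain ⟨K', hK1, hK2, hK3⟩ := norm_split φ (S.subgroupOf N) hcop'
  have hkeyS := key S hSN
  have hkeyN := key N le_rfl
  rw [Subgroup.subgroupOf_self] at hkeyN
  refine ⟨K'.map B.subtype, ?_, ?_, ?_, ?_⟩
  · rw [← hkeyS]
    exact Subgroup.map_mono hK1
  · rw [← hkeyN, ← Subgroup.map_inf _ _ _ B.subtype_injective, hK2, Subgroup.map_bot]
  · rw [← hkeyN, ← Subgroup.map_sup, hK3, hkeyS]
  · intro x hx
    rw [← hkeyS, ← hK3] at hx
    obtain ⟨b, hb, rfl⟩ := hx
    obtain ⟨w, hw, k, hk, hwk⟩ := Subgroup.mem_sup.mp hb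
    refine ⟨(w : G), ?_, (k : G), ⟨k, hk, rfl⟩, ?_⟩
    · rw [← hkeyN]
      exact ⟨w, hw, rfl⟩
    · rw [← hwk]
      rfl

/-- the normalizer of `J` normalizes `Z(J)` -/
theorem conj_mem_center_of_mem_normalizer {G : Type*} [Group G] {J : Subgroup G} {n : G}
    (hn : n ∈ Subgroup.normalizer (J : Set G)) {b : G}
    (hb : b ∈ J ⊓ Subgroup.centralizer (J : Set G)) :
    n * b * n⁻¹ ∈ J ⊓ Subgroup.centralizer (J : Set G) := by
  obtain ⟨hbJ, hbC⟩ := Subgroup.mem_inf.mp hb
  rw [Subgroup.mem_centralizer_iff] at hbC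
  refine Subgroup.mem_inf.mpr ⟨(Subgroup.mem_normalizer_iff.mp hn b).mp hbJ, ?_⟩
  rw [Subgroup.mem_centralizer_iff]
  intro j hj
  have h1 : n⁻¹ * j * n ∈ J := by
    have h2 := (Subgroup.mem_normalizer_iff.mp (Subgroup.inv_mem _ hn) j).mp hj
    simpa using h2
  have h3 := hbC _ h1
  calc j * (n * b * n⁻¹) = n * ((n⁻¹ * j * n) * b) * n⁻¹ := by group
    _ = n * (b * (n⁻¹ * j * n)) * n⁻¹ := by rw [h3]
    _ = n * b * n⁻¹ * j := by group

theorem le_normalizer_center_of_le_normalizer {G : Type*} [Group G] {J N : Subgroup G}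
    (hN : N ≤ Subgroup.normalizer (J : Set G)) :
    N ≤ Subgroup.normalizer ((J ⊓ Subgroup.centralizer (J : Set G) : Subgroup G) : Set G) := by
  intro n hn
  rw [Subgroup.mem_normalizer_iff]
  intro b
  constructor
  · intro hb
    exact conj_mem_center_of_mem_normalizer (hN hn) hb
  · intro hb
    have h1 := conj_mem_center_of_mem_normalizer (Subgroup.inv_mem _ (hN hn)) hb
    have h2 : n⁻¹ * (n * b * n⁻¹) * n⁻¹⁻¹ = b := by group
    rwa [h2] at h1

/-- **S1945, `p` odd**: the weakly closed elements of `S` are `Z(J(S)) ∩ Z(N_G(J(S)))`, a direct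
factor of `Z(S)`. -/
theorem wc_split_odd {G : Type u} [Group G] [Finite G] {p : ℕ} [Fact p.Prime] (S : Sylow p G)
    (hp : p ≠ 2) :
    ∃ W K : Subgroup G, (∀ x : G, x ∈ W ↔ (x ∈ (S : Subgroup G) ∧
        ∀ g : G, g * x * g⁻¹ ∈ (S : Subgroup G) → g * x * g⁻¹ = x)) ∧
      K ≤ ((S : Subgroup G) ⊓ Subgroup.centralizer ((S : Subgroup G) : Set G)) ∧ W ⊓ K = ⊥ ∧
      W ⊔ K = ((S : Subgroup G) ⊓ Subgroup.centralizer ((S : Subgroup G) : Set G)) := by
  have hpp : p.Prime := Fact.out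
  set J : Subgroup G := JA (S : Subgroup G) with hJ
  set N : Subgroup G := Subgroup.normalizer (J : Set G) with hNdef
  set B : Subgroup G := J ⊓ Subgroup.centralizer (J : Set G) with hBdef
  have hJS : J ≤ (S : Subgroup G) := JA_le _
  have hSN : (S : Subgroup G) ≤ N :=
    Subgroup.le_normalizer.trans (normalizer_le_normalizer_JA (S : Subgroup G))
  have hBS : B ≤ (S : Subgroup G) := inf_le_left.trans hJS
  have hBN : N ≤ Subgroup.normalizer (B : Set G) := le_normalizer_center_of_le_normalizer le_rfl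
  have hBab : ∀ a ∈ B, ∀ b ∈ B, a * b = b * a := by
    intro a ha b hb
    exact (Subgroup.mem_centralizer_iff.mp (Subgroup.mem_inf.mp ha).2 b (Subgroup.mem_inf.mp hb).1).symm
  have hcop : ((S : Subgroup G).relIndex N).Coprime (Nat.card B) := by
    have h1 : ¬ p ∣ (S : Subgroup G).relIndex N := by
      intro hdvd
      apply S.not_dvd_index
      rw [← Subgroup.relIndex_mul_index hSN]
      exact Dvd.dvd.mul_right hdvd _
    obtain ⟨k, hk⟩ := IsPGroup.iff_card.mp (S.2.to_le hBS)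
    rw [hk]
    exact Nat.Coprime.pow_right k ((Nat.Prime.coprime_iff_not_dvd hpp).mpr h1).symm
  obtain ⟨K, hK1, hK2, hK3, -⟩ := norm_split_sub N (S : Subgroup G) B hSN hBN hBab hcop
  have hZ : B ⊓ Subgroup.centralizer ((S : Subgroup G) : Set G) =
      (S : Subgroup G) ⊓ Subgroup.centralizer ((S : Subgroup G) : Set G) := by
    apply le_antisymm (inf_le_inf_right _ hBS)
    intro x hx
    obtain ⟨hxS, hxC⟩ := Subgroup.mem_inf.mp hx
    have hxC' := Subgroup.mem_centralizer_iff.mp hxC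
    have h1 : x ∈ J := mem_JA_of_commute hxS (fun a ha => (hxC' a ha).symm)
    have h2 : x ∈ Subgroup.centralizer (J : Set G) :=
      Subgroup.centralizer_le (SetLike.coe_subset_coe.mpr hJS) hxC
    exact Subgroup.mem_inf.mpr ⟨Subgroup.mem_inf.mpr ⟨h1, h2⟩, hxC⟩
  rw [hZ] at hK1 hK3
  refine ⟨B ⊓ Subgroup.centralizer (N : Set G), K, ?_, hK1, hK2, hK3⟩
  intro x
  constructor
  · intro hx
    obtain ⟨hxB, hxN⟩ := Subgroup.mem_inf.mp hx
    have hxN' := Subgroup.mem_centralizer_iff.mp hxN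
    refine ⟨hBS hxB, ?_⟩
    have hN : Subgroup.normalizer (JA (S : Subgroup G) : Set G) ≤
        Subgroup.centralizer ({x} : Set G) := by
      intro m hm
      rw [wc_mem_cent]
      exact (hxN' m hm).symm
    exact wc_main p _ G rfl S x (hBS hxB) hN (Or.inl hp)
  · rintro ⟨hxS, hwc⟩
    have hxC : x ∈ Subgroup.centralizer ((S : Subgroup G) : Set G) := by
      rw [Subgroup.mem_centralizer_iff]
      intro s hs
      have h1 : s * x * s⁻¹ ∈ (S : Subgroup G) :=
        Subgroup.mul_mem _ (Subgroup.mul_mem _ hs hxS) (Subgroup.inv_mem _ hs)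
      have h2 := hwc s h1
      calc s * x = (s * x * s⁻¹) * s := by group
        _ = x * s := by rw [h2]
    have hxB : x ∈ B := by
      have h1 : x ∈ B ⊓ Subgroup.centralizer ((S : Subgroup G) : Set G) := by
        rw [hZ]
        exact Subgroup.mem_inf.mpr ⟨hxS, hxC⟩
      exact (Subgroup.mem_inf.mp h1).1
    refine Subgroup.mem_inf.mpr ⟨hxB, ?_⟩
    rw [Subgroup.mem_centralizer_iff]
    intro n hn
    have h1 : n * x * n⁻¹ ∈ B := conj_mem_center_of_mem_normalizer hn hxB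
    have h2 := hwc n (hBS h1)
    calc n * x = (n * x * n⁻¹) * n := by group
      _ = x * n := by rw [h2]

/-- the quotient form: if `π : G → Q` is onto and injective on `S`, and `Q` has a normal
`p`-subgroup `P` containing its centralizer, then the weakly closed elements of `S` are the
elements of `S` that are central in `Q`, and they are a direct factor of `Z(S)`. -/
theorem wc_split_of_quot {G : Type*} [Group G] [Finite G] {p : ℕ} [Fact p.Prime] (S : Sylow p G)
    {Q : Type*} [Group Q] [Finite Q] (π : G →* Q) (hπs : Function.Surjective π)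
    (hSD : ∀ y ∈ (S : Subgroup G), π y = 1 → y = 1)
    (P : Subgroup Q) (hPn : P.Normal) (hPp : IsPGroup p P)
    (hPSb : P ≤ (S : Subgroup G).map π)
    (hcent : Subgroup.centralizer (P : Set Q) ≤ P) :
    ∃ W K : Subgroup G, (∀ x : G, x ∈ W ↔ (x ∈ (S : Subgroup G) ∧
        ∀ g : G, g * x * g⁻¹ ∈ (S : Subgroup G) → g * x * g⁻¹ = x)) ∧
      K ≤ ((S : Subgroup G) ⊓ Subgroup.centralizer ((S : Subgroup G) : Set G)) ∧ W ⊓ K = ⊥ ∧
      W ⊔ K = ((S : Subgroup G) ⊓ Subgroup.centralizer ((S : Subgroup G) : Set G)) := by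
  have hpp : p.Prime := Fact.out
  have hL : ∀ x ∈ (S : Subgroup G), ∀ g : G, g * x * g⁻¹ ∈ (S : Subgroup G) →
      π g * π x = π x * π g → g * x * g⁻¹ = x := by
    intro x hx g hg hcomm
    have h1 : π (g * x * g⁻¹ * x⁻¹) = 1 := by
      rw [map_mul, map_mul, map_mul, map_inv, map_inv, hcomm]
      group
    have h2 := hSD _ (Subgroup.mul_mem _ hg (Subgroup.inv_mem _ hx)) h1
    exact mul_inv_eq_one.mp h2
  obtain ⟨Sb, hSb⟩ : ∃ Sb : Subgroup Q, Sb = (S : Subgroup G).map π := ⟨_, rfl⟩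
  rw [← hSb] at hPSb
  have hmemSb : ∀ s ∈ (S : Subgroup G), π s ∈ Sb := by
    intro s hs
    rw [hSb]
    exact Subgroup.mem_map_of_mem π hs
  obtain ⟨Bb, hBb⟩ : ∃ Bb : Subgroup Q, Bb = P ⊓ Subgroup.centralizer (P : Set Q) := ⟨_, rfl⟩
  have hBbP : Bb ≤ P := by
    rw [hBb]
    exact inf_le_left
  have hBbn : (⊤ : Subgroup Q) ≤ Subgroup.normalizer (Bb : Set Q) := by
    rw [hBb]
    exact le_normalizer_center_of_le_normalizer (Subgroup.normalizer_eq_top_iff.mpr hPn).ge
  have hBbab : ∀ a ∈ Bb, ∀ b ∈ Bb, a * b = b * a := by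
    intro a ha b hb
    rw [hBb] at ha hb
    exact (Subgroup.mem_centralizer_iff.mp (Subgroup.mem_inf.mp ha).2 b
      (Subgroup.mem_inf.mp hb).1).symm
  have hcop : (Sb.relIndex ⊤).Coprime (Nat.card Bb) := by
    rw [Subgroup.relIndex_top_right]
    have h1 : ¬ p ∣ Sb.index := by
      have h0 := (S.mapSurjective hπs).not_dvd_index
      rw [Sylow.coe_mapSurjective] at h0
      rw [hSb]
      exact h0
    obtain ⟨k, hk⟩ := IsPGroup.iff_card.mp (hPp.to_le hBbP)
    rw [hk]
    exact Nat.Coprime.pow_right k ((Nat.Prime.coprime_iff_not_dvd hpp).mpr h1).symm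
  obtain ⟨Kb, hK1, hK2, hK3, hK4⟩ := norm_split_sub ⊤ Sb Bb le_top hBbn hBbab hcop
  have hZ : Bb ⊓ Subgroup.centralizer (Sb : Set Q) = Sb ⊓ Subgroup.centralizer (Sb : Set Q) := by
    apply le_antisymm (inf_le_inf_right _ (hBbP.trans hPSb))
    intro z hz
    obtain ⟨_, hzC⟩ := Subgroup.mem_inf.mp hz
    have h1 : z ∈ Subgroup.centralizer (P : Set Q) :=
      Subgroup.centralizer_le (SetLike.coe_subset_coe.mpr hPSb) hzC
    have h2 : z ∈ Bb := by
      rw [hBb]
      exact Subgroup.mem_inf.mpr ⟨hcent h1, h1⟩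
    exact Subgroup.mem_inf.mpr ⟨h2, hzC⟩
  rw [hZ] at hK1 hK3 hK4
  have hcS : ∀ x ∈ (S : Subgroup G), (∀ s ∈ (S : Subgroup G), s * x = x * s) →
      π x ∈ Sb ⊓ Subgroup.centralizer (Sb : Set Q) := by
    intro x hx hc
    refine Subgroup.mem_inf.mpr ⟨hmemSb x hx, ?_⟩
    rw [Subgroup.mem_centralizer_iff]
    intro sb hsb
    rw [hSb] at hsb
    obtain ⟨s, hs, rfl⟩ := hsb
    rw [← map_mul, ← map_mul, hc s hs]
  have hcS' : ∀ x ∈ (S : Subgroup G), π x ∈ Subgroup.centralizer (Sb : Set Q) →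
      x ∈ Subgroup.centralizer ((S : Subgroup G) : Set G) := by
    intro x hx hc
    rw [Subgroup.mem_centralizer_iff] at hc ⊢
    intro s hs
    have h1 : s * x * s⁻¹ ∈ (S : Subgroup G) :=
      Subgroup.mul_mem _ (Subgroup.mul_mem _ hs hx) (Subgroup.inv_mem _ hs)
    have h2 := hL x hx s h1 (hc _ (hmemSb s hs))
    calc s * x = (s * x * s⁻¹) * s := by group
      _ = x * s := by rw [h2]
  refine ⟨(S : Subgroup G) ⊓
      (Bb ⊓ Subgroup.centralizer ((⊤ : Subgroup Q) : Set Q)).comap π,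
    (S : Subgroup G) ⊓ Kb.comap π, ?_, ?_, ?_, ?_⟩
  · intro x
    constructor
    · intro hx
      obtain ⟨hxS, hx2⟩ := Subgroup.mem_inf.mp hx
      have hx3 : π x ∈ Subgroup.centralizer ((⊤ : Subgroup Q) : Set Q) :=
        (Subgroup.mem_inf.mp (Subgroup.mem_comap.mp hx2)).2
      rw [Subgroup.mem_centralizer_iff] at hx3
      exact ⟨hxS, fun g hg => hL x hxS g hg (hx3 (π g) (Subgroup.mem_top _))⟩
    · rintro ⟨hxS, hwc⟩
      have hxc : ∀ s ∈ (S : Subgroup G), s * x = x * s := by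
        intro s hs
        have h1 : s * x * s⁻¹ ∈ (S : Subgroup G) :=
          Subgroup.mul_mem _ (Subgroup.mul_mem _ hs hxS) (Subgroup.inv_mem _ hs)
        have h2 := hwc s h1
        calc s * x = (s * x * s⁻¹) * s := by group
          _ = x * s := by rw [h2]
      have h1 := hcS x hxS hxc
      rw [← hZ] at h1
      have hxB : π x ∈ Bb := (Subgroup.mem_inf.mp h1).1
      have hxCS : π x ∈ Subgroup.centralizer (Sb : Set Q) := (Subgroup.mem_inf.mp h1).2
      refine Subgroup.mem_inf.mpr ⟨hxS, Subgroup.mem_comap.mpr (Subgroup.mem_inf.mpr ⟨hxB, ?_⟩)⟩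
      rw [Subgroup.mem_centralizer_iff]
      intro gb _
      obtain ⟨g, rfl⟩ := hπs gb
      have h2 : π g * π x * (π g)⁻¹ ∈ Bb :=
        (Subgroup.mem_normalizer_iff.mp (hBbn (Subgroup.mem_top (π g))) (π x)).mp hxB
      have h3 : g * x * g⁻¹ ∈ Sb.comap π := by
        rw [Subgroup.mem_comap, map_mul, map_mul, map_inv]
        exact hPSb (hBbP h2)
      have hSH : (S : Subgroup G) ≤ Sb.comap π := fun s hs => Subgroup.mem_comap.mpr (hmemSb s hs)
      have hidx : ¬ p ∣ (S : Subgroup G).relIndex (Sb.comap π) := by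
        intro hdvd
        apply S.not_dvd_index
        rw [← Subgroup.relIndex_mul_index hSH]
        exact Dvd.dvd.mul_right hdvd _
      have hQ : IsPGroup p (Subgroup.zpowers (g * x * g⁻¹)) := by
        have h0 := (S.2.to_le (Subgroup.zpowers_le.mpr hxS)).map (MulAut.conj g).toMonoidHom
        rw [MonoidHom.map_zpowers] at h0
        exact h0
      obtain ⟨y, hyH, hy⟩ := Cfsg.Agent.Helper33.exists_cj_le_of_relIndex hSH S.2 hidx
        (Subgroup.zpowers_le.mpr h3) hQ
      have h4 : y * (g * x * g⁻¹) * y⁻¹ ∈ (S : Subgroup G) :=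
        hy (Cfsg.Agent.Helper33.cj_mem_cj (Subgroup.mem_zpowers _))
      have h5 : (y * g) * x * (y * g)⁻¹ = x := by
        apply hwc
        have h0 : (y * g) * x * (y * g)⁻¹ = y * (g * x * g⁻¹) * y⁻¹ := by group
        rw [h0]
        exact h4
      have h6 : π y * π x = π x * π y :=
        Subgroup.mem_centralizer_iff.mp hxCS (π y) (Subgroup.mem_comap.mp hyH)
      have h7 : π y * π g * π x = π x * (π y * π g) := by
        have h0 := congrArg π h5
        rw [map_mul, map_mul, map_inv, map_mul] at h0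
        calc π y * π g * π x = (π y * π g * π x * (π y * π g)⁻¹) * (π y * π g) := by group
          _ = π x * (π y * π g) := by rw [h0]
      calc π g * π x = (π y)⁻¹ * (π y * π g * π x) := by group
        _ = (π y)⁻¹ * (π x * (π y * π g)) := by rw [h7]
        _ = (π y)⁻¹ * (π x * π y) * π g := by group
        _ = (π y)⁻¹ * (π y * π x) * π g := by rw [h6]
        _ = π x * π g := by group
  · intro x hx
    obtain ⟨hxS, hx2⟩ := Subgroup.mem_inf.mp hx
    have h1 := hK1 (Subgroup.mem_comap.mp hx2)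
    exact Subgroup.mem_inf.mpr ⟨hxS, hcS' x hxS (Subgroup.mem_inf.mp h1).2⟩
  · rw [eq_bot_iff]
    intro x hx
    obtain ⟨hxW, hxK⟩ := Subgroup.mem_inf.mp hx
    obtain ⟨hxS, hx2⟩ := Subgroup.mem_inf.mp hxW
    have hx3 : π x ∈ Kb := Subgroup.mem_comap.mp (Subgroup.mem_inf.mp hxK).2
    have h1 : π x ∈ (Bb ⊓ Subgroup.centralizer ((⊤ : Subgroup Q) : Set Q)) ⊓ Kb :=
      Subgroup.mem_inf.mpr ⟨Subgroup.mem_comap.mp hx2, hx3⟩
    rw [hK2, Subgroup.mem_bot] at h1
    rw [Subgroup.mem_bot]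
    exact hSD x hxS h1
  · apply le_antisymm
    · apply sup_le
      · intro x hx
        obtain ⟨hxS, hx2⟩ := Subgroup.mem_inf.mp hx
        have hx3 : π x ∈ Subgroup.centralizer ((⊤ : Subgroup Q) : Set Q) :=
          (Subgroup.mem_inf.mp (Subgroup.mem_comap.mp hx2)).2
        refine Subgroup.mem_inf.mpr ⟨hxS, hcS' x hxS ?_⟩
        exact Subgroup.centralizer_le (SetLike.coe_subset_coe.mpr le_top) hx3
      · intro x hx
        obtain ⟨hxS, hx2⟩ := Subgroup.mem_inf.mp hx
        have h1 := hK1 (Subgroup.mem_comap.mp hx2)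
        exact Subgroup.mem_inf.mpr ⟨hxS, hcS' x hxS (Subgroup.mem_inf.mp h1).2⟩
    · intro x hx
      obtain ⟨hxS, hxC⟩ := Subgroup.mem_inf.mp hx
      have hxC' := Subgroup.mem_centralizer_iff.mp hxC
      have h1 := hcS x hxS (fun s hs => hxC' s hs)
      obtain ⟨wb, hwb, kb, hkb, hwk⟩ := hK4 _ h1
      have hwbS : wb ∈ Sb := by
        have h0 : wb ∈ Bb := (Subgroup.mem_inf.mp hwb).1
        exact hPSb (hBbP h0)
      have hkbS : kb ∈ Sb := (Subgroup.mem_inf.mp (hK1 hkb)).1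
      rw [hSb] at hwbS hkbS
      obtain ⟨w, hwS, rfl⟩ := hwbS
      obtain ⟨k, hkS, rfl⟩ := hkbS
      have h2 : π ((w * k)⁻¹ * x) = 1 := by
        rw [map_mul, map_inv, map_mul, hwk]
        group
      have h3 := hSD _ (Subgroup.mul_mem _ (Subgroup.inv_mem _ (Subgroup.mul_mem _ hwS hkS)) hxS) h2
      have h4 : x = w * k := (inv_mul_eq_one.mp h3).symm
      rw [h4]
      exact Subgroup.mul_mem_sup (Subgroup.mem_inf.mpr ⟨hwS, Subgroup.mem_comap.mpr hwb⟩)
        (Subgroup.mem_inf.mpr ⟨hkS, Subgroup.mem_comap.mpr hkb⟩)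

/-- a normal subgroup of `G / O_{p'}(G)` of order prime to `p` is trivial (proof adapted from
helper34's `pPrimeCore_quotient_eq_bot`). -/
theorem pPrimeCore_quot_core {G : Type*} [Group G] [Finite G] (p : ℕ) [hp : Fact p.Prime]
    (E : Subgroup (G ⧸ pPrimeCore p G)) (hE : E.Normal) (hc : (Nat.card E).Coprime p) :
    E = ⊥ := by
  have hM : E.comap (QuotientGroup.mk' (pPrimeCore p G)) ≤ pPrimeCore p G := by
    apply Cfsg.Agent.Helper24.le_pPrimeCore (hE.comap _)
    rw [Nat.coprime_comm, Nat.Prime.coprime_iff_not_dvd hp.out]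
    intro hdvd
    obtain ⟨x, hx⟩ := exists_prime_orderOf_dvd_card' p hdvd
    have h1 : QuotientGroup.mk' (pPrimeCore p G) (x : G) ∈ E := x.2
    have hxo : orderOf (x : G) = p := by rw [Subgroup.orderOf_coe]; exact hx
    have hpow : (x : G) ^ p = 1 := by
      have h0 := pow_orderOf_eq_one (x : G)
      rwa [hxo] at h0
    have h2 : (⟨_, h1⟩ : ↥E) ^ p = 1 := by
      apply Subtype.ext
      rw [Subgroup.coe_pow, Subgroup.coe_one, ← map_pow, hpow, map_one]
    have h3 : orderOf (⟨_, h1⟩ : ↥E) = 1 :=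
      Nat.eq_one_of_dvd_coprimes hc (orderOf_dvd_natCard _) (orderOf_dvd_of_pow_eq_one h2)
    have h4 : (x : G) ∈ pPrimeCore p G := by
      rw [orderOf_eq_one_iff] at h3
      have h5 : QuotientGroup.mk' (pPrimeCore p G) (x : G) = 1 := congrArg Subtype.val h3
      exact (QuotientGroup.eq_one_iff _).mp h5
    have h6 : p ∣ Nat.card ↥(pPrimeCore p G) := by
      have h7 := orderOf_dvd_natCard (⟨(x : G), h4⟩ : ↥(pPrimeCore p G))
      rwa [← Subgroup.orderOf_coe, hxo] at h7
    exact (Nat.Prime.coprime_iff_not_dvd hp.out).mp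
      (Cfsg.Agent.Helper24.coprime_card_pPrimeCore p).symm h6
  rw [eq_bot_iff]
  intro n hn
  obtain ⟨x, rfl⟩ := QuotientGroup.mk'_surjective _ n
  rw [Subgroup.mem_bot]
  exact (QuotientGroup.eq_one_iff x).mpr (hM hn)

/-- **S1945, `G` solvable**. -/
theorem wc_split_solvable {G : Type*} [Group G] [Finite G] [Group.IsSolvable G] {p : ℕ}
    [Fact p.Prime] (S : Sylow p G) :
    ∃ W K : Subgroup G, (∀ x : G, x ∈ W ↔ (x ∈ (S : Subgroup G) ∧
        ∀ g : G, g * x * g⁻¹ ∈ (S : Subgroup G) → g * x * g⁻¹ = x)) ∧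
      K ≤ ((S : Subgroup G) ⊓ Subgroup.centralizer ((S : Subgroup G) : Set G)) ∧ W ⊓ K = ⊥ ∧
      W ⊔ K = ((S : Subgroup G) ⊓ Subgroup.centralizer ((S : Subgroup G) : Set G)) := by
  have hπs : Function.Surjective (QuotientGroup.mk' (pPrimeCore p G)) :=
    QuotientGroup.mk'_surjective _
  have hsol : Group.IsSolvable (G ⧸ pPrimeCore p G) := Group.isSolvable_of_surjective hπs
  have hcent : Subgroup.centralizer (pCore p (G ⧸ pPrimeCore p G) : Set (G ⧸ pPrimeCore p G)) ≤
      pCore p (G ⧸ pPrimeCore p G) :=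
    Cfsg.Agent.Helper24.centralizer_pCore_le (G := G ⧸ pPrimeCore p G) p
      (fun E hE hEc => pPrimeCore_quot_core p E hE hEc)
  have hSD : ∀ y ∈ (S : Subgroup G), QuotientGroup.mk' (pPrimeCore p G) y = 1 → y = 1 := by
    intro y hyS hy1
    have hyD : y ∈ pPrimeCore p G := (QuotientGroup.eq_one_iff y).mp hy1
    have h1 : (S : Subgroup G) ⊓ pPrimeCore p G = ⊥ := by
      apply Disjoint.eq_bot
      apply Subgroup.disjoint_of_coprime_natCard
      obtain ⟨k, hk⟩ := IsPGroup.iff_card.mp S.2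
      rw [hk]
      exact Nat.Coprime.pow_left k (Cfsg.Agent.Helper24.coprime_card_pPrimeCore p).symm
    have h2 : y ∈ (S : Subgroup G) ⊓ pPrimeCore p G := Subgroup.mem_inf.mpr ⟨hyS, hyD⟩
    rw [h1] at h2
    exact Subgroup.mem_bot.mp h2
  have hPSb : pCore p (G ⧸ pPrimeCore p G) ≤
      (S : Subgroup G).map (QuotientGroup.mk' (pPrimeCore p G)) := by
    have h0 := pCore_le_sylow (S.mapSurjective hπs)
    rw [Sylow.coe_mapSurjective] at h0
    exact h0
  exact wc_split_of_quot S (QuotientGroup.mk' (pPrimeCore p G)) hπs hSD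
    (pCore p (G ⧸ pPrimeCore p G)) inferInstance (Cfsg.Agent.Helper24.isPGroup_pCore p _) hPSb hcent

end Cfsg.Agent.Helper46
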