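/-
helper46: the `p`-solvable step of S4411.  In a `p`-solvable group `M` with a normal `p`-subgroup
`H` moved by a `q`-element, either a strictly larger `p`-subgroup normalized by a Sylow
`p`-subgroup `S` is moved by a `q`-element of its normalizer, or a characteristic subgroup of `S`
is.
-/
import Cfsg.Agent.Helper46.CharAq
import Cfsg.Agent.Helper46.AqLift
import Cfsg.Agent.Helper46.WcSplit
import Cfsg.Agent.Helper32.HallHigman

set_option autoImplicit false

namespace Cfsg.Agent.Helper46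

open Cfsg

universe u

/-- a `p`-solvable group with `O_p = O_{p'} = 1` is trivial -/
theorem eq_bot_of_cores_bot {Γ : Type*} [Group Γ] [Finite Γ] (p : ℕ) [hp : Fact p.Prime]
    (hsol : IsPSolvable p Γ) (h1 : pCore p Γ = ⊥) (h2 : pPrimeCore p Γ = ⊥) :
    (⊤ : Subgroup Γ) = ⊥ := by
  by_contra hne
  obtain ⟨D, hDn, -, hDne, hD⟩ :=
    Helper32.exists_normal_le_of_isPSolvable hp.out hsol (⊤ : Subgroup Γ) hne
  rcases hD with hD | hD
  · exact hDne (eq_bot_iff.mpr (h1 ▸ le_pCore hDn hD))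
  · exact hDne (eq_bot_iff.mpr (h2 ▸ Cfsg.Agent.Helper24.le_pPrimeCore hDn hD))

theorem pPrimeCore_quot_eq_bot {G : Type*} [Group G] [Finite G] (p : ℕ) [hp : Fact p.Prime] :
    pPrimeCore p (G ⧸ pPrimeCore p G) = ⊥ :=
  pPrimeCore_quot_core p _ (pPrimeCore_normal p _) (Cfsg.Agent.Helper24.coprime_card_pPrimeCore p)

set_option maxHeartbeats 1600000 in
theorem psol_aq_aux {M Γ : Type u} [Group M] [Finite M] [Group Γ] [Finite Γ] (p q : ℕ)
    [hp : Fact p.Prime] [hq : Fact q.Prime] (hpq : p ≠ q) (h23 : ¬ (p = 2 ∧ q = 3))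
    (S : Sylow p M) (π : M →* Γ) (hπ : Function.Surjective π)
    (hker : (Nat.card π.ker).Coprime p) (hsol : IsPSolvable p Γ) (hbot : pPrimeCore p Γ = ⊥)
    (hqΓ : q ∣ Nat.card Γ) (H : Subgroup M) (hHS : H ≤ (S : Subgroup M))
    (hHmap : H.map π = pCore p Γ) :
    (∃ T : Subgroup M, H < T ∧ T ≤ (S : Subgroup M) ∧
        (S : Subgroup M) ≤ Subgroup.normalizer (T : Set M) ∧ Aq q T) ∨
      (∃ K : Subgroup (S : Subgroup M), K.Characteristic ∧
        Aq q (K.map (S : Subgroup M).subtype)) := by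
  have hC : Subgroup.centralizer (pCore p Γ : Set Γ) ≤ pCore p Γ :=
    Helper32.centralizer_pCore_le_of_isPSolvable hsol hbot
  have hρ : Function.Surjective (QuotientGroup.mk' (pCore p Γ)) := QuotientGroup.mk'_surjective _
  have hsol₁ : IsPSolvable p (Γ ⧸ pCore p Γ) := Helper32.isPSolvable_quotient hp.out hsol _
  have hcardΓ : Nat.card Γ = Nat.card (Γ ⧸ pCore p Γ) * Nat.card (pCore p Γ) :=
    Subgroup.card_eq_card_quotient_mul_card_subgroup _
  obtain ⟨i, hi⟩ := IsPGroup.iff_card.mp (pCore_isPGroup p Γ)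
  have hqΓ₁ : q ∣ Nat.card (Γ ⧸ pCore p Γ) := by
    rw [hcardΓ] at hqΓ
    rcases (Nat.Prime.dvd_mul hq.out).mp hqΓ with h | h
    · exact h
    · exfalso
      rw [hi] at h
      exact hpq ((Nat.prime_dvd_prime_iff_eq hq.out hp.out).mp (hq.out.dvd_of_dvd_pow h)).symm
  have hN₁c : (Nat.card (pPrimeCore p (Γ ⧸ pCore p Γ))).Coprime p :=
    Cfsg.Agent.Helper24.coprime_card_pPrimeCore p
  have hHπ : ∀ h ∈ H, π h ∈ pCore p Γ := by
    intro h hh
    rw [← hHmap]; exact ⟨h, hh, rfl⟩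
  by_cases hqN : q ∣ Nat.card (pPrimeCore p (Γ ⧸ pCore p Γ))
  · -- the `{p,q}`-subgroup
    right
    obtain ⟨R, hRdef⟩ : ∃ R : Subgroup (Γ ⧸ pCore p Γ),
        R = ((S : Subgroup M).map π).map (QuotientGroup.mk' (pCore p Γ)) := ⟨_, rfl⟩
    have hRp : IsPGroup p R := by
      rw [hRdef]; exact (S.isPGroup'.map π).map _
    obtain ⟨Y, hYN, hYq, hYne, hRY⟩ :=
      exists_invariant_sylow_of_pgroup p q (pPrimeCore p (Γ ⧸ pCore p Γ)) hN₁c R hRp hqN
    obtain ⟨X₁, hX₁⟩ : ∃ X₁ : Subgroup Γ,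
        X₁ = (mulSub Y R hRY).comap (QuotientGroup.mk' (pCore p Γ)) := ⟨_, rfl⟩
    have hSX : ∀ s : (S : Subgroup M), (π.comp (S : Subgroup M).subtype) s ∈ X₁ := by
      intro s
      rw [hX₁, Subgroup.mem_comap]
      apply le_mulSub_right hRY
      rw [hRdef]
      exact ⟨π s, ⟨s, s.2, rfl⟩, rfl⟩
    obtain ⟨ι, hιdef⟩ : ∃ ι : (S : Subgroup M) →* X₁,
        ι = (π.comp (S : Subgroup M).subtype).codRestrict X₁ hSX := ⟨_, rfl⟩
    have hιc : ∀ s : (S : Subgroup M), ((ι s : X₁) : Γ) = π (s : M) := by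
      intro s; rw [hιdef]; rfl
    have hι : Function.Injective ι := by
      rw [injective_iff_map_eq_one]
      intro s hs
      have h1 : π (s : M) = 1 := by rw [← hιc, hs]; rfl
      have h2 : (s : M) ∈ π.ker := MonoidHom.mem_ker.mpr h1
      obtain ⟨k, hk⟩ := pow_eq_one_of_isPGroup S.isPGroup' s.2
      have h3 : (s : M) ^ Nat.card π.ker = 1 := by
        have h4 := pow_card_eq_one' (G := π.ker) (x := ⟨(s : M), h2⟩)
        have h5 : ((⟨(s : M), h2⟩ : π.ker) : M) ^ Nat.card π.ker = 1 := by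
          rw [← Subgroup.coe_pow, h4, Subgroup.coe_one]
        exact h5
      have h6 : (s : M) ∈ (⊥ : Subgroup M) :=
        mem_of_pow_mem_of_coprime (H := ⊥) (n := p ^ k) (m := Nat.card π.ker)
          (by rw [hk]; exact Subgroup.one_mem _) h3 (Nat.Coprime.pow_left k hker.symm)
      exact Subtype.ext (Subgroup.mem_bot.mp h6)
    have hPp : IsPGroup p ι.range :=
      IsPGroup.of_surjective S.isPGroup' ι.rangeRestrict ι.rangeRestrict_surjective
    have hrange : ι.range = ((S : Subgroup M).map π).subgroupOf X₁ := by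
      ext x
      rw [Subgroup.mem_subgroupOf]
      constructor
      · rintro ⟨s, rfl⟩
        exact ⟨s, s.2, (hιc s).symm⟩
      · rintro ⟨s, hs, hsx⟩
        exact ⟨⟨s, hs⟩, Subtype.ext (by rw [hιc]; exact hsx)⟩
    have hSleX : (S : Subgroup M).map π ≤ X₁ := by
      rintro _ ⟨s, hs, rfl⟩
      exact hSX ⟨s, hs⟩
    have hidx : ¬ p ∣ ι.range.index := by
      rw [hrange]
      intro h
      have h1 : ((S : Subgroup M).map π).relIndex X₁ ∣ ((S : Subgroup M).map π).index :=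
        Subgroup.relIndex_dvd_index_of_le hSleX
      have h2 := (S.mapSurjective hπ).not_dvd_index
      rw [Sylow.coe_mapSurjective] at h2
      exact h2 (dvd_trans h h1)
    have hkerρ : ∀ x : Γ, QuotientGroup.mk' (pCore p Γ) x = 1 ↔ x ∈ pCore p Γ := fun x =>
      QuotientGroup.eq_one_iff x
    have hpqX : ∀ x : X₁, ∃ a b : ℕ, x ^ (p ^ a * q ^ b) = 1 := by
      intro x
      have hx : QuotientGroup.mk' (pCore p Γ) (x : Γ) ∈ mulSub Y R hRY := by
        have h0 : (x : Γ) ∈ (mulSub Y R hRY).comap (QuotientGroup.mk' (pCore p Γ)) :=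
          (le_of_eq hX₁) x.2
        exact Subgroup.mem_comap.mp h0
      obtain ⟨a, b, hab⟩ := mulSub_pq hRY hYq hRp hx
      have h1 : (x : Γ) ^ (p ^ a * q ^ b) ∈ pCore p Γ := by
        rw [← hkerρ, map_pow]; exact hab
      obtain ⟨k, hk⟩ := pow_mem_pCore h1
      refine ⟨a + k, b, Subtype.ext ?_⟩
      rw [Subgroup.coe_pow, Subgroup.coe_one]
      have : p ^ (a + k) * q ^ b = p ^ a * q ^ b * p ^ k := by ring
      rw [this, pow_mul]; exact hk
    have hPleX : pCore p Γ ≤ X₁ := by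
      intro x hx
      rw [hX₁, Subgroup.mem_comap, (hkerρ x).mpr hx]
      exact Subgroup.one_mem _
    have hCX : Subgroup.centralizer (pCore p X₁ : Set X₁) ≤ pCore p X₁ := by
      intro c hc
      have hle : (pCore p Γ).subgroupOf X₁ ≤ pCore p X₁ :=
        le_pCore ((pCore_normal p Γ).subgroupOf X₁) ((pCore_isPGroup p Γ).comap_subtype)
      have hcΓ : (c : Γ) ∈ Subgroup.centralizer (pCore p Γ : Set Γ) := by
        rw [Subgroup.mem_centralizer_iff]
        intro u hu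
        have h1 : (⟨u, hPleX hu⟩ : X₁) ∈ pCore p X₁ := hle (Subgroup.mem_subgroupOf.mpr hu)
        have h2 := Subgroup.mem_centralizer_iff.mp hc _ h1
        have h3 := congrArg (fun z : X₁ => (z : Γ)) h2
        simpa using h3
      exact hle (Subgroup.mem_subgroupOf.mpr (hC hcΓ))
    have hqX : q ∣ Nat.card X₁ := by
      obtain ⟨y₁, hy₁, hy₁ne⟩ : ∃ y₁ ∈ Y, y₁ ≠ 1 := by
        by_contra hcon
        push Not at hcon
        exact hYne (eq_bot_iff.mpr fun y hy => Subgroup.mem_bot.mpr (hcon y hy))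
      obtain ⟨x₁, hx₁⟩ := hρ y₁
      have hx₁X : x₁ ∈ X₁ := by
        rw [hX₁, Subgroup.mem_comap, hx₁]; exact le_mulSub_left hRY hy₁
      obtain ⟨j, hj⟩ := pow_eq_one_of_isPGroup hYq hy₁
      have h1 : orderOf y₁ ∣ q ^ j := orderOf_dvd_of_pow_eq_one hj
      obtain ⟨j', -, hj'⟩ := (Nat.dvd_prime_pow hq.out).mp h1
      have hj'0 : j' ≠ 0 := by
        intro h0
        rw [h0, pow_zero, orderOf_eq_one_iff] at hj'
        exact hy₁ne hj'
      have h2 : q ∣ orderOf y₁ := by rw [hj']; exact dvd_pow_self q hj'0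
      have h3 : orderOf y₁ ∣ orderOf x₁ := by rw [← hx₁]; exact orderOf_map_dvd _ x₁
      have h4 : orderOf x₁ ∣ Nat.card X₁ := by
        have := orderOf_dvd_natCard (⟨x₁, hx₁X⟩ : X₁)
        rwa [← Subgroup.orderOf_coe] at this
      exact dvd_trans h2 (dvd_trans h3 h4)
    obtain ⟨K, hKc, hKA⟩ :=
      char_aq p q hpq h23 (Nat.card X₁) X₁ rfl (S : Subgroup M) ι hι hPp hidx hpqX hCX hqX
    refine ⟨K, hKc, ?_⟩
    have h1 := Aq.map_subtype X₁ hKA
    have h2 : (K.map ι).map X₁.subtype = (K.map (S : Subgroup M).subtype).map π := by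
      rw [Subgroup.map_map, Subgroup.map_map]
      congr 1
      ext s
      exact hιc s
    rw [h2] at h1
    exact aq_of_map p q π hπ hker _ ((S.isPGroup'.to_subgroup K).map _) h1
  · -- the next `p`-layer
    left
    have hsol₂ : IsPSolvable p ((Γ ⧸ pCore p Γ) ⧸ pPrimeCore p (Γ ⧸ pCore p Γ)) :=
      Helper32.isPSolvable_quotient hp.out hsol₁ _
    have hbot₂ : pPrimeCore p ((Γ ⧸ pCore p Γ) ⧸ pPrimeCore p (Γ ⧸ pCore p Γ)) = ⊥ :=
      pPrimeCore_quot_eq_bot p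
    have hC₂ := Helper32.centralizer_pCore_le_of_isPSolvable hsol₂ hbot₂
    have hcard₁ : Nat.card (Γ ⧸ pCore p Γ) =
        Nat.card ((Γ ⧸ pCore p Γ) ⧸ pPrimeCore p (Γ ⧸ pCore p Γ)) *
          Nat.card (pPrimeCore p (Γ ⧸ pCore p Γ)) :=
      Subgroup.card_eq_card_quotient_mul_card_subgroup _
    have hq₂ : q ∣ Nat.card ((Γ ⧸ pCore p Γ) ⧸ pPrimeCore p (Γ ⧸ pCore p Γ)) := by
      rw [hcard₁] at hqΓ₁
      rcases (Nat.Prime.dvd_mul hq.out).mp hqΓ₁ with h | h
      · exact h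
      · exact absurd h hqN
    obtain ⟨π₂, hπ₂def⟩ : ∃ π₂ : M →* (Γ ⧸ pCore p Γ) ⧸ pPrimeCore p (Γ ⧸ pCore p Γ),
        π₂ = (QuotientGroup.mk' (pPrimeCore p (Γ ⧸ pCore p Γ))).comp
          ((QuotientGroup.mk' (pCore p Γ)).comp π) := ⟨_, rfl⟩
    have hπ₂ : Function.Surjective π₂ := by
      rw [hπ₂def]
      exact (QuotientGroup.mk'_surjective _).comp (hρ.comp hπ)
    have hπ₂H : ∀ h ∈ H, π₂ h = 1 := by
      intro h hh
      rw [hπ₂def]
      show QuotientGroup.mk' (pPrimeCore p (Γ ⧸ pCore p Γ)) (QuotientGroup.mk' (pCore p Γ) (π h)) = 1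
      have h1 : QuotientGroup.mk' (pCore p Γ) (π h) = 1 :=
        (QuotientGroup.eq_one_iff (π h)).mpr (hHπ h hh)
      rw [h1, map_one]
    obtain ⟨hS2, hmap2, hAq2⟩ := aq_of_quot p q hpq S π₂ hπ₂ hC₂ hq₂
    have hHT : H ≤ (S : Subgroup M) ⊓
        (pCore p ((Γ ⧸ pCore p Γ) ⧸ pPrimeCore p (Γ ⧸ pCore p Γ))).comap π₂ := by
      intro h hh
      refine Subgroup.mem_inf.mpr ⟨hHS hh, ?_⟩
      rw [Subgroup.mem_comap, hπ₂H h hh]; exact Subgroup.one_mem _
    refine ⟨_, lt_of_le_of_ne hHT ?_, inf_le_left, hS2, hAq2⟩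
    intro heq
    have hPbot : pCore p ((Γ ⧸ pCore p Γ) ⧸ pPrimeCore p (Γ ⧸ pCore p Γ)) = ⊥ := by
      rw [← hmap2, ← heq, eq_bot_iff]
      rintro _ ⟨h, hh, rfl⟩
      exact Subgroup.mem_bot.mpr (hπ₂H h hh)
    have htop := eq_bot_of_cores_bot p hsol₂ hPbot hbot₂
    have hcard : Nat.card ((Γ ⧸ pCore p Γ) ⧸ pPrimeCore p (Γ ⧸ pCore p Γ)) = 1 := by
      rw [← Subgroup.card_top, htop, Subgroup.card_bot]
    rw [hcard] at hq₂
    exact hq.out.one_lt.ne' (Nat.dvd_one.mp hq₂)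

end Cfsg.Agent.Helper46
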