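/-
helper46: the `p`-solvable step of S4411, second half: a normal `p`-subgroup `H` of a `p`-solvable
group `M` with `Aq q H`.
-/
import Cfsg.Agent.Helper46.PSolAq

set_option autoImplicit false

namespace Cfsg.Agent.Helper46

open Cfsg

universe u

/-- a `p`-subgroup meets `O_{p'}` trivially -/
theorem eq_one_of_mem_pgroup_of_mem_pPrimeCore {M : Type*} [Group M] [Finite M] (p : ℕ)
    [hp : Fact p.Prime] {H : Subgroup M} (hH : IsPGroup p H) {x : M} (hx : x ∈ H)
    (hx' : x ∈ pPrimeCore p M) : x = 1 := by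
  obtain ⟨k, hk⟩ := pow_eq_one_of_isPGroup hH hx
  have h3 : x ^ Nat.card (pPrimeCore p M) = 1 := by
    have h4 := pow_card_eq_one' (G := pPrimeCore p M) (x := ⟨x, hx'⟩)
    have h5 : ((⟨x, hx'⟩ : pPrimeCore p M) : M) ^ Nat.card (pPrimeCore p M) = 1 := by
      rw [← Subgroup.coe_pow, h4, Subgroup.coe_one]
    exact h5
  have hc : (Nat.card (pPrimeCore p M)).Coprime p := Cfsg.Agent.Helper24.coprime_card_pPrimeCore p
  have h6 : x ∈ (⊥ : Subgroup M) :=
    mem_of_pow_mem_of_coprime (H := ⊥) (n := p ^ k) (m := Nat.card (pPrimeCore p M))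
      (by rw [hk]; exact Subgroup.one_mem _) h3 (Nat.Coprime.pow_left k hc.symm)
  exact Subgroup.mem_bot.mp h6

theorem psol_aq {M : Type u} [Group M] [Finite M] (p q : ℕ)
    [hp : Fact p.Prime] [hq : Fact q.Prime] (hpq : p ≠ q) (h23 : ¬ (p = 2 ∧ q = 3))
    (hsol : IsPSolvable p M) (S : Sylow p M) (H : Subgroup M) [hHn : H.Normal]
    (hH : IsPGroup p H) (hA : Aq q H) :
    (∃ T : Subgroup M, H < T ∧ T ≤ (S : Subgroup M) ∧
        (S : Subgroup M) ≤ Subgroup.normalizer (T : Set M) ∧ Aq q T) ∨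
      (∃ K : Subgroup (S : Subgroup M), K.Characteristic ∧
        Aq q (K.map (S : Subgroup M).subtype)) := by
  have hπ : Function.Surjective (QuotientGroup.mk' (pPrimeCore p M)) :=
    QuotientGroup.mk'_surjective _
  have hker : (Nat.card (QuotientGroup.mk' (pPrimeCore p M)).ker).Coprime p := by
    rw [QuotientGroup.ker_mk']
    exact Cfsg.Agent.Helper24.coprime_card_pPrimeCore p
  have hsolΓ : IsPSolvable p (M ⧸ pPrimeCore p M) := Helper32.isPSolvable_quotient hp.out hsol _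
  have hbot : pPrimeCore p (M ⧸ pPrimeCore p M) = ⊥ := pPrimeCore_quot_eq_bot p
  have hC := Helper32.centralizer_pCore_le_of_isPSolvable hsolΓ hbot
  obtain ⟨y, hyN, hyC, a, hya⟩ := hA
  have hyO : y ∉ pPrimeCore p M := by
    intro hy
    apply hyC
    rw [Subgroup.mem_centralizer_iff]
    intro h hh
    have h1 : y * h * y⁻¹ * h⁻¹ ∈ H :=
      Subgroup.mul_mem _ (hHn.conj_mem h hh y) (Subgroup.inv_mem _ hh)
    have h2 : y * h * y⁻¹ * h⁻¹ ∈ pPrimeCore p M := by
      have h3 : y * h * y⁻¹ * h⁻¹ = y * (h * y⁻¹ * h⁻¹) := by group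
      rw [h3]
      exact Subgroup.mul_mem _ hy ((pPrimeCore_normal p M).conj_mem _ (Subgroup.inv_mem _ hy) h)
    have h4 := eq_one_of_mem_pgroup_of_mem_pPrimeCore p hH h1 h2
    have h5 : y * h = (y * h * y⁻¹ * h⁻¹) * (h * y) := by group
    rw [h5, h4, one_mul]
  have hqΓ : q ∣ Nat.card (M ⧸ pPrimeCore p M) := by
    have hne : QuotientGroup.mk' (pPrimeCore p M) y ≠ 1 := by
      intro h
      exact hyO ((QuotientGroup.eq_one_iff y).mp h)
    have hpow : QuotientGroup.mk' (pPrimeCore p M) y ^ q ^ a = 1 := by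
      rw [← map_pow, hya, map_one]
    have h1 : orderOf (QuotientGroup.mk' (pPrimeCore p M) y) ∣ q ^ a :=
      orderOf_dvd_of_pow_eq_one hpow
    obtain ⟨j', -, hj'⟩ := (Nat.dvd_prime_pow hq.out).mp h1
    have hj'0 : j' ≠ 0 := by
      intro h0
      rw [h0, pow_zero, orderOf_eq_one_iff] at hj'
      exact hne hj'
    have h2 : q ∣ orderOf (QuotientGroup.mk' (pPrimeCore p M) y) := by
      rw [hj']; exact dvd_pow_self q hj'0
    exact dvd_trans h2 (orderOf_dvd_natCard _)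
  have hHS : H ≤ (S : Subgroup M) := Helper33.normal_pgroup_le_sylow' H hH S
  obtain ⟨hS1, hmap1, hAq1⟩ :=
    aq_of_quot p q hpq S (QuotientGroup.mk' (pPrimeCore p M)) hπ hC hqΓ
  have hHT : H ≤ (S : Subgroup M) ⊓
      (pCore p (M ⧸ pPrimeCore p M)).comap (QuotientGroup.mk' (pPrimeCore p M)) := by
    intro h hh
    refine Subgroup.mem_inf.mpr ⟨hHS hh, ?_⟩
    rw [Subgroup.mem_comap]
    exact le_pCore (hHn.map _ hπ) (hH.map _) ⟨h, hh, rfl⟩
  by_cases heq : H = (S : Subgroup M) ⊓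
      (pCore p (M ⧸ pPrimeCore p M)).comap (QuotientGroup.mk' (pPrimeCore p M))
  · have hHmap : H.map (QuotientGroup.mk' (pPrimeCore p M)) = pCore p (M ⧸ pPrimeCore p M) := by
      rw [← hmap1, ← heq]
    exact psol_aq_aux p q hpq h23 S (QuotientGroup.mk' (pPrimeCore p M)) hπ hker hsolΓ hbot hqΓ H
      hHS hHmap
  · left
    exact ⟨_, lt_of_le_of_ne hHT heq, inf_le_left, hS1, hAq1⟩

end Cfsg.Agent.Helper46
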