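import Mathlib
import Cfsg.Agent.Helper46.ClassTwoC
import Cfsg.Agent.Helper46.Involves
import Cfsg.Agent.Helper46.PSolAqB
import Cfsg.Agent.Helper34.PCons1
import Cfsg.Agent.Helper11.ZJ

set_option autoImplicit false

/-!
# `S₄`-free `2`-constrained groups with Sylow `2`-subgroups of class `≤ 2` (helper46)

`class_two_thompson`: `G = N_G(J(S)) O(G)` (Glauberman), `J` the Thompson subgroup generated by the
elementary abelian subgroups of largest order.
-/

namespace Cfsg.Agent.Helper46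

open Cfsg

universe u

/-- Induction on the order: largest elementary abelian subgroups lie in `O₂(G)`. -/
theorem class_two_aux : ∀ (n : ℕ) (G : Type u) [Group G] [Finite G], Nat.card G ≤ n →
    Subgroup.centralizer (pCore 2 G : Set G) ≤ pCore 2 G →
    ¬ Involves (Equiv.Perm (Fin 4)) G →
    ∀ S : Sylow 2 G, Cl2 (S : Subgroup G) →
    ∀ A : Subgroup G, Helper19.MaxEA 2 (S : Subgroup G) A → A ≤ pCore 2 G := by
  intro n
  induction n with
  | zero =>
    intro G _ _ hcard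
    exact absurd hcard (by have := Nat.card_pos (α := G); omega)
  | succ n ih =>
    intro G _ _ hcard hC hS4 S hcl A hA
    have : Fact (Nat.Prime 2) := ⟨Nat.prime_two⟩
    have hQn : (pCore 2 G).Normal := pCore_normal 2 G
    apply class_two_step hC hS4 S hcl A hA
    intro H hH hQH hAH
    have hHcard : Nat.card H ≤ n := by
      have hlt : Nat.card H < Nat.card G := by
        by_contra hge
        push Not at hge
        exact hH (Subgroup.eq_top_of_le_card H hge)
      omega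
    have hQ'le : (pCore 2 G).subgroupOf H ≤ pCore 2 ↥H :=
      le_pCore (hQn.subgroupOf H) ((pCore_isPGroup 2 G).comap_subtype)
    have hC' : Subgroup.centralizer (pCore 2 ↥H : Set ↥H) ≤ pCore 2 ↥H := by
      intro x hx
      apply hQ'le
      rw [Subgroup.mem_subgroupOf]
      apply hC
      rw [Subgroup.mem_centralizer_iff]
      intro q hq
      have := Subgroup.mem_centralizer_iff.mp hx ⟨q, hQH hq⟩
        (hQ'le (Subgroup.mem_subgroupOf.mpr hq))
      exact congrArg Subtype.val this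
    have hS4' : ¬ Involves (Equiv.Perm (Fin 4)) ↥H := fun h => hS4 (involves_of_subgroup H h)
    have hA'2 : IsPGroup 2 ↥(A.subgroupOf H) := (Helper19.EA.isPGroup hA.2.1).comap_subtype
    obtain ⟨T, hT⟩ := hA'2.exists_le_sylow
    have hTG2 : IsPGroup 2 ↥((T : Subgroup ↥H).map H.subtype) := T.isPGroup'.map _
    obtain ⟨S', hS'⟩ := hTG2.exists_le_sylow
    have hcl' := cl2_sylow hcl S'
    have hclT : Cl2 (T : Subgroup ↥H) := by
      intro x hx y hy z hz
      apply Subtype.ext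
      exact hcl' x (hS' ⟨x, hx, rfl⟩) y (hS' ⟨y, hy, rfl⟩) z (hS' ⟨z, hz, rfl⟩)
    have hA' : Helper19.MaxEA 2 (T : Subgroup ↥H) (A.subgroupOf H) := by
      refine ⟨hT, ⟨fun a ha b hb => Subtype.ext (hA.2.1.1 a ha b hb),
        fun a ha => Subtype.ext (by simpa using hA.2.1.2 a ha)⟩, ?_⟩
      intro B' hB'T hB'EA
      obtain ⟨g, hg⟩ := MulAction.exists_smul_eq G S' S
      have hcoe : (S : Subgroup G) = (S' : Subgroup G).map (MulAut.conj g).toMonoidHom := by
        rw [← hg, Sylow.coe_subgroup_smul]; rfl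
      have hBS : (B'.map H.subtype).map (MulAut.conj g).toMonoidHom ≤ (S : Subgroup G) := by
        rw [hcoe]; exact Subgroup.map_mono ((Subgroup.map_mono hB'T).trans hS')
      have hBEA : Helper19.EA 2 ((B'.map H.subtype).map (MulAut.conj g).toMonoidHom) :=
        (hB'EA.map H.subtype).map _
      have h1 := hA.2.2 _ hBS hBEA
      rw [Subgroup.card_map_of_injective (MulAut.conj g).injective,
        Subgroup.card_map_of_injective H.subtype_injective] at h1
      rw [Nat.card_congr (Subgroup.subgroupOfEquivOfLe hAH).toEquiv]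
      exact h1
    have hIH := ih ↥H hHcard hC' hS4' T hclT (A.subgroupOf H) hA'
    refine ⟨(pCore 2 ↥H).map H.subtype, Subgroup.map_subtype_le _,
      (pCore_isPGroup 2 ↥H).map _, ?_, ?_⟩
    · intro h hh
      apply mem_normalizer_of_forall_conj
      rintro _ ⟨m, hm, rfl⟩
      exact ⟨⟨h, hh⟩ * m * ⟨h, hh⟩⁻¹, (pCore_normal 2 ↥H).conj_mem m hm ⟨h, hh⟩, rfl⟩
    · intro a ha
      exact ⟨⟨a, hAH ha⟩, hIH (Subgroup.mem_subgroupOf.mpr ha), rfl⟩

/-- **Glauberman**: a `2`-constrained `S₄`-free group whose Sylow `2`-subgroup `S` has class at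
most `2` satisfies `G = N_G(J(S)) O(G)`. -/
theorem class_two_thompson {G : Type u} [Group G] [Finite G] (hcon : IsPConstrained 2 G)
    (hS4 : ¬ Involves (Equiv.Perm (Fin 4)) G) (S : Sylow 2 G)
    (hcl : Subgroup.lowerCentralSeries (S : Subgroup G) 2 = ⊥) :
    Subgroup.normalizer ((thompsonSubgroupOf 2 (S : Subgroup G)) : Set G) ⊔ pPrimeCore 2 G = ⊤ := by
  have : Fact (Nat.Prime 2) := ⟨Nat.prime_two⟩
  have hOn : (pPrimeCore 2 G).Normal := pPrimeCore_normal 2 G
  obtain ⟨π, hπ⟩ : ∃ π : G →* G ⧸ pPrimeCore 2 G, π = QuotientGroup.mk' (pPrimeCore 2 G) :=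
    ⟨_, rfl⟩
  have hπsurj : Function.Surjective π := hπ ▸ QuotientGroup.mk'_surjective _
  have hker : ∀ x, π x = 1 ↔ x ∈ pPrimeCore 2 G := by
    intro x; rw [hπ]; exact QuotientGroup.eq_one_iff x
  have hinj : ∀ x ∈ (S : Subgroup G), ∀ y ∈ (S : Subgroup G), π x = π y → x = y := by
    intro x hx y hy h
    have h1 : π (x⁻¹ * y) = 1 := by rw [map_mul, map_inv, h, inv_mul_cancel]
    have h2 := eq_one_of_mem_pgroup_of_mem_pPrimeCore 2 S.isPGroup'
      ((S : Subgroup G).mul_mem ((S : Subgroup G).inv_mem hx) hy) ((hker _).mp h1)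
    exact inv_mul_eq_one.mp h2
  have hcbar := (Helper34.isPConstrained_iff_centralizer_pCore_le 2 G).mp hcon
  have hS4bar : ¬ Involves (Equiv.Perm (Fin 4)) (G ⧸ pPrimeCore 2 G) :=
    fun h => hS4 (involves_of_quotient _ h)
  obtain ⟨Sbar, hSbar⟩ : ∃ Sbar : Sylow 2 (G ⧸ pPrimeCore 2 G),
      (Sbar : Subgroup (G ⧸ pPrimeCore 2 G)) = (S : Subgroup G).map π :=
    ⟨S.mapSurjective hπsurj, Sylow.coe_mapSurjective hπsurj S⟩
  have hclbar : Cl2 (Sbar : Subgroup (G ⧸ pPrimeCore 2 G)) := by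
    rw [hSbar]
    rintro _ ⟨x, hx, rfl⟩ _ ⟨y, hy, rfl⟩ _ ⟨z, hz, rfl⟩
    have h := cl2_of_lowerCentralSeries hcl x hx y hy z hz
    simp only [← map_mul, ← map_inv]
    rw [h]
  have hmain : ∀ Abar, Helper19.MaxEA 2 (Sbar : Subgroup (G ⧸ pPrimeCore 2 G)) Abar →
      Abar ≤ pCore 2 (G ⧸ pPrimeCore 2 G) :=
    fun Abar hAbar => class_two_aux _ _ le_rfl hcbar hS4bar Sbar hclbar Abar hAbar
  have hJeq : Helper19.JJ 2 (Sbar : Subgroup (G ⧸ pPrimeCore 2 G)) =
      Helper19.JJ 2 (pCore 2 (G ⧸ pPrimeCore 2 G)) :=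
    Helper19.JJ_eq_of_forall_le (pCore_le_sylow Sbar) hmain
  have hJn : (Helper19.JJ 2 (Sbar : Subgroup (G ⧸ pPrimeCore 2 G))).Normal := by
    rw [hJeq]
    have h1 := Helper19.normalizer_le_normalizer_JJ 2 (pCore 2 (G ⧸ pPrimeCore 2 G))
    rw [Subgroup.normalizer_eq_top_iff.mpr (pCore_normal 2 _)] at h1
    exact Subgroup.normalizer_eq_top_iff.mp (top_le_iff.mp h1)
  have hJmap : Helper19.JJ 2 (Sbar : Subgroup (G ⧸ pPrimeCore 2 G)) =
      (Helper19.JJ 2 (S : Subgroup G)).map π := by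
    rw [hSbar]
    exact Helper19.JJ_map π (fun x hx y hy h => hinj x hx y hy h)
  rw [Helper19.thompsonSubgroupOf_eq_JJ]
  obtain ⟨J, hJ⟩ : ∃ J, J = Helper19.JJ 2 (S : Subgroup G) := ⟨_, rfl⟩
  rw [← hJ] at hJmap ⊢
  have hJS : J ≤ (S : Subgroup G) := hJ ▸ Helper19.JJ_le 2 _
  have hMn : ((J.map π).comap π).Normal := (hJmap ▸ hJn).comap π
  have hPM : (S : Subgroup G) ⊓ (J.map π).comap π = J := by
    apply le_antisymm
    · rintro x ⟨hxP, hx⟩
      obtain ⟨z, hz, hzx⟩ := Subgroup.mem_comap.mp hx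
      have : z = x := hinj z (hJS hz) x hxP hzx
      rw [← this]; exact hz
    · exact le_inf hJS (Subgroup.le_comap_map π J)
  rw [eq_top_iff]
  intro g _
  obtain ⟨l, hl, n, hn, rfl⟩ := Helper11.frattini_inf S ((J.map π).comap π) g
  rw [hPM] at hn
  obtain ⟨z, hz, hzl⟩ := Subgroup.mem_comap.mp hl
  have hk : z⁻¹ * l ∈ pPrimeCore 2 G := by
    rw [← hker, map_mul, map_inv, hzl, inv_mul_cancel]
  have e : l * n = (z * (z⁻¹ * l) * z⁻¹) * (z * n) := by group
  rw [e]
  exact Subgroup.mul_mem _ (Subgroup.mem_sup_right (hOn.conj_mem _ hk z))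
    (Subgroup.mem_sup_left (Subgroup.mul_mem _ (Subgroup.le_normalizer hz) hn))

end Cfsg.Agent.Helper46
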