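/-
helper46: piece PLUS of sub-CALL ELP (helper98; stage P of row S5988): an invariant subspace of
even dimension of `f` with `f - 1` mapping into the totally singular `U` is of plus type.
-/
import Mathlib
import Cfsg.Prelude.Def_GeometricClasses
import Cfsg.Prelude.Def_Classical
import Cfsg.Agent.Helper98.ELPDefs

set_option autoImplicit false

namespace Cfsg.Agent.Helper46.ELP

open Matrix Cfsg.Agent.Helper98.ELP
open scoped MatrixGroups

variable {n : Type} [Fintype n] [DecidableEq n] {F : Type*} [Field F]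

/-- A subspace of prescribed dimension inside a finite-dimensional subspace. -/
theorem exists_sub_finrank {V : Type*} [AddCommGroup V] [Module F V] [FiniteDimensional F V]
    (W : Submodule F V) (a : ℕ) (ha : a ≤ Module.finrank F W) :
    ∃ W' : Submodule F V, W' ≤ W ∧ Module.finrank F W' = a := by
  classical
  obtain ⟨b⟩ : Nonempty (Module.Basis (Fin (Module.finrank F W)) F W) := ⟨Module.finBasis F W⟩
  refine ⟨Submodule.span F (Set.range fun i : Fin a => (b (Fin.castLE ha i) : V)), ?_, ?_⟩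
  · rw [Submodule.span_le]
    rintro _ ⟨i, rfl⟩
    exact (b _).2
  · have h1 : LinearIndependent F (fun i : Fin (Module.finrank F W) => (b i : V)) :=
      b.linearIndependent.map' W.subtype (Submodule.ker_subtype W)
    have hli : LinearIndependent F (fun i : Fin a => (b (Fin.castLE ha i) : V)) :=
      h1.comp _ (Fin.castLE_injective ha)
    rw [finrank_span_eq_card hli, Fintype.card_fin]

/-- The dimension count: `dim W ≤ 2 dim (W ⊓ U) + 1`. -/
theorem plus_dim_bound {V : Type*} [AddCommGroup V] [Module F V] [FiniteDimensional F V]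
    (f : V →ₗ[F] V) (U : Submodule F V) (h1 : ∀ v, f v - v ∈ U)
    (φ : V →ₗ[F] F) (h2 : ∀ v, f v = v → φ v = 0 → v ∈ U)
    (W : Submodule F V) (hW : W.map f ≤ W) :
    Module.finrank F W ≤ 2 * Module.finrank F ↥(W ⊓ U) + 1 := by
  set g : ↥W →ₗ[F] V := (f - LinearMap.id) ∘ₗ W.subtype with hg
  have hgv : ∀ w : ↥W, g w = f (w : V) - (w : V) := fun w => rfl
  have hA := LinearMap.finrank_range_add_finrank_ker g
  have hR : Module.finrank F ↥(LinearMap.range g) ≤ Module.finrank F ↥(W ⊓ U) := by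
    apply Submodule.finrank_mono
    rintro _ ⟨w, rfl⟩
    rw [hgv]
    exact ⟨W.sub_mem (hW (Submodule.mem_map_of_mem w.2)) w.2, h1 _⟩
  set ψ : ↥(LinearMap.ker g) →ₗ[F] F := φ ∘ₗ W.subtype ∘ₗ (LinearMap.ker g).subtype with hψ
  have hψv : ∀ x : ↥(LinearMap.ker g), ψ x = φ ((x : ↥W) : V) := fun x => rfl
  have hB := LinearMap.finrank_range_add_finrank_ker ψ
  have hB1 : Module.finrank F ↥(LinearMap.range ψ) ≤ 1 :=
    (Submodule.finrank_le _).trans_eq (Module.finrank_self F)
  have hmem : ∀ x : ↥(LinearMap.ker ψ), (((x : ↥(LinearMap.ker g)) : ↥W) : V) ∈ W ⊓ U := by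
    intro x
    refine ⟨((x : ↥(LinearMap.ker g)) : ↥W).2, h2 _ ?_ ?_⟩
    · have h3 := LinearMap.mem_ker.1 (x : ↥(LinearMap.ker g)).2
      rw [hgv] at h3
      exact sub_eq_zero.1 h3
    · have h3 := LinearMap.mem_ker.1 x.2
      rw [hψv] at h3
      exact h3
  have hB2 : Module.finrank F ↥(LinearMap.ker ψ) ≤ Module.finrank F ↥(W ⊓ U) := by
    refine LinearMap.finrank_le_finrank_of_injective
      (f := LinearMap.codRestrict (W ⊓ U)
        (W.subtype ∘ₗ (LinearMap.ker g).subtype ∘ₗ (LinearMap.ker ψ).subtype) hmem) ?_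
    intro x y hxy
    have h3 := congrArg (fun z : ↥(W ⊓ U) => (z : V)) hxy
    exact Subtype.ext (Subtype.ext (Subtype.ext h3))
  omega

/-- PLUS [M, pure linear algebra]. -/
theorem plus_of_inv {ι : Type} [Fintype ι] (Q : (ι → F) → F) (f : (ι → F) →ₗ[F] (ι → F))
    (U : Submodule F (ι → F)) (hU : ∀ v ∈ U, Q v = 0) (h1 : ∀ v, f v - v ∈ U)
    (φ : (ι → F) →ₗ[F] F) (h2 : ∀ v, f v = v → φ v = 0 → v ∈ U)
    (W : Submodule F (ι → F)) (hW : W.map f ≤ W) (hev : Even (Module.finrank F W)) :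
    Cfsg.Geo.IsPlusTypeOn Q W := by
  have hb := plus_dim_bound f U h1 φ h2 W hW
  obtain ⟨k, hk⟩ := hev
  obtain ⟨U', hU'le, hU'd⟩ := exists_sub_finrank (W ⊓ U) k (by omega)
  refine ⟨U', hU'le.trans inf_le_left, fun w hw => hU w (hU'le hw).2, ?_⟩
  rw [hU'd, hk]
  omega

end Cfsg.Agent.Helper46.ELP
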