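/-
helper46: CALL LM (helper21; row S4067), piece ORB (double): `lm_orb`.
-/
import Mathlib

set_option autoImplicit false

namespace Cfsg.Agent.Helper46.LM

/-- conjugate elements lie in one `Aut G`-orbit. -/
theorem lm_orb_sound {G : Type*} [Group G] (a b : G) (hab : IsConj a b) :
    (Quotient.mk'' a : MulAction.orbitRel.Quotient (MulAut G) G) = Quotient.mk'' b := by
  obtain ⟨c, hc⟩ := isConj_iff.mp hab
  apply Quotient.sound'
  refine ⟨MulAut.conj c⁻¹, ?_⟩
  show (MulAut.conj c⁻¹) b = a
  rw [MulAut.conj_apply, ← hc]
  group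

/-- ORB: conjugate elements lie in one `Aut G`-orbit. -/
theorem lm_orb {G : Type*} [Group G] [Finite G] :
    Nat.card (MulAction.orbitRel.Quotient (MulAut G) G) ≤ Nat.card (ConjClasses G) := by
  let f : ConjClasses G → MulAction.orbitRel.Quotient (MulAut G) G :=
    Quotient.lift (s := IsConj.setoid G)
      (fun a => (Quotient.mk'' a : MulAction.orbitRel.Quotient (MulAut G) G))
      (fun a b hab => lm_orb_sound a b hab)
  apply Nat.card_le_card_of_surjective f
  intro q
  induction q using Quotient.inductionOn' with
  | h a => exact ⟨ConjClasses.mk a, rfl⟩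

end Cfsg.Agent.Helper46.LM
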