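import Mathlib
import Cfsg.Agent.Helper48.M11UGeo

set_option autoImplicit false
open scoped Pointwise

namespace Cfsg.Agent.Helper46
open Cfsg.Agent.Helper48.M11U
universe u
variable {G : Type u} [Group G] [Finite G]

theorem m11u_invol165 (h : M11Raw G) : Nat.card {z : G // orderOf z = 2} = 165 := by
  classical
  have : Fact (Nat.Prime 2) := ⟨Nat.prime_two⟩
  obtain ⟨z₀, hz₀⟩ := exists_prime_orderOf_dvd_card' (G := G) 2 (by rw [h.card]; norm_num)
  have hset : {z : G | orderOf z = 2} = MulAction.orbit (ConjAct G) z₀ := by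
    ext z
    constructor
    · intro hz
      obtain ⟨g, hg⟩ := h.conj2 z₀ z hz₀ hz
      exact ⟨ConjAct.toConjAct g, by rw [← hg]; exact ConjAct.toConjAct_smul g z₀⟩
    · rintro ⟨g, rfl⟩
      show orderOf (g • z₀) = 2
      have h3 := MulEquiv.orderOf_eq (MulAut.conj (ConjAct.ofConjAct g)) z₀
      rw [MulAut.conj_apply] at h3
      rw [ConjAct.smul_def, h3, hz₀]
  have hstab : Nat.card (MulAction.stabilizer (ConjAct G) z₀) = 48 := by
    rw [← Subgroup.nat_card_centralizer_nat_card_stabilizer]
    exact h.invc z₀ hz₀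
  have hidx := MulAction.index_stabilizer (ConjAct G) z₀
  have hmul := Subgroup.card_mul_index (MulAction.stabilizer (ConjAct G) z₀)
  rw [hstab, hidx] at hmul
  have hcG : Nat.card (ConjAct G) = 7920 := h.card
  rw [hcG] at hmul
  have hn : (MulAction.orbit (ConjAct G) z₀).ncard = 165 := by omega
  have hc : Nat.card {z : G // orderOf z = 2} = ({z : G | orderOf z = 2} : Set G).ncard :=
    Nat.card_coe_set_eq _
  rw [hc, hset, hn]

end Cfsg.Agent.Helper46
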