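import Cfsg.Agent.Helper94.OAE

/-!
Piece ZOP of CALL S5850 (helper88): the odd-characteristic analysis of the centre of the centraliser
of a normal subgroup of an irreducible group of isometries of a quadratic form, with data.
The proof is `Cfsg.Agent.Helper94.OA.o12_z_odd` (helper94) with two changes: the self-adjoint
field branch records self-adjointness, and the last field branch takes the whole centre.
-/

set_option autoImplicit false
set_option linter.unusedSectionVars false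
set_option linter.unusedVariables false
open Cfsg Cfsg.Geo Matrix
open Cfsg.Agent.Helper96
open Cfsg.Agent.Helper94.OA

namespace Cfsg.Agent.Helper46

variable {F : Type*} [Field F] [Fintype F]

theorem o10_z_odd_data (h2 : (2 : F) ≠ 0) {n : ℕ} (hn : 2 ≤ n) (Q : (Fin n → F) → F)
    (hQ : IsNondegenerateQuadraticForm Q) (H N : Subgroup (GL (Fin n) F))
    (hH : ∀ h ∈ H, ∀ x, Q ((h : Matrix (Fin n) (Fin n) F) *ᵥ x) = Q x)
    (hirr : ActsIrreducibly (matrixSet H)) (hNH : N ≤ H)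
    (hNn : ∀ h ∈ H, ∀ x ∈ N, h * x * h⁻¹ ∈ N) :
    (∃ (t k : ℕ) (D : Fin t → Submodule F (Fin n → F)),
      IsNondegenerateMDecomposition (QuadraticMap.polar Q) k D ∧ H ≤ decompositionStabilizer D) ∨
    (∃ (r : ℕ) (K : Subalgebra F (Matrix (Fin n) (Fin n) F)), r.Prime ∧ IsFieldSubalgebra r K ∧
      IsSelfAdjointFor (QuadraticMap.polar Q) K ∧ H ≤ subalgebraNormalizer K) ∨
    IsPlusTypeOn Q ⊤ ∨
    (∃ K : Subalgebra F (Matrix (Fin n) (Fin n) F), IsFieldSubalgebra 2 K ∧
      IsAdjointClosedFor (QuadraticMap.polar Q) K ∧ ¬ IsSelfAdjointFor (QuadraticMap.polar Q) K ∧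
      (∀ k ∈ K, ∃ c : F, ∀ v : Fin n → F, Q (k *ᵥ v) = c * Q v) ∧
      H ≤ subalgebraNormalizer K) ∨
    (∀ k, Cfsg.Agent.Helper96.ZCent (matrixSet N) k →
      ∃ c : F, k = c • (1 : Matrix (Fin n) (Fin n) F)) := by
  classical
  obtain ⟨f, hfdef⟩ : ∃ f, f = QuadraticMap.polar Q := ⟨_, rfl⟩
  have hf : IsSymmetricForm f :=
    hfdef ▸ ⟨hQ.polar_bilinear, fun u v => QuadraticMap.polar_comm Q u v, hQ.nondegenerate⟩
  have hH' : H ≤ Sy.isoSub f := by
    intro g hg
    rw [Sy.mem_isoSub, hfdef]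
    exact Helper97.Gen.polar_isometry ((Helper97.Gen.mem_isometryGroup_iff Q g).mpr (hH g hg))
  have hQf : ∀ x, f x x = 0 → Q x = 0 := by
    intro x hx
    have h1 : QuadraticMap.polar Q x x = 2 * Q x := by
      unfold QuadraticMap.polar
      have h3 : x + x = (2 : F) • x := (two_smul F x).symm
      rw [h3, hQ.smul]
      ring
    rw [hfdef, h1] at hx
    exact (mul_eq_zero.mp hx).resolve_left h2
  rw [← hfdef]
  have hH := hH'
  have hne : NeZero n := ⟨by omega⟩
  obtain ⟨T, hT⟩ : ∃ T, T = matrixSet N := ⟨_, rfl⟩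
  rw [← hT]
  have hconj1 : ∀ g ∈ H, ∀ s ∈ T, (g : Matrix (Fin n) (Fin n) F) * s *
      ((g⁻¹ : GL (Fin n) F) : Matrix (Fin n) (Fin n) F) ∈ T := by
    intro g hg
    rw [hT]
    exact matrixSet_conj N g (hNn g hg)
  have hconj2 : ∀ g ∈ H, ∀ s ∈ T, ((g⁻¹ : GL (Fin n) F) : Matrix (Fin n) (Fin n) F) * s *
      (g : Matrix (Fin n) (Fin n) F) ∈ T := by
    intro g hg
    rw [hT]
    have := matrixSet_conj N g⁻¹ (hNn g⁻¹ (H.inv_mem hg))
    simpa using this
  have hiso : Sy.IsoSet f T := by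
    intro s hs
    rw [hT] at hs ⊢
    obtain ⟨x, hx, rfl⟩ := hs
    exact ⟨x, hH (hNH hx), rfl, Helper97.coe_mem_matrixSet (N.inv_mem hx)⟩
  have hZconj : ∀ g ∈ H, ∀ a, ZCent T a → ZCent T ((g : Matrix (Fin n) (Fin n) F) * a *
      ((g⁻¹ : GL (Fin n) F) : Matrix (Fin n) (Fin n) F)) :=
    fun g hg a ha => zcent_conj T g (hconj2 g hg) (hconj1 g hg) a ha
  have hZadj : ∀ a, ZCent T a → ZCent T (Sy.adj f a) := fun a ha => zcent_adj hf hiso ha
  have hZcomm : ∀ a, ZCent T a → ∀ b, ZCent T b → a * b = b * a := fun a ha b hb => ha.2 b hb.1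
  by_cases hD1 : ∃ M, (ZCent T M ∧ Sy.adj f M = M) ∧ M ≠ 0 ∧ ∃ v : Fin n → F, v ≠ 0 ∧ M *ᵥ v = 0
  · left
    obtain ⟨M, hM, hM0, v, hv0, hMv⟩ := hD1
    exact nondeg_decomp hf H hH hirr {M | ZCent T M ∧ Sy.adj f M = M}
      (fun a ha b hb => hZcomm a ha.1 b hb.1)
      (fun g hg a ha => ⟨hZconj g hg a ha.1, by rw [adj_conj hf (hH hg), ha.2]⟩)
      (fun a ha => ha.2) M hM hM0 v hv0 hMv
  have hZp : ∀ M, ZCent T M → Sy.adj f M = M → M ≠ 0 → ∀ v : Fin n → F, M *ᵥ v = 0 → v = 0 := by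
    intro M hM hM' hM0 v hv
    by_contra hv0
    exact hD1 ⟨M, ⟨hM, hM'⟩, hM0, v, hv0, hv⟩
  have hFSp : Helper98.IsFS (zcp f hf T) := by
    constructor
    · intro x hx y hy
      exact hZcomm x hx.1 y hy.1
    · intro x hx hx0
      have hdet : x.det ≠ 0 := Helper97.det_ne_zero_of_injective x (hZp x hx.1 hx.2 hx0)
      have hu : IsUnit x.det := isUnit_iff_ne_zero.mpr hdet
      refine ⟨x⁻¹, ⟨⟨fun s hs => inv_comm_of_comm x s hdet (hx.1.1 s hs),
        fun c hc => inv_comm_of_comm x c hdet (hx.1.2 c hc)⟩, ?_⟩, Matrix.mul_nonsing_inv x hu⟩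
      have h1 : Sy.adj f x⁻¹ * x = 1 := by
        have h2 := adj_mul hf x x⁻¹
        rw [Matrix.mul_nonsing_inv x hu, adj_one hf, hx.2] at h2
        exact h2.symm
      exact (Matrix.inv_eq_left_inv h1).symm
  have hpconj : ∀ g ∈ H, ∀ k, k ∈ zcp f hf T → (g : Matrix (Fin n) (Fin n) F) * k *
      ((g⁻¹ : GL (Fin n) F) : Matrix (Fin n) (Fin n) F) ∈ zcp f hf T :=
    fun g hg k hk => ⟨hZconj g hg k hk.1, by rw [adj_conj hf (hH hg), hk.2]⟩
  have hHnormp : H ≤ subalgebraNormalizer (zcp f hf T) := by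
    intro g hg k
    constructor
    · exact hpconj g hg k
    · intro hk
      have h3 := hpconj g⁻¹ (H.inv_mem hg) _ hk
      have h4 : ((g⁻¹ : GL (Fin n) F) : Matrix (Fin n) (Fin n) F) * ((g : Matrix (Fin n) (Fin n) F) * k *
          ((g⁻¹ : GL (Fin n) F) : Matrix (Fin n) (Fin n) F)) *
          (((g⁻¹)⁻¹ : GL (Fin n) F) : Matrix (Fin n) (Fin n) F) = k := by
        rw [inv_inv]
        simp only [mul_assoc, Units.inv_mul, mul_one]
        rw [← mul_assoc, Units.inv_mul, one_mul]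
      rw [h4] at h3
      exact h3
  by_cases hA : ∃ k ∈ zcp f hf T, ∀ c : F, k ≠ c • (1 : Matrix (Fin n) (Fin n) F)
  · right; left
    obtain ⟨r, K₀, hr, hK₀, hle, hnorm⟩ := Sy.exists_prime_subfield' (zcp f hf T) hFSp hA
    have hsa : ∀ k ∈ K₀, Sy.adj f k = k := fun k hk => (hle hk).2
    exact ⟨r, K₀, hr, hK₀, fun k hk u v => by rw [adj_spec hf, hsa k hk], hHnormp.trans hnorm⟩
  have hsc : ∀ k, ZCent T k → Sy.adj f k = k → ∃ c : F, k = c • (1 : Matrix (Fin n) (Fin n) F) := by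
    intro k hk hk'
    by_contra hcon
    exact hA ⟨k, ⟨hk, hk'⟩, fun c hc => hcon ⟨c, hc⟩⟩
  by_cases hsing : ∃ M, ZCent T M ∧ M ≠ 0 ∧ ∃ v : Fin n → F, v ≠ 0 ∧ M *ᵥ v = 0
  · -- a singular element of `Z`: a pair of complementary totally singular subspaces
    right; right; left
    obtain ⟨s₀, hs₀Z, hs₀0, v, hv0, hMv⟩ := hsing
    have : Fact (Fintype.card (Fin n) = n) := ⟨Fintype.card_fin n⟩
    obtain ⟨t, m, D, hD, -, hpres, hsep⟩ :=
      Helper97.Gen.exists_decomp_of_comm_stable_sep H hirr {M | ZCent T M}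
        (fun a ha b hb => hZcomm a ha b hb) (fun g hg a ha => hZconj g hg a ha) s₀ hs₀Z hs₀0 v hv0 hMv
    have ht := hD.two_le
    obtain ⟨a, haZ, hkill, hinj⟩ := hsep ⟨0, by omega⟩ ⟨1, by omega⟩ (by simp [Fin.ext_iff])
    have hex : ∀ i, ∃ w ∈ D i, w ≠ 0 := by
      intro i
      have h1 := hD.finrank_eq i
      have h2' := hD.pos
      by_contra hcon
      push Not at hcon
      have h3 : D i = ⊥ := (Submodule.eq_bot_iff _).mpr hcon
      rw [h3, finrank_bot] at h1
      omega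
    obtain ⟨w0, hw0, hw00⟩ := hex ⟨0, by omega⟩
    obtain ⟨w1, hw1, hw10⟩ := hex ⟨1, by omega⟩
    obtain ⟨c₁, hc₁⟩ := hsc (Sy.adj f a * a) ((zc T).mul_mem (hZadj a haZ) haZ)
      (by rw [adj_mul hf, adj_adj hf])
    have hc₁0 : c₁ = 0 := by
      have h3 : (Sy.adj f a * a) *ᵥ w0 = 0 := by
        rw [← Matrix.mulVec_mulVec, hkill w0 hw0, Matrix.mulVec_zero]
      rw [hc₁, Matrix.smul_mulVec, Matrix.one_mulVec] at h3
      exact (smul_eq_zero.mp h3).resolve_right hw00
    rw [hc₁0, zero_smul] at hc₁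
    obtain ⟨c, hc⟩ := hsc (a + Sy.adj f a) ((zc T).add_mem haZ (hZadj a haZ))
      (by rw [Sy.adj_add, adj_adj hf, add_comm])
    have hc0 : c ≠ 0 := by
      rintro rfl
      rw [zero_smul] at hc
      have h3 : Sy.adj f a = -a := eq_neg_of_add_eq_zero_right hc
      rw [h3, neg_mul, neg_eq_zero] at hc₁
      have h4 : a *ᵥ (a *ᵥ w1) = 0 := by rw [Matrix.mulVec_mulVec, hc₁, Matrix.zero_mulVec]
      exact hw10 (hinj w1 hw1 (hinj _ (hpres a haZ _ w1 hw1) h4))
    obtain ⟨e, hedef⟩ : ∃ e, e = c⁻¹ • a := ⟨_, rfl⟩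
    have he1 : e + Sy.adj f e = 1 := by
      rw [hedef, Sy.adj_smul, ← smul_add, hc, smul_smul, inv_mul_cancel₀ hc0, one_smul]
    have he2 : Sy.adj f e * e = 0 := by
      rw [hedef, Sy.adj_smul, Matrix.smul_mul, Matrix.mul_smul, hc₁, smul_zero, smul_zero]
    have hadj : Sy.adj f e = 1 - e := eq_sub_of_add_eq' he1
    have hidem : e * e = e := by
      have h3 := he2
      rw [hadj, Matrix.sub_mul, Matrix.one_mul] at h3
      exact (sub_eq_zero.mp h3).symm
    obtain ⟨A, hA'⟩ : ∃ A : Submodule F (Fin n → F), A = LinearMap.range (Matrix.toLin' e) := ⟨_, rfl⟩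
    obtain ⟨B, hB⟩ : ∃ B : Submodule F (Fin n → F), B = LinearMap.ker (Matrix.toLin' e) := ⟨_, rfl⟩
    have memA : ∀ x, x ∈ A ↔ ∃ y, e *ᵥ y = x := by
      intro x
      rw [hA', LinearMap.mem_range]
      simp only [Matrix.toLin'_apply]
    have memB : ∀ x, x ∈ B ↔ e *ᵥ x = 0 := by
      intro x
      rw [hB, LinearMap.mem_ker, Matrix.toLin'_apply]
    have hAts : IsTotallySingularFor f A := by
      intro u hu v hv
      obtain ⟨y, rfl⟩ := (memA u).mp hu
      obtain ⟨z, rfl⟩ := (memA v).mp hv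
      rw [adj_spec hf, Matrix.mulVec_mulVec, he2, Matrix.zero_mulVec, zero_right hf]
    have hBts : IsTotallySingularFor f B := by
      intro u hu v hv
      have h1 : Sy.adj f e *ᵥ u = u := by
        rw [hadj, Matrix.sub_mulVec, Matrix.one_mulVec, (memB u).mp hu, sub_zero]
      rw [← h1, ← adj_spec' hf, (memB v).mp hv, zero_right hf]
    have hrn := LinearMap.finrank_range_add_finrank_ker (Matrix.toLin' e)
    rw [← hA', ← hB, Module.finrank_fintype_fun_eq_card, Fintype.card_fin] at hrn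
    have hA2 := finrank_ts hf A hAts
    have hB2 := finrank_ts hf B hBts
    rw [Fintype.card_fin] at hA2 hB2
    refine ⟨A, le_top, fun w hw => hQf w (hAts w hw w hw), ?_⟩
    rw [finrank_top, Module.finrank_fintype_fun_eq_card, Fintype.card_fin]
    omega
  by_cases hns : ∃ k₀, ZCent T k₀ ∧ ∀ c : F, k₀ ≠ c • (1 : Matrix (Fin n) (Fin n) F)
  · -- `Z` is a field of degree two, adjoint-closed, not self-adjoint, consisting of similarities
    right; right; right; left
    obtain ⟨k₀, hk₀, hk₀ns⟩ := hns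
    have hFS : Helper98.IsFS (zc T) := isFS_zc T (fun M hM hM0 v hv => by
      by_contra hv0
      exact hsing ⟨M, hM, hM0, v, hv0, hv⟩)
    have hHnorm : H ≤ subalgebraNormalizer (zc T) := hT ▸ le_normalizer_zc H N hNn
    have hQ2 : ∀ x, f x x = 2 * Q x := by
      intro x
      rw [hfdef]
      unfold QuadraticMap.polar
      have h3 : x + x = (2 : F) • x := (two_smul F x).symm
      rw [h3, hQ.smul]
      ring
    -- the skew element `w`
    obtain ⟨w, hwdef⟩ : ∃ w, w = k₀ - Sy.adj f k₀ := ⟨_, rfl⟩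
    have hwZ : ZCent T w := hwdef ▸ (zc T).sub_mem hk₀ (hZadj k₀ hk₀)
    have hwadj : Sy.adj f w = -w := by
      rw [hwdef, Sy.adj_sub, adj_adj hf, neg_sub]
    have hw0 : w ≠ 0 := by
      intro h
      rw [hwdef, sub_eq_zero] at h
      obtain ⟨c, hc⟩ := hsc k₀ hk₀ h.symm
      exact hk₀ns c hc
    obtain ⟨d, hd⟩ := hsc (w * w) ((zc T).mul_mem hwZ hwZ) (by
      rw [adj_mul hf, hwadj, neg_mul_neg])
    have hd0 : d ≠ 0 := by
      rintro rfl
      rw [zero_smul] at hd
      obtain ⟨y, hy, hwy⟩ := hFS.inv w hwZ hw0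
      apply hw0
      calc w = w * (w * y) := by rw [hwy, mul_one]
        _ = (w * w) * y := by rw [mul_assoc]
        _ = 0 := by rw [hd, zero_mul]
    have hrep : ∀ z, ZCent T z → ∃ α β : F, z = α • (1 : Matrix (Fin n) (Fin n) F) + β • w := by
      intro z hz
      obtain ⟨a, ha⟩ := hsc (z + Sy.adj f z) ((zc T).add_mem hz (hZadj z hz))
        (by rw [Sy.adj_add, adj_adj hf, add_comm])
      have huZ : ZCent T (z - Sy.adj f z) := (zc T).sub_mem hz (hZadj z hz)
      obtain ⟨c, hc⟩ := hsc ((z - Sy.adj f z) * w) ((zc T).mul_mem huZ hwZ) (by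
        rw [adj_mul hf, hwadj, Sy.adj_sub, adj_adj hf, neg_mul, ← mul_neg, neg_sub]
        exact hZcomm w hwZ _ huZ)
      have h5 : d • (z - Sy.adj f z) = c • w := by
        calc d • (z - Sy.adj f z) = (z - Sy.adj f z) * (w * w) := by
              rw [hd, Matrix.mul_smul, mul_one]
          _ = ((z - Sy.adj f z) * w) * w := by rw [mul_assoc]
          _ = c • w := by rw [hc, Matrix.smul_mul, one_mul]
      refine ⟨2⁻¹ * a, 2⁻¹ * (d⁻¹ * c), ?_⟩
      have h6 : z - Sy.adj f z = (d⁻¹ * c) • w := by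
        calc z - Sy.adj f z = d⁻¹ • (d • (z - Sy.adj f z)) := by
              rw [smul_smul, inv_mul_cancel₀ hd0, one_smul]
          _ = (d⁻¹ * c) • w := by rw [h5, smul_smul]
      have h7 : (2 : F) • z = (z + Sy.adj f z) + (z - Sy.adj f z) := by
        rw [two_smul]; abel
      calc z = (2⁻¹ : F) • ((2 : F) • z) := by rw [smul_smul, inv_mul_cancel₀ h2, one_smul]
        _ = (2⁻¹ * a) • (1 : Matrix (Fin n) (Fin n) F) + (2⁻¹ * (d⁻¹ * c)) • w := by
            rw [h7, ha, h6, smul_add, smul_smul, smul_smul]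
    have hwns : ∀ l : F, w ≠ l • (1 : Matrix (Fin n) (Fin n) F) := by
      intro l hl
      have h3 : Sy.adj f w = w := by rw [hl, adj_smul_one hf]
      rw [hwadj] at h3
      have h4 : (2 : F) • w = 0 := by
        rw [two_smul]
        nth_rewrite 1 [← h3]
        exact neg_add_cancel w
      exact hw0 ((smul_eq_zero.mp h4).resolve_left h2)
    have hn0 : 0 < n := by omega
    have hone : (1 : Matrix (Fin n) (Fin n) F) ≠ 0 := by
      intro h
      have := congrFun (congrFun h ⟨0, hn0⟩) ⟨0, hn0⟩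
      simp at this
    have hli : LinearIndependent F ![(1 : Matrix (Fin n) (Fin n) F), w] := by
      rw [LinearIndependent.pair_iff]
      intro s t hst
      have ht : t = 0 := by
        by_contra ht
        apply hwns (-(t⁻¹ * s))
        have h1 : t • w = -(s • (1 : Matrix (Fin n) (Fin n) F)) := eq_neg_of_add_eq_zero_right hst
        calc w = t⁻¹ • (t • w) := by rw [smul_smul, inv_mul_cancel₀ ht, one_smul]
          _ = (-(t⁻¹ * s)) • (1 : Matrix (Fin n) (Fin n) F) := by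
              rw [h1, smul_neg, smul_smul, neg_smul]
      rw [ht, zero_smul, add_zero] at hst
      exact ⟨(smul_eq_zero.mp hst).resolve_right hone, ht⟩
    have hspan : Subalgebra.toSubmodule (zc T)
        = Submodule.span F (Set.range ![(1 : Matrix (Fin n) (Fin n) F), w]) := by
      apply le_antisymm
      · intro z hz
        obtain ⟨α, β, rfl⟩ := hrep z hz
        exact Submodule.add_mem _ (Submodule.smul_mem _ _ (Submodule.subset_span ⟨0, rfl⟩))
          (Submodule.smul_mem _ _ (Submodule.subset_span ⟨1, rfl⟩))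
      · rw [Submodule.span_le]
        rintro _ ⟨i, rfl⟩
        fin_cases i
        · exact (zc T).one_mem
        · exact hwZ
    refine ⟨zc T, ⟨fun x hx y hy => hZcomm x hx y hy, hFS.inv, ?_⟩, ?_, ?_, ?_, hHnorm⟩
    · have h1 : Module.finrank F (zc T) = Module.finrank F (Subalgebra.toSubmodule (zc T)) := rfl
      rw [h1, hspan, finrank_span_eq_card hli, Fintype.card_fin]
    · exact fun k hk => ⟨Sy.adj f k, hZadj k hk, fun u v => adj_spec hf k u v⟩
    · intro hSA
      obtain ⟨c, hc⟩ := hsc k₀ hk₀ (adj_unique hf (hSA k₀ hk₀))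
      exact hk₀ns c hc
    · intro k hk
      obtain ⟨β, hβ⟩ := hsc (Sy.adj f k * k) ((zc T).mul_mem (hZadj k hk) hk)
        (by rw [adj_mul hf, adj_adj hf])
      refine ⟨β, fun v => ?_⟩
      have h5 : f (k *ᵥ v) (k *ᵥ v) = β * f v v := by
        rw [adj_spec hf, Matrix.mulVec_mulVec, hβ, Matrix.smul_mulVec, Matrix.one_mulVec,
          hf.bilinear.smul_right]
      rw [hQ2, hQ2] at h5
      have h6 : 2 * Q (k *ᵥ v) = 2 * (β * Q v) := by rw [h5]; ring
      exact mul_left_cancel₀ h2 h6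
  · right; right; right; right
    intro k hk
    by_contra hcon
    exact hns ⟨k, hk, fun c hc => hcon ⟨c, hc⟩⟩

end Cfsg.Agent.Helper46
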