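import Cfsg.Agent.Helper84.P4Defs
import Cfsg.Agent.Helper2.PGroup
import Cfsg.Agent.Helper76.PGroup

/-!
# Piece C0 of CALL S5188 (helper84): nonabelian groups of order `p^4` with Frattini subgroup
of order `p`.
-/

set_option autoImplicit false

namespace Cfsg.Agent.Helper46

open Subgroup Cfsg.Agent.Helper84
open scoped commutatorElement

theorem p4_three_gen_basic {G : Type*} [Group G] [Finite G] (p : ℕ) [Fact p.Prime]
    (hG : Nat.card G = p ^ 4) (hna : ¬ ∀ a b : G, a * b = b * a)
    (hd : Nat.card (frattini G) = p) :
    Nat.card (Subgroup.center G) = p ^ 2 ∧ commutator G = frattini G ∧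
      frattini G ≤ Subgroup.center G ∧ (∀ x : G, x ^ p ∈ frattini G) ∧
      (∀ x : G, x ^ (p ^ 2) = 1) := by
  have hp : p.Prime := Fact.out
  have hPG : IsPGroup p G := IsPGroup.of_card hG
  have hcf : commutator G ≤ frattini G := Helper2.commutator_le_frattini_of_isPGroup hPG
  have hpow : ∀ x : G, x ^ p ∈ frattini G := fun x => Helper2.pow_mem_frattini_of_isPGroup hPG x
  have hcne : commutator G ≠ ⊥ := by
    intro h
    apply hna
    intro a b
    have h1 : ⁅a, b⁆ ∈ commutator G := by
      rw [commutator_def]
      exact Subgroup.commutator_mem_commutator (mem_top a) (mem_top b)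
    rw [h, mem_bot, commutatorElement_eq_one_iff_mul_comm] at h1
    exact h1
  have hccard : Nat.card (commutator G) = p := by
    have h1 : Nat.card (commutator G) ∣ p := hd ▸ Subgroup.card_dvd_of_le hcf
    rcases (Nat.dvd_prime hp).mp h1 with h | h
    · exact absurd (Subgroup.card_eq_one.mp h) hcne
    · exact h
  have hceq : commutator G = frattini G :=
    Subgroup.eq_of_le_of_card_ge hcf (by rw [hccard, hd])
  have hfn : (frattini G).Normal := Subgroup.normal_of_characteristic _
  have hfz : frattini G ≤ Subgroup.center G :=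
    Helper76.normal_card_prime_le_center hPG (frattini G) hd
  have hidx : (Subgroup.center G).index = p ^ 2 :=
    Helper76.center_index_of_card_commutator hG hccard
  have hzc : Nat.card (Subgroup.center G) = p ^ 2 := by
    have h1 := Subgroup.card_mul_index (Subgroup.center G)
    rw [hG, hidx] at h1
    have h2 : Nat.card (Subgroup.center G) * p ^ 2 = p ^ 2 * p ^ 2 := by rw [h1]; ring
    exact Nat.eq_of_mul_eq_mul_right (pow_pos hp.pos 2) h2
  refine ⟨hzc, hceq, hfz, hpow, ?_⟩
  intro x
  have h0 : ∀ y : frattini G, y ^ p = 1 := by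
    intro y
    have h := pow_card_eq_one' (x := y)
    rw [hd] at h
    exact h
  have h1 : (⟨x ^ p, hpow x⟩ : frattini G) ^ p = 1 := h0 _
  have h2 := congrArg Subtype.val h1
  simp only [Subgroup.coe_pow, Subgroup.coe_one] at h2
  rw [pow_two, pow_mul]
  exact h2

end Cfsg.Agent.Helper46
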