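import Mathlib
import Cfsg.Agent.Helper87.R2Defs
import Cfsg.Agent.Helper46.R2WC

/-!
Piece C of CALL S5289 (helper87): the endgame `r2_endgame`.
-/

open scoped commutatorElement

namespace Cfsg.Agent.Helper46

universe u

/-- `⁅a ^ n, b⁆ = ⁅a, b⁆ ^ n` when `⁅a, b⁆` commutes with `a`. -/
theorem r2end_comm_pow {G : Type*} [Group G] (a b : G)
    (h : Commute ⁅a, b⁆ a) (n : ℕ) : ⁅a ^ n, b⁆ = ⁅a, b⁆ ^ n := by
  induction n with
  | zero => simp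
  | succ n ih =>
    have h1 : ⁅a ^ (n + 1), b⁆ = a * ⁅a ^ n, b⁆ * a⁻¹ * ⁅a, b⁆ := by
      simp only [commutatorElement_def, pow_succ']
      group
    rw [h1, ih]
    have h2 : Commute (⁅a, b⁆ ^ n) a := h.pow_left n
    rw [← h2.eq, mul_inv_cancel_right, pow_succ]

/-- The quotient of the centralizer of an abelian subgroup `B` by `B`. -/
theorem r2end_mod {Ω : Type u} [Group Ω] (B : Subgroup Ω) :
    ∃ (Q : Type u) (_ : Group Q) (π : Subgroup.centralizer (B : Set Ω) →* Q),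
      ∀ x : Subgroup.centralizer (B : Set Ω), π x = 1 ↔ (x : Ω) ∈ B := by
  have hN : (B.subgroupOf (Subgroup.centralizer (B : Set Ω))).Normal := by
    constructor
    intro n hn g
    rw [Subgroup.mem_subgroupOf] at hn ⊢
    have hg := g.2
    rw [Subgroup.mem_centralizer_iff] at hg
    have : ((g * n * g⁻¹ : Subgroup.centralizer (B : Set Ω)) : Ω) = (n : Ω) := by
      simp only [Subgroup.coe_mul, Subgroup.coe_inv]
      rw [← hg _ hn, mul_inv_cancel_right]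
    rw [this]; exact hn
  refine ⟨_, inferInstance,
    QuotientGroup.mk' (B.subgroupOf (Subgroup.centralizer (B : Set Ω))), ?_⟩
  intro x
  rw [QuotientGroup.mk'_apply, QuotientGroup.eq_one_iff, Subgroup.mem_subgroupOf]

/-- A computation in a group: conjugation by `S ^ mu * L ^ a`. -/
theorem r2end_quot {Q : Type*} [Group Q] (L L' S : Q) (mu a x lam₁ lam₂ : ℕ)
    (hc : Commute L L') (hS : Commute S L) (hS' : S * L' * S⁻¹ = L * L')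
    (hrel : (S ^ mu * L ^ a) * (L ^ x * L' ^ lam₂) * (S ^ mu * L ^ a)⁻¹
      = L ^ lam₁ * (L ^ x * L' ^ lam₂)) :
    L ^ (mu * lam₂) = L ^ lam₁ := by
  have hA : ∀ k : ℕ, S ^ k * L' * (S ^ k)⁻¹ = L ^ k * L' := by
    intro k
    induction k with
    | zero => simp
    | succ k ih =>
      have hk : Commute S (L ^ k) := hS.pow_right k
      calc S ^ (k + 1) * L' * (S ^ (k + 1))⁻¹
          = S * (S ^ k * L' * (S ^ k)⁻¹) * S⁻¹ := by rw [pow_succ']; group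
        _ = S * (L ^ k * L') * S⁻¹ := by rw [ih]
        _ = (S * L ^ k) * L' * S⁻¹ := by group
        _ = (L ^ k * S) * L' * S⁻¹ := by rw [hk.eq]
        _ = L ^ k * (S * L' * S⁻¹) := by group
        _ = L ^ k * (L * L') := by rw [hS']
        _ = L ^ (k + 1) * L' := by rw [pow_succ]; group
  have hB : S ^ mu * L' ^ lam₂ * (S ^ mu)⁻¹ = L ^ (mu * lam₂) * L' ^ lam₂ := by
    have h1 : S ^ mu * L' ^ lam₂ * (S ^ mu)⁻¹ = (S ^ mu * L' * (S ^ mu)⁻¹) ^ lam₂ := by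
      rw [conj_pow]
    rw [h1, hA mu, (hc.pow_left mu).mul_pow, ← pow_mul]
  have hSx : Commute (S ^ mu) (L ^ x) := (hS.pow_right x).pow_left mu
  have hax : Commute (L ^ a) (L ^ x * L' ^ lam₂) :=
    ((Commute.refl L).pow_pow a x).mul_right ((hc.pow_pow a lam₂))
  have hC : (S ^ mu * L ^ a) * (L ^ x * L' ^ lam₂) * (S ^ mu * L ^ a)⁻¹
      = L ^ x * (L ^ (mu * lam₂) * L' ^ lam₂) := by
    calc (S ^ mu * L ^ a) * (L ^ x * L' ^ lam₂) * (S ^ mu * L ^ a)⁻¹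
        = S ^ mu * (L ^ a * (L ^ x * L' ^ lam₂)) * (L ^ a)⁻¹ * (S ^ mu)⁻¹ := by group
      _ = S ^ mu * ((L ^ x * L' ^ lam₂) * L ^ a) * (L ^ a)⁻¹ * (S ^ mu)⁻¹ := by rw [hax.eq]
      _ = (S ^ mu * L ^ x) * L' ^ lam₂ * (S ^ mu)⁻¹ := by group
      _ = (L ^ x * S ^ mu) * L' ^ lam₂ * (S ^ mu)⁻¹ := by rw [hSx.eq]
      _ = L ^ x * (S ^ mu * L' ^ lam₂ * (S ^ mu)⁻¹) := by group
      _ = L ^ x * (L ^ (mu * lam₂) * L' ^ lam₂) := by rw [hB]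
  rw [hC] at hrel
  have hxm : Commute (L ^ x) (L ^ (mu * lam₂)) := (Commute.refl L).pow_pow _ _
  have h2 : L ^ (mu * lam₂) * (L ^ x * L' ^ lam₂) = L ^ lam₁ * (L ^ x * L' ^ lam₂) := by
    rw [← hrel, ← mul_assoc, ← mul_assoc, hxm.eq]
  exact mul_right_cancel h2

/-- The computations modulo `B`. -/
theorem r2end_mod_main {Ω : Type u} [Group Ω] (B : Subgroup Ω) (p : ℕ) [Fact p.Prime]
    (hBcomm : ∀ a ∈ B, ∀ b ∈ B, a * b = b * a)
    (l l' s : Ω)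
    (hBl : ∀ c ∈ B, c * l = l * c) (hBl' : ∀ c ∈ B, c * l' = l' * c)
    (hBs : ∀ c ∈ B, c * s = s * c) (hls : l * s = s * l)
    (hlp : l ^ p = 1) (hz : ⁅l, l'⁆ ∈ B) (hlB : l ∉ B)
    (hsl' : ∃ c₀ ∈ B, s * l' * s⁻¹ = l * l' * c₀) :
    (∀ m n : ℕ, (∃ b ∈ B, l ^ m = l ^ n * b) → m ≡ n [MOD p]) ∧
    (∀ (mu a x lam₁ lam₂ : ℕ) (c₃ c₁ c₂ c : Ω), c₃ ∈ B → c₁ ∈ B → c₂ ∈ B → c ∈ B →
      (s ^ mu * (l ^ a * c₃)) * (l ^ x * l' ^ lam₂ * c₂) * (s ^ mu * (l ^ a * c₃))⁻¹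
        = (l ^ lam₁ * c₁) * (l ^ x * l' ^ lam₂ * c₂) * c →
      mu * lam₂ ≡ lam₁ [MOD p]) := by
  obtain ⟨Q, _, π, hπ⟩ := r2end_mod B
  have hBM : ∀ b ∈ B, b ∈ Subgroup.centralizer (B : Set Ω) := by
    intro b hb
    rw [Subgroup.mem_centralizer_iff]
    intro h hh
    exact hBcomm h hh b hb
  have hlM : l ∈ Subgroup.centralizer (B : Set Ω) := by
    rw [Subgroup.mem_centralizer_iff]; exact hBl
  have hl'M : l' ∈ Subgroup.centralizer (B : Set Ω) := by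
    rw [Subgroup.mem_centralizer_iff]; exact hBl'
  have hsM : s ∈ Subgroup.centralizer (B : Set Ω) := by
    rw [Subgroup.mem_centralizer_iff]; exact hBs
  have hπB : ∀ (b : Ω) (hb : b ∈ B), π ⟨b, hBM b hb⟩ = 1 := fun b hb => (hπ _).mpr hb
  -- relations in Q
  have hc : Commute (π ⟨l, hlM⟩) (π ⟨l', hl'M⟩) := by
    rw [← commutatorElement_eq_one_iff_commute, ← map_commutatorElement, hπ]
    exact hz
  have hS : Commute (π ⟨s, hsM⟩) (π ⟨l, hlM⟩) := by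
    have : (⟨s, hsM⟩ * ⟨l, hlM⟩ : Subgroup.centralizer (B : Set Ω)) = ⟨l, hlM⟩ * ⟨s, hsM⟩ :=
      Subtype.ext hls.symm
    have := congrArg π this
    rwa [map_mul, map_mul] at this
  obtain ⟨c₀, hc₀, hsl'⟩ := hsl'
  have hS' : π ⟨s, hsM⟩ * π ⟨l', hl'M⟩ * (π ⟨s, hsM⟩)⁻¹ = π ⟨l, hlM⟩ * π ⟨l', hl'M⟩ := by
    have : (⟨s, hsM⟩ * ⟨l', hl'M⟩ * ⟨s, hsM⟩⁻¹ : Subgroup.centralizer (B : Set Ω))
        = ⟨l, hlM⟩ * ⟨l', hl'M⟩ * ⟨c₀, hBM c₀ hc₀⟩ :=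
      Subtype.ext hsl'
    have := congrArg π this
    rwa [map_mul, map_mul, map_inv, map_mul, map_mul, hπB c₀ hc₀, mul_one] at this
  have hord : orderOf (π ⟨l, hlM⟩) = p := by
    apply orderOf_eq_prime
    · rw [← map_pow, hπ]
      have : ((⟨l, hlM⟩ ^ p : Subgroup.centralizer (B : Set Ω)) : Ω) = 1 := by
        rw [Subgroup.coe_pow]; exact hlp
      rw [this]; exact B.one_mem
    · intro h
      rw [hπ] at h
      exact hlB h
  constructor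
  · rintro m n ⟨b, hb, h⟩
    have : (⟨l, hlM⟩ ^ m : Subgroup.centralizer (B : Set Ω)) = ⟨l, hlM⟩ ^ n * ⟨b, hBM b hb⟩ :=
      Subtype.ext h
    have := congrArg π this
    rw [map_mul, map_pow, map_pow, hπB b hb, mul_one, pow_eq_pow_iff_modEq, hord] at this
    exact this
  · intro mu a x lam₁ lam₂ c₃ c₁ c₂ c hc₃ hc₁ hc₂ hc' h
    have : ((⟨s, hsM⟩ ^ mu * (⟨l, hlM⟩ ^ a * ⟨c₃, hBM c₃ hc₃⟩)) *
        (⟨l, hlM⟩ ^ x * ⟨l', hl'M⟩ ^ lam₂ * ⟨c₂, hBM c₂ hc₂⟩) *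
        (⟨s, hsM⟩ ^ mu * (⟨l, hlM⟩ ^ a * ⟨c₃, hBM c₃ hc₃⟩))⁻¹ :
          Subgroup.centralizer (B : Set Ω))
        = (⟨l, hlM⟩ ^ lam₁ * ⟨c₁, hBM c₁ hc₁⟩) *
          (⟨l, hlM⟩ ^ x * ⟨l', hl'M⟩ ^ lam₂ * ⟨c₂, hBM c₂ hc₂⟩) * ⟨c, hBM c hc'⟩ :=
      Subtype.ext h
    have := congrArg π this
    simp only [map_mul, map_pow, map_inv, hπB c₃ hc₃, hπB c₂ hc₂, hπB c₁ hc₁, hπB c hc',
      mul_one] at this
    have key := r2end_quot (π ⟨l, hlM⟩) (π ⟨l', hl'M⟩) (π ⟨s, hsM⟩) mu a x lam₁ lam₂ hc hS hS'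
      this
    rw [pow_eq_pow_iff_modEq, hord] at key
    exact key

/-- Elements of `E` commuting with `l`. -/
theorem r2end_lemX {Ω : Type*} [Group Ω] (B E : Subgroup Ω) (p : ℕ) [Fact p.Prime]
    (l l' : Ω)
    (hdec : ∀ x ∈ E, ∃ i j : ℕ, ∃ c ∈ B, x = l ^ i * l' ^ j * c)
    (hBl : ∀ c ∈ B, c * l = l * c) (hBl' : ∀ c ∈ B, c * l' = l' * c)
    (hl'p : l' ^ p = 1)
    (hz : ⁅l, l'⁆ ∈ B) (hz1 : ⁅l, l'⁆ ≠ 1) :
    ∀ x ∈ E, x * l = l * x → ∃ a : ℕ, ∃ c ∈ B, x = l ^ a * c := by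
  have hp : p.Prime := Fact.out
  have hz' : ⁅l', l⁆ ∈ B := by
    rw [← commutatorElement_inv]; exact B.inv_mem hz
  have hz'1 : ⁅l', l⁆ ≠ 1 := by
    intro h
    apply hz1
    rw [← commutatorElement_inv, h, inv_one]
  have hcomm : Commute ⁅l', l⁆ l' := hBl' _ hz'
  have hord : orderOf ⁅l', l⁆ = p := by
    apply orderOf_eq_prime _ hz'1
    rw [← r2end_comm_pow l' l hcomm p, hl'p, commutatorElement_one_left]
  intro x hx hxl
  obtain ⟨i, j, c, hc, rfl⟩ := hdec x hx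
  have hcl : c * l = l * c := hBl c hc
  have h1 : l ^ i * (l' ^ j * l) * c = l ^ i * (l * l' ^ j) * c := by
    calc l ^ i * (l' ^ j * l) * c = l ^ i * l' ^ j * (l * c) := by group
      _ = l ^ i * l' ^ j * (c * l) := by rw [hcl]
      _ = l ^ i * l' ^ j * c * l := by group
      _ = l * (l ^ i * l' ^ j * c) := hxl
      _ = (l * l ^ i) * l' ^ j * c := by group
      _ = (l ^ i * l) * l' ^ j * c := by rw [← pow_succ, ← pow_succ']
      _ = l ^ i * (l * l' ^ j) * c := by group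
  have h2 : l' ^ j * l = l * l' ^ j := mul_left_cancel (mul_right_cancel h1)
  have h3 : ⁅l', l⁆ ^ j = 1 := by
    rw [← r2end_comm_pow l' l hcomm j, commutatorElement_eq_one_iff_commute]
    exact h2
  have h4 : p ∣ j := by
    rw [← hord]; exact orderOf_dvd_of_pow_eq_one h3
  obtain ⟨t, rfl⟩ := h4
  refine ⟨i, c, hc, ?_⟩
  rw [pow_mul, hl'p, one_pow, mul_one]

/-- Extracting a `p`-th root in an abelian `p`-group situation. -/
theorem r2end_root {Ω : Type*} [Group Ω] (B : Subgroup Ω) (p : ℕ) [Fact p.Prime]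
    (hBcomm : ∀ a ∈ B, ∀ b ∈ B, a * b = b * a)
    (c c₃ d : Ω) (hc : c ∈ B) (hc₃ : c₃ ∈ B) (hd : d ∈ B) (mu nu k : ℕ)
    (hck : c ^ (p ^ k) = 1) (hmn : ¬ (nu ≡ mu [MOD p]))
    (heq : c ^ mu * c₃ ^ p = c ^ nu * d ^ p) :
    ∃ d₁ ∈ B, c = d₁ ^ p := by
  have hp : p.Prime := Fact.out
  have hndvd : ¬ (p : ℤ) ∣ (mu : ℤ) - nu := by
    intro h
    exact hmn ((Nat.modEq_iff_dvd).mpr h)
  have hcop : IsCoprime ((p : ℤ) ^ k) ((mu : ℤ) - nu) :=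
    IsCoprime.pow_left (((Nat.prime_iff_prime_int.mp hp).coprime_iff_not_dvd).mpr hndvd)
  obtain ⟨u, v, huv⟩ := hcop
  -- c ^ (mu - nu) = (d * c₃⁻¹) ^ p
  have hdc : Commute d c₃⁻¹ := hBcomm d hd _ (B.inv_mem hc₃)
  have h1 : c ^ ((mu : ℤ) - nu) = (d * c₃⁻¹) ^ p := by
    have hcomm : Commute (c ^ nu) (d ^ p * (c₃ ^ p)⁻¹) :=
      hBcomm _ (B.pow_mem hc nu) _ (B.mul_mem (B.pow_mem hd p) (B.inv_mem (B.pow_mem hc₃ p)))
    have h2 : c ^ mu = c ^ nu * (d ^ p * (c₃ ^ p)⁻¹) := by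
      calc c ^ mu = c ^ mu * c₃ ^ p * (c₃ ^ p)⁻¹ := by group
        _ = c ^ nu * d ^ p * (c₃ ^ p)⁻¹ := by rw [heq]
        _ = c ^ nu * (d ^ p * (c₃ ^ p)⁻¹) := by group
    rw [zpow_sub, zpow_natCast, zpow_natCast, h2, hcomm.eq, mul_inv_cancel_right, hdc.mul_pow,
      inv_pow]
  have h3 : c = ((d * c₃⁻¹) ^ v) ^ p := by
    have hck' : c ^ ((p : ℤ) ^ k) = 1 := by
      have : ((p : ℤ) ^ k) = ((p ^ k : ℕ) : ℤ) := by push_cast; rfl
      rw [this, zpow_natCast, hck]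
    calc c = c ^ (1 : ℤ) := (zpow_one c).symm
      _ = c ^ (u * (p : ℤ) ^ k + v * ((mu : ℤ) - nu)) := by rw [huv]
      _ = (c ^ ((p : ℤ) ^ k)) ^ u * (c ^ ((mu : ℤ) - nu)) ^ v := by
          rw [zpow_add, zpow_mul', zpow_mul']
      _ = ((d * c₃⁻¹) ^ p) ^ v := by rw [hck', one_zpow, one_mul, h1]
      _ = ((d * c₃⁻¹) ^ v) ^ p := by
          rw [← zpow_natCast, ← zpow_mul, mul_comm, zpow_mul, zpow_natCast]
  exact ⟨(d * c₃⁻¹) ^ v, B.zpow_mem (B.mul_mem hd (B.inv_mem hc₃)) v, h3⟩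

/-- An elementary abelian subgroup of order at least `p ^ 3`: the counting. -/
theorem r2end_count {Ω : Type*} [Group Ω] {S : Subgroup Ω} [Finite S] (p : ℕ) [Fact p.Prime]
    (hS : IsPGroup p S) (T E B : Subgroup Ω) (hTS : T ≤ S)
    (z l s₂ : Ω) (hzT : z ∈ T) (hlT : l ∈ T) (hs₂T : s₂ ∈ T)
    (hzB : z ∈ B) (hBE : B ≤ E) (hlE : l ∈ E) (hlB : l ∉ B) (hs₂E : s₂ ∉ E)
    (hzord : orderOf z = p) : p ^ 2 < Nat.card T := by
  have hp : p.Prime := Fact.out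
  have hfin : ∀ H : Subgroup Ω, H ≤ S → Finite H := fun H h =>
    Finite.of_injective _ (Subgroup.inclusion_injective h)
  have := hfin T hTS
  have := hfin (T ⊓ E) (inf_le_left.trans hTS)
  obtain ⟨N, hN⟩ := hS.exists_card_eq
  obtain ⟨n, -, hn⟩ := (Nat.dvd_prime_pow hp).mp (hN ▸ Subgroup.card_dvd_of_le hTS)
  obtain ⟨m, -, hm⟩ := (Nat.dvd_prime_pow hp).mp
    (hn ▸ Subgroup.card_dvd_of_le (inf_le_left : T ⊓ E ≤ T))
  have hZ₁ : Subgroup.zpowers z ≤ T ⊓ E := by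
    rw [Subgroup.zpowers_le]
    exact ⟨hzT, hBE hzB⟩
  have hcardZ₁ : Nat.card (Subgroup.zpowers z) = p := by
    rw [Nat.card_zpowers, hzord]
  have hm1 : 1 < m := by
    have hdvd : p ∣ p ^ m := by
      rw [← hm, ← hcardZ₁]
      exact Subgroup.card_dvd_of_le hZ₁
    by_contra hlt
    have hm01 : m = 0 ∨ m = 1 := by omega
    rcases hm01 with rfl | rfl
    · rw [pow_zero] at hdvd
      exact hp.one_lt.ne' (Nat.dvd_one.mp hdvd)
    · rw [pow_one] at hm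
      have := Subgroup.eq_of_le_of_card_ge hZ₁ (by rw [hm, hcardZ₁])
      have hl2 : l ∈ Subgroup.zpowers z := by
        rw [this]; exact ⟨hlT, hlE⟩
      have hle : Subgroup.zpowers z ≤ B := by
        rw [Subgroup.zpowers_le]; exact hzB
      exact hlB (hle hl2)
  have hmn : m < n := by
    by_contra hle
    have hcard : Nat.card T ≤ Nat.card (T ⊓ E : Subgroup Ω) := by
      rw [hn, hm]
      exact Nat.pow_le_pow_right hp.pos (by omega)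
    have := Subgroup.eq_of_le_of_card_ge (inf_le_left : T ⊓ E ≤ T) hcard
    have hs2 : s₂ ∈ T ⊓ E := by rw [this]; exact hs₂T
    exact hs₂E hs2.2
  rw [hn]
  exact Nat.pow_lt_pow_right hp.one_lt (by omega)

theorem r2_endgame {Ω : Type*} [Group Ω] {S : Subgroup Ω} [Finite S] (p : ℕ) [Fact p.Prime] (hp2 : p ≠ 2)
    (hS : IsPGroup p S)
    (hrank3 : ∀ E' : Subgroup Ω, E' ≤ S → Cfsg.IsElementaryAbelian p E' → Nat.card E' ≤ p ^ 2)
    (E B : Subgroup Ω) (hES : E ≤ S) (hBE : B ≤ E)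
    (l l' s ŝ : Ω) (hl : l ∈ E) (hl' : l' ∈ E) (hs : s ∈ S) (hsE : s ∉ E) (hsp : s ^ p ∈ E)
    (hdec : ∀ x ∈ E, ∃ i j : ℕ, ∃ c ∈ B, x = l ^ i * l' ^ j * c)
    (hBcomm : ∀ a ∈ B, ∀ b ∈ B, a * b = b * a)
    (hBl : ∀ c ∈ B, c * l = l * c) (hBl' : ∀ c ∈ B, c * l' = l' * c)
    (hBs : ∀ c ∈ B, c * s = s * c) (hls : l * s = s * l)
    (hlp : l ^ p = 1) (hl'p : l' ^ p = 1)
    (hz : ⁅l, l'⁆ ∈ B) (hz1 : ⁅l, l'⁆ ≠ 1) (hlB : l ∉ B)
    (hsl' : ∃ c₀ ∈ B, s * l' * s⁻¹ = l * l' * c₀)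
    (hŝ : ŝ ∈ S) (mu : ℕ) (e₁ : Ω) (he₁ : e₁ ∈ E) (hŝe : ŝ = s ^ mu * e₁)
    (lam₁ lam₂ nu : ℕ) (L₁ L₂ : Ω)
    (hL₁ : ∃ c ∈ B, L₁ = l ^ lam₁ * c) (hL₂ : ∃ x : ℕ, ∃ c ∈ B, L₂ = l ^ x * l' ^ lam₂ * c)
    (hŝL₂ : ∃ c ∈ B, ŝ * L₂ * ŝ⁻¹ = L₁ * L₂ * c)
    (hŝL₁ : ŝ * L₁ = L₁ * ŝ) (hŝB : ∀ c ∈ B, ŝ * c = c * ŝ)
    (hpow : ∀ i : ℕ, ∀ c ∈ B, s ^ p = l ^ i * c →
      ∃ c' ∈ B, ŝ ^ p = l ^ (lam₁ * i) * c' ∧ (p ∣ i → ∃ d ∈ B, c' = c ^ nu * d ^ p))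
    (h1 : ¬ p ∣ lam₁) (h2 : ¬ p ∣ lam₂) (h3 : ¬ (lam₂ ≡ 1 [MOD p]))
    (h4 : ¬ (lam₁ ≡ nu * lam₂ [MOD p])) : False := by
  have hp : p.Prime := Fact.out
  have hX := r2end_lemX B E p l l' hdec hBl hBl' hl'p hz hz1
  obtain ⟨hZ, hM⟩ := r2end_mod_main B p hBcomm l l' s hBl hBl' hBs hls hlp hz hlB hsl'
  have hsl : Commute s l := hls.symm
  -- (1)
  obtain ⟨i, c, hc, hspic⟩ := hX (s ^ p) hsp ((hsl.pow_left p).eq)
  -- (3) ŝ commutes with l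
  obtain ⟨c₁, hc₁, rfl⟩ := hL₁
  have hŝl : Commute ŝ l := by
    have ha : Commute ŝ (l ^ lam₁) := by
      have h5 : Commute ŝ (l ^ lam₁ * c₁) := hŝL₁
      have h6 : Commute ŝ c₁⁻¹ := (show Commute ŝ c₁ from hŝB c₁ hc₁).inv_right
      have := h5.mul_right h6
      rwa [mul_inv_cancel_right] at this
    have hcop : Nat.Coprime lam₁ p := ((Nat.Prime.coprime_iff_not_dvd hp).mpr h1).symm
    obtain ⟨m, -, hm⟩ := Nat.exists_mul_mod_eq_one_of_coprime hcop hp.one_lt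
    have : l = (l ^ lam₁) ^ m := by
      rw [← pow_mul, pow_eq_pow_mod _ hlp, hm, pow_one]
    rw [this]
    exact ha.pow_right m
  have he₁l : e₁ * l = l * e₁ := by
    have h5 : e₁ = (s ^ mu)⁻¹ * ŝ := by rw [hŝe]; group
    have h6 : Commute ((s ^ mu)⁻¹) l := (hsl.pow_left mu).inv_left
    rw [h5]
    exact (h6.mul_left hŝl).eq
  obtain ⟨a, c₃, hc₃, he₁eq⟩ := hX e₁ he₁ he₁l
  -- (2)
  obtain ⟨x, c₂, hc₂, rfl⟩ := hL₂
  obtain ⟨c₄, hc₄, hrel⟩ := hŝL₂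
  have h2' : mu * lam₂ ≡ lam₁ [MOD p] := by
    apply hM mu a x lam₁ lam₂ c₃ c₁ c₂ c₄ hc₃ hc₁ hc₂ hc₄
    rw [← he₁eq, ← hŝe]
    exact hrel
  -- (4)
  have hsc₃ : Commute s c₃ := (hBs c₃ hc₃).symm
  have hlc : Commute l c := (hBl c hc).symm
  have hŝp : ŝ ^ p = l ^ (i * mu) * (c ^ mu * c₃ ^ p) := by
    have hcomm1 : Commute (s ^ mu) (l ^ a * c₃) :=
      ((hsl.pow_right a).mul_right hsc₃).pow_left mu
    have hcomm2 : Commute (l ^ a) c₃ := (show Commute l c₃ from (hBl c₃ hc₃).symm).pow_left a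
    have e1 : (s ^ mu) ^ p = l ^ (i * mu) * c ^ mu := by
      rw [← pow_mul, mul_comm mu p, pow_mul, hspic, (hlc.pow_left i).mul_pow, ← pow_mul]
    have e2 : (l ^ a) ^ p = 1 := by
      rw [← pow_mul, mul_comm a p, pow_mul, hlp, one_pow]
    rw [hŝe, he₁eq, hcomm1.mul_pow, hcomm2.mul_pow, e1, e2, one_mul, mul_assoc]
  obtain ⟨c', hc', hŝp', himp⟩ := hpow i c hc hspic
  have h4a : i * mu ≡ lam₁ * i [MOD p] := by
    apply hZ
    refine ⟨c' * (c ^ mu * c₃ ^ p)⁻¹,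
      B.mul_mem hc' (B.inv_mem (B.mul_mem (B.pow_mem hc mu) (B.pow_mem hc₃ p))), ?_⟩
    rw [← mul_assoc, ← hŝp', hŝp, mul_inv_cancel_right]
  -- modular arithmetic
  have e2 : ((mu : ZMod p) * lam₂ = lam₁) := by
    have := (ZMod.natCast_eq_natCast_iff _ _ _).mpr h2'
    push_cast at this
    exact this
  have e4 : ((i : ZMod p) * mu = lam₁ * i) := by
    have := (ZMod.natCast_eq_natCast_iff _ _ _).mpr h4a
    push_cast at this
    exact this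
  have hlam₁ : (lam₁ : ZMod p) ≠ 0 := by
    intro h
    exact h1 ((ZMod.natCast_eq_zero_iff _ _).mp h)
  have hi : p ∣ i := by
    by_contra hi
    have hi0 : (i : ZMod p) ≠ 0 := by
      intro h
      exact hi ((ZMod.natCast_eq_zero_iff _ _).mp h)
    have hmu : (mu : ZMod p) = lam₁ := by
      apply mul_left_cancel₀ hi0
      rw [e4, mul_comm]
    rw [hmu] at e2
    have : (lam₂ : ZMod p) = 1 := by
      apply mul_left_cancel₀ hlam₁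
      rw [e2, mul_one]
    apply h3
    rw [← ZMod.natCast_eq_natCast_iff]
    push_cast
    exact this
  have hmn : ¬ (nu ≡ mu [MOD p]) := by
    intro h
    apply h4
    rw [← ZMod.natCast_eq_natCast_iff]
    have := (ZMod.natCast_eq_natCast_iff _ _ _).mpr h
    push_cast
    rw [this, e2]
  -- (5)
  obtain ⟨d, hd, hc'eq⟩ := himp hi
  obtain ⟨t, rfl⟩ := hi
  have hli : l ^ (p * t) = 1 := by rw [pow_mul, hlp, one_pow]
  have hli2 : l ^ (p * t * mu) = 1 := by rw [mul_assoc, pow_mul, hlp, one_pow]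
  have hli3 : l ^ (lam₁ * (p * t)) = 1 := by
    rw [mul_comm, mul_assoc, pow_mul, hlp, one_pow]
  rw [hli2, one_mul] at hŝp
  rw [hli3, one_mul] at hŝp'
  rw [hli, one_mul] at hspic
  have heq : c ^ mu * c₃ ^ p = c ^ nu * d ^ p := by
    rw [← hŝp, hŝp', hc'eq]
  obtain ⟨k, hk⟩ := hS ⟨c, hES (hBE hc)⟩
  have hck : c ^ (p ^ k) = 1 := by
    have := congrArg Subtype.val hk
    simpa using this
  obtain ⟨d₁, hd₁, hcd₁⟩ := r2end_root B p hBcomm c c₃ d hc hc₃ hd mu nu k hck hmn heq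
  -- (6)
  have hsd₁ : Commute s d₁⁻¹ := (show Commute s d₁ from (hBs d₁ hd₁).symm).inv_right
  have hs₂p : (s * d₁⁻¹) ^ p = 1 := by
    rw [hsd₁.mul_pow, hspic, inv_pow, ← hcd₁, mul_inv_cancel]
  have hs₂E : s * d₁⁻¹ ∉ E := by
    intro h
    apply hsE
    have : s = s * d₁⁻¹ * d₁ := by group
    rw [this]
    exact E.mul_mem h (hBE hd₁)
  have hs₂S : s * d₁⁻¹ ∈ S := S.mul_mem hs (S.inv_mem (hES (hBE hd₁)))
  have hzl : Commute ⁅l, l'⁆ l := hBl _ hz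
  have hzp : ⁅l, l'⁆ ^ p = 1 := by
    rw [← r2end_comm_pow l l' hzl p, hlp, commutatorElement_one_left]
  have hzord : orderOf ⁅l, l'⁆ = p := orderOf_eq_prime hzp hz1
  have hs₂l : Commute (s * d₁⁻¹) l :=
    hsl.mul_left (show Commute d₁⁻¹ l from hBl _ (B.inv_mem hd₁))
  have hs₂z : Commute (s * d₁⁻¹) ⁅l, l'⁆ :=
    (show Commute s ⁅l, l'⁆ from (hBs _ hz).symm).mul_left
      (show Commute d₁⁻¹ ⁅l, l'⁆ from hBcomm _ (B.inv_mem hd₁) _ hz)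
  have hTcomm := r2wc_closure_comm ({s * d₁⁻¹, l, ⁅l, l'⁆} : Set Ω) (by
    intro x hx y hy
    rcases hx with rfl | rfl | rfl
    · rcases hy with rfl | rfl | rfl
      · rfl
      · exact hs₂l.eq
      · exact hs₂z.eq
    · rcases hy with rfl | rfl | rfl
      · exact hs₂l.eq.symm
      · rfl
      · exact hzl.eq.symm
    · rcases hy with rfl | rfl | rfl
      · exact hs₂z.eq.symm
      · exact hzl.eq
      · rfl)
  have hTexp : ∀ x ∈ Subgroup.closure ({s * d₁⁻¹, l, ⁅l, l'⁆} : Set Ω), x ^ p = 1 := by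
    intro x hx
    induction hx using Subgroup.closure_induction with
    | mem x hx =>
      rcases hx with rfl | rfl | rfl
      · exact hs₂p
      · exact hlp
      · exact hzp
    | one => exact one_pow p
    | mul x y hx hy ihx ihy =>
      rw [(show Commute x y from hTcomm x hx y hy).mul_pow, ihx, ihy, one_mul]
    | inv x _ ih => rw [inv_pow, ih, inv_one]
  have hTS : Subgroup.closure ({s * d₁⁻¹, l, ⁅l, l'⁆} : Set Ω) ≤ S := by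
    rw [Subgroup.closure_le]
    intro x hx
    rcases hx with rfl | rfl | rfl
    · exact hs₂S
    · exact hES hl
    · exact hES (hBE hz)
  have hEA : Cfsg.IsElementaryAbelian p (Subgroup.closure ({s * d₁⁻¹, l, ⁅l, l'⁆} : Set Ω)) :=
    ⟨⟨⟨fun a b => Subtype.ext (hTcomm a a.2 b b.2)⟩⟩, hTexp⟩
  have hle := hrank3 _ hTS hEA
  have hlt := r2end_count p hS (Subgroup.closure ({s * d₁⁻¹, l, ⁅l, l'⁆} : Set Ω)) E B hTS
    ⁅l, l'⁆ l (s * d₁⁻¹)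
    (Subgroup.subset_closure (by simp)) (Subgroup.subset_closure (by simp))
    (Subgroup.subset_closure (by simp)) hz hBE hl hlB hs₂E hzord
  omega

end Cfsg.Agent.Helper46
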