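import Mathlib

set_option autoImplicit false

namespace Cfsg.Agent.Helper46

open scoped Pointwise

variable {G : Type*} [Group G]

theorem dio_mem_conj_iff (T : Subgroup G) (y g : G) :
    g ∈ T.map (MulAut.conj y).toMonoidHom ↔ y⁻¹ * g * y ∈ T := by
  constructor
  · rintro ⟨t, ht, rfl⟩
    have : y⁻¹ * ((MulAut.conj y).toMonoidHom t) * y = t := by
      simp [MulAut.conj_apply, mul_assoc]
    rw [this]; exact ht
  · intro h
    exact ⟨_, h, by simp [MulAut.conj_apply, mul_assoc]⟩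

theorem dio_card_conj (T : Subgroup G) (y : G) :
    Nat.card (T.map (MulAut.conj y).toMonoidHom) = Nat.card T :=
  Subgroup.card_map_of_injective (MulAut.conj y).injective

theorem dio_cyclic_conj (T : Subgroup G) (hc : IsCyclic T) (y : G) :
    IsCyclic (T.map (MulAut.conj y).toMonoidHom) :=
  (MulEquiv.isCyclic (T.equivMapOfInjective _ (MulAut.conj y).injective)).mp hc

/-- the TI-selfcentralising property passes to conjugates -/
theorem dio_TI_conj (T : Subgroup G)
    (hTI : ∀ y ∈ T, y ≠ 1 → ∀ c : G, c * y = y * c → c ∈ T) (z : G) :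
    ∀ y ∈ T.map (MulAut.conj z).toMonoidHom, y ≠ 1 → ∀ c : G, c * y = y * c →
      c ∈ T.map (MulAut.conj z).toMonoidHom := by
  intro y hy hy1 c hc
  rw [dio_mem_conj_iff] at hy ⊢
  refine hTI _ hy ?_ _ ?_
  · intro h
    apply hy1
    have e : y = z * (z⁻¹ * y * z) * z⁻¹ := by group
    rw [e, h]; group
  · have e : z⁻¹ * c * z * (z⁻¹ * y * z) = z⁻¹ * (c * y) * z := by group
    rw [e, hc]; group

/-- two cyclic TI-selfcentralising subgroups sharing a nontrivial element are equal -/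
theorem dio_eq_of_common (T T' : Subgroup G) (hc : IsCyclic T) (hc' : IsCyclic T')
    (hTI : ∀ y ∈ T, y ≠ 1 → ∀ c : G, c * y = y * c → c ∈ T)
    (hTI' : ∀ y ∈ T', y ≠ 1 → ∀ c : G, c * y = y * c → c ∈ T')
    (y : G) (hy : y ∈ T) (hy' : y ∈ T') (hy1 : y ≠ 1) : T = T' := by
  have comm : ∀ (U : Subgroup G), IsCyclic U → ∀ a ∈ U, ∀ b ∈ U, a * b = b * a := by
    intro U hU a ha b hb
    let _ := hU.commGroup
    have := mul_comm (⟨a, ha⟩ : U) ⟨b, hb⟩
    exact congrArg Subtype.val this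
  apply le_antisymm
  · intro t ht
    exact hTI' y hy' hy1 t (comm T hc t ht y hy)
  · intro t ht
    exact hTI y hy hy1 t (comm T' hc' t ht y hy')

/-- a TI-selfcentralising subgroup contains a Sylow `p`-subgroup for every prime `p` dividing its
order -/
theorem dio_sylow_le [Finite G] (T : Subgroup G)
    (hTI : ∀ y ∈ T, y ≠ 1 → ∀ c : G, c * y = y * c → c ∈ T) {p : ℕ} [hp : Fact p.Prime]
    (hpT : p ∣ Nat.card T) : ∃ P : Sylow p G, (P : Subgroup G) ≤ T := by
  obtain ⟨z, hz⟩ := exists_prime_orderOf_dvd_card' p hpT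
  have hz1 : (z : G) ≠ 1 := by
    intro h
    have : z = 1 := Subtype.ext h
    rw [this, orderOf_one] at hz
    exact hp.out.one_lt.ne hz
  have hzo : orderOf (z : G) = p := by rw [Subgroup.orderOf_coe, hz]
  have hzp : IsPGroup p (Subgroup.zpowers (z : G)) := by
    apply IsPGroup.of_card (n := 1)
    rw [Nat.card_zpowers, hzo, pow_one]
  obtain ⟨P, hP⟩ := hzp.exists_le_sylow
  have hzP : (z : G) ∈ P := hP (Subgroup.mem_zpowers _)
  have : Nontrivial P := ⟨⟨⟨z, hzP⟩, 1, fun h => hz1 (congrArg Subtype.val h)⟩⟩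
  have hcen : Nontrivial (Subgroup.center P) := P.isPGroup'.center_nontrivial
  obtain ⟨c, hc1⟩ := exists_ne (1 : Subgroup.center P)
  have hcc : ((c : P) : G) ≠ 1 := by
    intro h
    apply hc1
    apply Subtype.ext
    apply Subtype.ext
    exact h
  have hcz : ((c : P) : G) * z = z * ((c : P) : G) := by
    have := Subgroup.mem_center_iff.mp c.2 ⟨z, hzP⟩
    exact (congrArg Subtype.val this).symm
  have hcT : ((c : P) : G) ∈ T := hTI z z.2 hz1 _ hcz
  refine ⟨P, fun g hg => hTI _ hcT hcc g ?_⟩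
  have := Subgroup.mem_center_iff.mp c.2 ⟨g, hg⟩
  exact congrArg Subtype.val this

/-- two cyclic TI-selfcentralising subgroups whose orders share a prime are conjugate -/
theorem dio_conj_of_prime [Finite G] (T T' : Subgroup G) (hc : IsCyclic T) (hc' : IsCyclic T')
    (hTI : ∀ y ∈ T, y ≠ 1 → ∀ c : G, c * y = y * c → c ∈ T)
    (hTI' : ∀ y ∈ T', y ≠ 1 → ∀ c : G, c * y = y * c → c ∈ T')
    {p : ℕ} (hp : p.Prime) (h : p ∣ Nat.card T) (h' : p ∣ Nat.card T') :
    ∃ z : G, T' = T.map (MulAut.conj z).toMonoidHom := by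
  have := Fact.mk hp
  obtain ⟨P, hP⟩ := dio_sylow_le T hTI h
  obtain ⟨P', hP'⟩ := dio_sylow_le T' hTI' h'
  obtain ⟨z, hz⟩ := MulAction.exists_smul_eq G P P'
  have hP'ne : (P' : Subgroup G) ≠ ⊥ :=
    Sylow.ne_bot_of_dvd_card P' (h'.trans (Subgroup.card_subgroup_dvd_card T'))
  obtain ⟨y, hy1⟩ := (Subgroup.ne_bot_iff_exists_ne_one).mp hP'ne
  have hy1' : (y : G) ≠ 1 := fun h => hy1 (Subtype.ext h)
  refine ⟨z, dio_eq_of_common T' _ hc' (dio_cyclic_conj T hc z) hTI' (dio_TI_conj T hTI z) y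
    (hP' y.2) ?_ hy1'⟩
  have hyz : (y : G) ∈ ((z • P : Sylow p G) : Subgroup G) := by rw [hz]; exact y.2
  rw [Sylow.coe_subgroup_smul] at hyz
  obtain ⟨s, hs, hsy⟩ := (Subgroup.mem_smul_pointwise_iff_exists _ _ _).mp hyz
  rw [dio_mem_conj_iff, ← hsy, MulAut.smul_def, MulAut.conj_apply]
  have e : z⁻¹ * (z * s * z⁻¹) * z = s := by group
  rw [e]; exact hP hs

end Cfsg.Agent.Helper46
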