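import Mathlib
import Cfsg.Agent.Helper46.Ree1158A

set_option autoImplicit false

namespace Cfsg.Agent.Helper46

variable {G : Type*} [Group G]

/-- the nontrivial elements conjugate into `T` -/
def dioXT (T : Subgroup G) : Set G := {g : G | g ≠ 1 ∧ ∃ y : G, y * g * y⁻¹ ∈ T}

/-- the nontrivial elements lying in some cyclic TI-selfcentralising subgroup of order dividing
`n` -/
def dioX (n : ℕ) : Set G := {g : G | g ≠ 1 ∧ ∃ T : Subgroup G, IsCyclic T ∧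
    (∀ y ∈ T, y ≠ 1 → ∀ c : G, c * y = y * c → c ∈ T) ∧ Nat.card T ∣ n ∧ g ∈ T}

theorem dioXT_subset (n : ℕ) (T : Subgroup G) (hc : IsCyclic T)
    (hTI : ∀ y ∈ T, y ≠ 1 → ∀ c : G, c * y = y * c → c ∈ T) (hn : Nat.card T ∣ n) :
    dioXT T ⊆ dioX (G := G) n := by
  rintro g ⟨hg1, y, hy⟩
  refine ⟨hg1, T.map (MulAut.conj y⁻¹).toMonoidHom, dio_cyclic_conj T hc _,
    dio_TI_conj T hTI _, ?_, ?_⟩
  · rw [dio_card_conj]; exact hn
  · rw [dio_mem_conj_iff]; simpa using hy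

theorem dioXT_disjoint (T₁ T₂ : Subgroup G) (hc₁ : IsCyclic T₁) (hc₂ : IsCyclic T₂)
    (hTI₁ : ∀ y ∈ T₁, y ≠ 1 → ∀ c : G, c * y = y * c → c ∈ T₁)
    (hTI₂ : ∀ y ∈ T₂, y ≠ 1 → ∀ c : G, c * y = y * c → c ∈ T₂)
    (hne : Nat.card T₁ ≠ Nat.card T₂) : Disjoint (dioXT T₁) (dioXT T₂) := by
  rw [Set.disjoint_left]
  rintro g ⟨hg1, y₁, hy₁⟩ ⟨-, y₂, hy₂⟩
  apply hne
  have e := dio_eq_of_common (T₁.map (MulAut.conj y₁⁻¹).toMonoidHom)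
    (T₂.map (MulAut.conj y₂⁻¹).toMonoidHom)
    (dio_cyclic_conj T₁ hc₁ _) (dio_cyclic_conj T₂ hc₂ _) (dio_TI_conj T₁ hTI₁ _)
    (dio_TI_conj T₂ hTI₂ _) g
    (by rw [dio_mem_conj_iff]; simpa using hy₁) (by rw [dio_mem_conj_iff]; simpa using hy₂) hg1
  rw [← dio_card_conj T₁ y₁⁻¹, ← dio_card_conj T₂ y₂⁻¹, e]

theorem dio_mem_XT_of_prime [Finite G] (T₁ T : Subgroup G) (hc₁ : IsCyclic T₁) (hc : IsCyclic T)
    (hTI₁ : ∀ y ∈ T₁, y ≠ 1 → ∀ c : G, c * y = y * c → c ∈ T₁)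
    (hTI : ∀ y ∈ T, y ≠ 1 → ∀ c : G, c * y = y * c → c ∈ T)
    {p : ℕ} (hp : p.Prime) (h₁ : p ∣ Nat.card T₁) (h : p ∣ Nat.card T)
    (g : G) (hg : g ∈ T) (hg1 : g ≠ 1) : g ∈ dioXT T₁ := by
  obtain ⟨z, hz⟩ := dio_conj_of_prime T₁ T hc₁ hc hTI₁ hTI hp h₁ h
  rw [hz, dio_mem_conj_iff] at hg
  exact ⟨hg1, z⁻¹, by simpa using hg⟩

theorem dio_mem_normalizer (T : Subgroup G) (hc : IsCyclic T)
    (hTI : ∀ y ∈ T, y ≠ 1 → ∀ c : G, c * y = y * c → c ∈ T) :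
    ∀ g ∈ T, g ≠ 1 → ∀ y : G, y * g * y⁻¹ ∈ T → y ∈ Subgroup.normalizer (T : Set G) := by
  intro g hg hg1 y hy
  have e : T.map (MulAut.conj y).toMonoidHom = T := by
    refine dio_eq_of_common _ T (dio_cyclic_conj T hc y) hc (dio_TI_conj T hTI y) hTI
      (y * g * y⁻¹) ?_ hy ?_
    · rw [dio_mem_conj_iff]
      have e : y⁻¹ * (y * g * y⁻¹) * y = g := by group
      rw [e]; exact hg
    · intro h
      apply hg1
      have e : g = y⁻¹ * (y * g * y⁻¹) * y := by group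
      rw [e, h]; group
  rw [Subgroup.mem_normalizer_iff]
  intro h
  constructor
  · intro hh
    rw [← e, dio_mem_conj_iff]
    have e2 : y⁻¹ * (y * h * y⁻¹) * y = h := by group
    rw [e2]; exact hh
  · intro hh
    rw [← e, dio_mem_conj_iff] at hh
    have e2 : y⁻¹ * (y * h * y⁻¹) * y = h := by group
    rwa [e2] at hh

theorem dio_card_XT [Finite G] (T : Subgroup G) (hc : IsCyclic T)
    (hTI : ∀ y ∈ T, y ≠ 1 → ∀ c : G, c * y = y * c → c ∈ T) :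
    (dioXT T).ncard * Nat.card (Subgroup.normalizer (T : Set G)) =
      Nat.card G * (Nat.card T - 1) := by
  classical
  have hM := dio_mem_normalizer T hc hTI
  have hB : ((T : Set G) \ {1}).ncard = Nat.card T - 1 := by
    rw [Set.ncard_sdiff_singleton_of_mem (one_mem T)]
    rfl
  rw [← hB, ← Nat.card_coe_set_eq, ← Nat.card_coe_set_eq, ← Nat.card_prod,
    ← Nat.card_prod]
  have hch : ∀ g : dioXT T, ∃ y : G, y * (g : G) * y⁻¹ ∈ T := fun g => g.2.2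
  choose Y hY using hch
  apply Nat.card_congr
  refine Equiv.ofBijective (fun a => (((a.2 : G) * Y a.1),
    ⟨(a.2 : G) * Y a.1 * (a.1 : G) * ((a.2 : G) * Y a.1)⁻¹, ?_, ?_⟩)) ⟨?_, ?_⟩
  · have h1 := (Subgroup.mem_normalizer_iff.mp a.2.2 _).mp (hY a.1)
    have e : (a.2 : G) * Y a.1 * (a.1 : G) * ((a.2 : G) * Y a.1)⁻¹ =
        (a.2 : G) * (Y a.1 * (a.1 : G) * (Y a.1)⁻¹) * (a.2 : G)⁻¹ := by group
    rw [e]; exact h1
  · intro h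
    have h' : (a.2 : G) * Y a.1 * (a.1 : G) * ((a.2 : G) * Y a.1)⁻¹ = 1 := h
    apply a.1.2.1
    have e : (a.1 : G) = ((a.2 : G) * Y a.1)⁻¹ *
        ((a.2 : G) * Y a.1 * (a.1 : G) * ((a.2 : G) * Y a.1)⁻¹) * ((a.2 : G) * Y a.1) := by group
    rw [e, h']; group
  · rintro ⟨g, ν⟩ ⟨g', ν'⟩ h
    have h1 : (ν : G) * Y g = (ν' : G) * Y g' := congrArg Prod.fst h
    have h2 : (ν : G) * Y g * (g : G) * ((ν : G) * Y g)⁻¹ =
        (ν' : G) * Y g' * (g' : G) * ((ν' : G) * Y g')⁻¹ := congrArg (fun x => (x.2 : G)) h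
    rw [← h1] at h2
    have hg : (g : G) = g' := by
      have := mul_right_cancel h2
      exact mul_left_cancel this
    have hg' : g = g' := Subtype.ext hg
    subst hg'
    have hν : (ν : G) = ν' := mul_right_cancel h1
    rw [Subtype.ext hν]
  · rintro ⟨y, s, hs, hs1⟩
    have hg1 : y⁻¹ * s * y ≠ 1 := by
      intro h
      apply hs1
      have e : s = y * (y⁻¹ * s * y) * y⁻¹ := by group
      rw [e, h]; simp
    have hgX : y⁻¹ * s * y ∈ dioXT T := by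
      refine ⟨hg1, y, ?_⟩
      have e : y * (y⁻¹ * s * y) * y⁻¹ = s := by group
      rw [e]; exact hs
    have hν : y * (Y ⟨_, hgX⟩)⁻¹ ∈ Subgroup.normalizer (T : Set G) := by
      refine hM _ (hY ⟨_, hgX⟩) ?_ _ ?_
      · intro h
        apply hg1
        have e : y⁻¹ * s * y = (Y ⟨_, hgX⟩)⁻¹ *
            (Y ⟨_, hgX⟩ * (y⁻¹ * s * y) * (Y ⟨_, hgX⟩)⁻¹) * Y ⟨_, hgX⟩ := by group
        rw [e, h]; group
      · have e : y * (Y ⟨_, hgX⟩)⁻¹ * (Y ⟨_, hgX⟩ * (y⁻¹ * s * y) * (Y ⟨_, hgX⟩)⁻¹) *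
            (y * (Y ⟨_, hgX⟩)⁻¹)⁻¹ = s := by group
        rw [e]; exact hs
    refine ⟨(⟨_, hgX⟩, ⟨_, hν⟩), ?_⟩
    apply Prod.ext
    · show y * (Y ⟨_, hgX⟩)⁻¹ * Y ⟨_, hgX⟩ = y
      group
    · apply Subtype.ext
      show y * (Y ⟨_, hgX⟩)⁻¹ * Y ⟨_, hgX⟩ * (y⁻¹ * s * y) * (y * (Y ⟨_, hgX⟩)⁻¹ * Y ⟨_, hgX⟩)⁻¹ = s
      group

end Cfsg.Agent.Helper46
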