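import Mathlib
import Cfsg.Agent.Helper46.Ree1158B

set_option autoImplicit false

namespace Cfsg.Agent.Helper46

variable {G : Type*} [Group G]

theorem dio_exists_prime {n c : ℕ} (hn : n ≠ 0) (hc : c ∣ n) (hne : c ≠ n)
    (hv : ∀ p : ℕ, p.Prime → p ∣ c → c.factorization p = n.factorization p) :
    ∃ p : ℕ, p.Prime ∧ p ∣ n ∧ ¬ p ∣ c := by
  by_contra hcon
  apply hne
  have hc0 : c ≠ 0 := fun h => hn (by rw [h] at hc; exact zero_dvd_iff.mp hc)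
  apply Nat.eq_of_factorization_eq hc0 hn
  intro p
  by_cases hp : p.Prime
  · by_cases hpn : p ∣ n
    · by_cases hpc : p ∣ c
      · exact hv p hp hpc
      · exact absurd ⟨p, hp, hpn, hpc⟩ hcon
    · have hpc : ¬ p ∣ c := fun h => hpn (h.trans hc)
      rw [Nat.factorization_eq_zero_of_not_dvd hpc, Nat.factorization_eq_zero_of_not_dvd hpn]
  · rw [Nat.factorization_eq_zero_of_not_prime _ hp, Nat.factorization_eq_zero_of_not_prime _ hp]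

theorem dio_factorization [Finite G] (n : ℕ) (hnG : n ∣ Nat.card G) (T : Subgroup G)
    (hTI : ∀ y ∈ T, y ≠ 1 → ∀ c : G, c * y = y * c → c ∈ T) (hTn : Nat.card T ∣ n)
    {p : ℕ} (hp : p.Prime) (hpT : p ∣ Nat.card T) :
    (Nat.card T).factorization p = n.factorization p := by
  have := Fact.mk hp
  obtain ⟨P, hP⟩ := dio_sylow_le T hTI hpT
  have h1 : p ^ (Nat.card G).factorization p ∣ Nat.card T := by
    rw [← Sylow.card_eq_multiplicity P]; exact Subgroup.card_dvd_of_le hP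
  have hT0 : Nat.card T ≠ 0 := Nat.card_pos.ne'
  have hn0 : n ≠ 0 := fun h => by
    rw [h] at hnG; exact Nat.card_pos.ne' (zero_dvd_iff.mp hnG)
  have h2 : (Nat.card G).factorization p ≤ (Nat.card T).factorization p :=
    (hp.pow_dvd_iff_le_factorization hT0).mp h1
  have h3 : (Nat.card T).factorization p ≤ n.factorization p :=
    (Nat.factorization_le_iff_dvd hT0 hn0).mpr hTn p
  have h4 : n.factorization p ≤ (Nat.card G).factorization p :=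
    (Nat.factorization_le_iff_dvd hn0 Nat.card_pos.ne').mpr hnG p
  omega

theorem dio_ne_bot_of_prime (T : Subgroup G) {p : ℕ} (hp : p.Prime) (h : p ∣ Nat.card T) :
    T ≠ ⊥ := by
  rintro rfl
  rw [Subgroup.card_bot] at h
  exact hp.one_lt.ne' (Nat.dvd_one.mp h)

theorem dio_exists_prime_of_mem [Finite G] (T : Subgroup G) (g : G) (hg : g ∈ T) (hg1 : g ≠ 1) :
    ∃ p : ℕ, p.Prime ∧ p ∣ Nat.card T := by
  apply Nat.exists_prime_and_dvd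
  intro h
  have hT := Subgroup.eq_bot_of_card_eq T h
  rw [hT] at hg
  exact hg1 (Subgroup.mem_bot.mp hg)

/-- one, two, or at least three classes -/
theorem dio_trichotomy [Finite G] (n : ℕ) (hn1 : 1 < n) (hnG : n ∣ Nat.card G)
    (hex : ∀ p : ℕ, p.Prime → p ∣ n →
      ∃ T : Subgroup G, IsCyclic T ∧ (∀ y ∈ T, y ≠ 1 → ∀ c : G, c * y = y * c → c ∈ T) ∧
        Nat.card T ∣ n ∧ p ∣ Nat.card T) :
    (∃ T₁ : Subgroup G, IsCyclic T₁ ∧ (∀ y ∈ T₁, y ≠ 1 → ∀ c : G, c * y = y * c → c ∈ T₁) ∧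
        T₁ ≠ ⊥ ∧ Nat.card T₁ = n ∧ dioX (G := G) n = dioXT T₁) ∨
    (∃ T₁ T₂ : Subgroup G,
        (IsCyclic T₁ ∧ (∀ y ∈ T₁, y ≠ 1 → ∀ c : G, c * y = y * c → c ∈ T₁) ∧ T₁ ≠ ⊥) ∧
        (IsCyclic T₂ ∧ (∀ y ∈ T₂, y ≠ 1 → ∀ c : G, c * y = y * c → c ∈ T₂) ∧ T₂ ≠ ⊥) ∧
        Nat.card T₁ * Nat.card T₂ = n ∧ dioX (G := G) n = dioXT T₁ ∪ dioXT T₂ ∧
        Disjoint (dioXT T₁) (dioXT T₂) ∧
        ∀ T : Subgroup G, IsCyclic T → T ≠ ⊥ →
          (∀ y ∈ T, y ≠ 1 → ∀ c : G, c * y = y * c → c ∈ T) → Nat.card T ∣ n →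
          Nat.card T = Nat.card T₁ ∨ Nat.card T = Nat.card T₂) ∨
    (∃ T₁ T₂ T₃ : Subgroup G,
        (IsCyclic T₁ ∧ (∀ y ∈ T₁, y ≠ 1 → ∀ c : G, c * y = y * c → c ∈ T₁) ∧ T₁ ≠ ⊥ ∧
          Nat.card T₁ ∣ n) ∧
        (IsCyclic T₂ ∧ (∀ y ∈ T₂, y ≠ 1 → ∀ c : G, c * y = y * c → c ∈ T₂) ∧ T₂ ≠ ⊥ ∧
          Nat.card T₂ ∣ n) ∧
        (IsCyclic T₃ ∧ (∀ y ∈ T₃, y ≠ 1 → ∀ c : G, c * y = y * c → c ∈ T₃) ∧ T₃ ≠ ⊥ ∧
          Nat.card T₃ ∣ n) ∧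
        Disjoint (dioXT T₁) (dioXT T₂) ∧ Disjoint (dioXT T₁) (dioXT T₃) ∧
        Disjoint (dioXT T₂) (dioXT T₃)) := by
  have hn0 : n ≠ 0 := by omega
  obtain ⟨p₁, hp₁, hp₁n⟩ := Nat.exists_prime_and_dvd (by omega : n ≠ 1)
  obtain ⟨T₁, hc₁, hTI₁, hn₁, hpT₁⟩ := hex p₁ hp₁ hp₁n
  have hb₁ := dio_ne_bot_of_prime T₁ hp₁ hpT₁
  by_cases h1 : Nat.card T₁ = n
  · left
    refine ⟨T₁, hc₁, hTI₁, hb₁, h1, ?_⟩
    apply Set.Subset.antisymm
    · rintro g ⟨hg1, T, hc, hTI, hTn, hgT⟩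
      obtain ⟨p, hp, hpT⟩ := dio_exists_prime_of_mem T g hgT hg1
      exact dio_mem_XT_of_prime T₁ T hc₁ hc hTI₁ hTI hp (h1 ▸ hpT.trans hTn) hpT g hgT hg1
    · exact dioXT_subset n T₁ hc₁ hTI₁ hn₁
  · right
    obtain ⟨p₂, hp₂, hp₂n, hp₂c⟩ := dio_exists_prime hn0 hn₁ h1
      (fun p hp hpc => dio_factorization n hnG T₁ hTI₁ hn₁ hp hpc)
    obtain ⟨T₂, hc₂, hTI₂, hn₂, hpT₂⟩ := hex p₂ hp₂ hp₂n
    have hb₂ := dio_ne_bot_of_prime T₂ hp₂ hpT₂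
    have hne12 : Nat.card T₁ ≠ Nat.card T₂ := fun h => hp₂c (h ▸ hpT₂)
    have hcop : Nat.Coprime (Nat.card T₁) (Nat.card T₂) := by
      apply Nat.coprime_of_dvd
      intro p hp hp1 hp2
      obtain ⟨z, hz⟩ := dio_conj_of_prime T₁ T₂ hc₁ hc₂ hTI₁ hTI₂ hp hp1 hp2
      apply hne12
      rw [hz, dio_card_conj]
    have hd12 := dioXT_disjoint T₁ T₂ hc₁ hc₂ hTI₁ hTI₂ hne12
    by_cases h2 : Nat.card T₁ * Nat.card T₂ = n
    · left
      refine ⟨T₁, T₂, ⟨hc₁, hTI₁, hb₁⟩, ⟨hc₂, hTI₂, hb₂⟩, h2, ?_, hd12, ?_⟩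
      · apply Set.Subset.antisymm
        · rintro g ⟨hg1, T, hc, hTI, hTn, hgT⟩
          obtain ⟨p, hp, hpT⟩ := dio_exists_prime_of_mem T g hgT hg1
          have hpn : p ∣ Nat.card T₁ * Nat.card T₂ := h2 ▸ hpT.trans hTn
          rcases (Nat.Prime.dvd_mul hp).mp hpn with h | h
          · exact Or.inl (dio_mem_XT_of_prime T₁ T hc₁ hc hTI₁ hTI hp h hpT g hgT hg1)
          · exact Or.inr (dio_mem_XT_of_prime T₂ T hc₂ hc hTI₂ hTI hp h hpT g hgT hg1)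
        · exact Set.union_subset (dioXT_subset n T₁ hc₁ hTI₁ hn₁)
            (dioXT_subset n T₂ hc₂ hTI₂ hn₂)
      · intro T hc hb hTI hTn
        obtain ⟨p, hp, hpT⟩ := Nat.exists_prime_and_dvd
          (fun h => hb (Subgroup.eq_bot_of_card_eq T h))
        have hpn : p ∣ Nat.card T₁ * Nat.card T₂ := h2 ▸ hpT.trans hTn
        rcases (Nat.Prime.dvd_mul hp).mp hpn with h | h
        · obtain ⟨z, hz⟩ := dio_conj_of_prime T₁ T hc₁ hc hTI₁ hTI hp h hpT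
          left; rw [hz, dio_card_conj]
        · obtain ⟨z, hz⟩ := dio_conj_of_prime T₂ T hc₂ hc hTI₂ hTI hp h hpT
          right; rw [hz, dio_card_conj]
    · right
      have hT₁0 : Nat.card T₁ ≠ 0 := Nat.card_pos.ne'
      have hT₂0 : Nat.card T₂ ≠ 0 := Nat.card_pos.ne'
      obtain ⟨p₃, hp₃, hp₃n, hp₃c⟩ := dio_exists_prime hn0
        (hcop.mul_dvd_of_dvd_of_dvd hn₁ hn₂) h2 (by
          intro p hp hpc
          rw [Nat.factorization_mul hT₁0 hT₂0, Finsupp.add_apply]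
          rcases (Nat.Prime.dvd_mul hp).mp hpc with h | h
          · have hn2 : ¬ p ∣ Nat.card T₂ := by
              intro h'
              have h3 := Nat.dvd_gcd h h'
              rw [hcop.gcd_eq_one] at h3
              exact hp.one_lt.ne' (Nat.dvd_one.mp h3)
            rw [dio_factorization n hnG T₁ hTI₁ hn₁ hp h,
              Nat.factorization_eq_zero_of_not_dvd hn2, add_zero]
          · have hn1 : ¬ p ∣ Nat.card T₁ := by
              intro h'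
              have h3 := Nat.dvd_gcd h' h
              rw [hcop.gcd_eq_one] at h3
              exact hp.one_lt.ne' (Nat.dvd_one.mp h3)
            rw [dio_factorization n hnG T₂ hTI₂ hn₂ hp h,
              Nat.factorization_eq_zero_of_not_dvd hn1, zero_add])
      obtain ⟨T₃, hc₃, hTI₃, hn₃, hpT₃⟩ := hex p₃ hp₃ hp₃n
      have hb₃ := dio_ne_bot_of_prime T₃ hp₃ hpT₃
      have hne13 : Nat.card T₁ ≠ Nat.card T₃ :=
        fun h => hp₃c (Dvd.dvd.mul_right (h ▸ hpT₃) _)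
      have hne23 : Nat.card T₂ ≠ Nat.card T₃ :=
        fun h => hp₃c (Dvd.dvd.mul_left (h ▸ hpT₃) _)
      exact ⟨T₁, T₂, T₃, ⟨hc₁, hTI₁, hb₁, hn₁⟩, ⟨hc₂, hTI₂, hb₂, hn₂⟩, ⟨hc₃, hTI₃, hb₃, hn₃⟩,
        hd12, dioXT_disjoint T₁ T₃ hc₁ hc₃ hTI₁ hTI₃ hne13,
        dioXT_disjoint T₂ T₃ hc₂ hc₃ hTI₂ hTI₃ hne23⟩

end Cfsg.Agent.Helper46
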