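import Mathlib
import Cfsg.Agent.Helper46.Ree1158C

set_option autoImplicit false

namespace Cfsg.Agent.Helper46

variable {G : Type*} [Group G]

/-- one class is impossible -/
theorem dio_arith1 (x w d q : ℕ) (hq : 25 ≤ q) (hw : w ∣ 6)
    (hd : d + 7 = (q + 2) * (q + 1) + 1)
    (h1 : x * (w * (d + 7)) =
      (q + 2) ^ 3 * (q + 1) * (q + 3) * ((q + 2) * (q + 1) + 1) * (d + 6))
    (h2 : 3 * x = (q + 2) ^ 3 * (q + 1) * (q + 3) * ((q + 2) * q)) : False := by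
  have hd6 : d + 6 = (q + 2) * (q + 1) := by omega
  rw [hd, hd6] at h1
  have h3 : x * w = (q + 2) ^ 3 * (q + 1) * (q + 3) * ((q + 2) * (q + 1)) := by
    have hn0 : 0 < (q + 2) * (q + 1) + 1 := by positivity
    apply Nat.eq_of_mul_eq_mul_right hn0
    rw [show x * w * ((q + 2) * (q + 1) + 1) = x * (w * ((q + 2) * (q + 1) + 1)) by ring, h1]
    ring
  have h4 : (q + 2) ^ 3 * (q + 1) * (q + 3) * (q + 2) * (3 * (q + 1)) =
      (q + 2) ^ 3 * (q + 1) * (q + 3) * (q + 2) * (w * q) := by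
    calc _ = 3 * (x * w) := by rw [h3]; ring
      _ = w * (3 * x) := by ring
      _ = _ := by rw [h2]; ring
  have h5 : 3 * (q + 1) = w * q := Nat.eq_of_mul_eq_mul_left (by positivity) h4
  have hw6 : w ≤ 6 := Nat.le_of_dvd (by norm_num) hw
  interval_cases w <;> omega

/-- a class contributes at least `|G|/7` -/
theorem dio_arith_lb (x w d N : ℕ) (hw : w ≤ 6) (h : x * (w * (d + 7)) = N * (d + 6)) :
    N ≤ 7 * x := by
  by_contra hcon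
  have h1 : x * (w * (d + 7)) ≤ x * (6 * (d + 7)) :=
    Nat.mul_le_mul_left _ (Nat.mul_le_mul_right _ hw)
  have h2 : (7 * x + 1) * (d + 6) ≤ N * (d + 6) := Nat.mul_le_mul_right _ (by omega)
  nlinarith [h1, h2, Nat.zero_le (x * d)]

/-- a class with small Weyl group contributes at least `2|G|/7` -/
theorem dio_arith_lb' (x w d N : ℕ) (hw : w ≤ 3) (h : x * (w * (d + 7)) = N * (d + 6)) :
    2 * N ≤ 7 * x := by
  by_contra hcon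
  have h1 : x * (w * (d + 7)) ≤ x * (3 * (d + 7)) :=
    Nat.mul_le_mul_left _ (Nat.mul_le_mul_right _ hw)
  have h2 : (7 * x + 1) * (d + 6) ≤ 2 * N * (d + 6) := Nat.mul_le_mul_right _ (by omega)
  nlinarith [h1, h2, Nat.zero_le (x * d)]

/-- total contribution `≥ 3|G|/7` is impossible -/
theorem dio_arith_key (x q : ℕ)
    (h2 : 3 * x = (q + 2) ^ 3 * (q + 1) * (q + 3) * ((q + 2) * q))
    (h : 3 * ((q + 2) ^ 3 * (q + 1) * (q + 3) * ((q + 2) * (q + 1) + 1)) ≤ 7 * x) : False := by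
  have h3 : (q + 2) ^ 3 * (q + 1) * (q + 3) * (9 * ((q + 2) * (q + 1) + 1)) ≤
      (q + 2) ^ 3 * (q + 1) * (q + 3) * (7 * ((q + 2) * q)) := by
    calc _ = 3 * (3 * ((q + 2) ^ 3 * (q + 1) * (q + 3) * ((q + 2) * (q + 1) + 1))) := by ring
      _ ≤ 3 * (7 * x) := Nat.mul_le_mul_left _ h
      _ = 7 * (3 * x) := by ring
      _ = _ := by rw [h2]; ring
  have h4 := Nat.le_of_mul_le_mul_left h3 (by positivity)
  nlinarith [h4]

/-- two classes: the orders are `Q + 1 ± r` and both Weyl groups have order `6` -/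
theorem dio_arith2 (x₁ x₂ w₁ w₂ d₁ d₂ q r : ℕ) (hw₁ : w₁ ∣ 6) (hw₂ : w₂ ∣ 6)
    (hr : r ^ 2 = 3 * (q + 2))
    (hn : (d₁ + 7) * (d₂ + 7) = (q + 2) * (q + 1) + 1)
    (h1 : x₁ * (w₁ * (d₁ + 7)) =
      (q + 2) ^ 3 * (q + 1) * (q + 3) * ((q + 2) * (q + 1) + 1) * (d₁ + 6))
    (h2 : x₂ * (w₂ * (d₂ + 7)) =
      (q + 2) ^ 3 * (q + 1) * (q + 3) * ((q + 2) * (q + 1) + 1) * (d₂ + 6))
    (hx : 3 * (x₁ + x₂) = (q + 2) ^ 3 * (q + 1) * (q + 3) * ((q + 2) * q)) :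
    w₁ = 6 ∧ w₂ = 6 ∧ ((d₁ + 7 = q + 3 + r ∧ d₂ + 7 + r = q + 3) ∨
      (d₂ + 7 = q + 3 + r ∧ d₁ + 7 + r = q + 3)) := by
  have hw₁6 : w₁ ≤ 6 := Nat.le_of_dvd (by norm_num) hw₁
  have hw₂6 : w₂ ≤ 6 := Nat.le_of_dvd (by norm_num) hw₂
  have hl1 := dio_arith_lb x₁ w₁ d₁ _ hw₁6 h1
  have hl2 := dio_arith_lb x₂ w₂ d₂ _ hw₂6 h2
  have e1 : w₁ = 6 := by
    by_contra hne
    have hw3 : w₁ ≤ 3 := by
      interval_cases w₁ <;> omega
    have hl1' := dio_arith_lb' x₁ w₁ d₁ _ hw3 h1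
    exact dio_arith_key (x₁ + x₂) q hx (by omega)
  have e2 : w₂ = 6 := by
    by_contra hne
    have hw3 : w₂ ≤ 3 := by
      interval_cases w₂ <;> omega
    have hl2' := dio_arith_lb' x₂ w₂ d₂ _ hw3 h2
    exact dio_arith_key (x₁ + x₂) q hx (by omega)
  subst e1 e2
  refine ⟨rfl, rfl, ?_⟩
  have hg0 : 0 < (q + 2) ^ 3 * (q + 1) * (q + 3) := by positivity
  -- 6 x₁ = g0 (d₂+7)(d₁+6)
  have k1 : 6 * x₁ = (q + 2) ^ 3 * (q + 1) * (q + 3) * ((d₂ + 7) * (d₁ + 6)) := by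
    have h0 : 0 < d₁ + 7 := by omega
    apply Nat.eq_of_mul_eq_mul_right h0
    rw [show 6 * x₁ * (d₁ + 7) = x₁ * (6 * (d₁ + 7)) by ring, h1, ← hn]
    ring
  have k2 : 6 * x₂ = (q + 2) ^ 3 * (q + 1) * (q + 3) * ((d₁ + 7) * (d₂ + 6)) := by
    have h0 : 0 < d₂ + 7 := by omega
    apply Nat.eq_of_mul_eq_mul_right h0
    rw [show 6 * x₂ * (d₂ + 7) = x₂ * (6 * (d₂ + 7)) by ring, h2, ← hn]
    ring
  have k3 : (q + 2) ^ 3 * (q + 1) * (q + 3) * ((d₂ + 7) * (d₁ + 6) + (d₁ + 7) * (d₂ + 6)) =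
      (q + 2) ^ 3 * (q + 1) * (q + 3) * (2 * ((q + 2) * q)) := by
    calc _ = 6 * x₁ + 6 * x₂ := by rw [k1, k2]; ring
      _ = 2 * (3 * (x₁ + x₂)) := by ring
      _ = _ := by rw [hx]; ring
  have k4 : (d₂ + 7) * (d₁ + 6) + (d₁ + 7) * (d₂ + 6) = 2 * ((q + 2) * q) :=
    Nat.eq_of_mul_eq_mul_left hg0 k3
  have hsum : ((d₁ : ℤ) + 7) + ((d₂ : ℤ) + 7) = 2 * q + 6 := by
    have k4' : (((d₂ : ℤ) + 7) * ((d₁ : ℤ) + 6) + ((d₁ : ℤ) + 7) * ((d₂ : ℤ) + 6)) =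
        2 * (((q : ℤ) + 2) * q) := by exact_mod_cast k4
    have hn' : ((d₁ : ℤ) + 7) * ((d₂ : ℤ) + 7) = ((q : ℤ) + 2) * ((q : ℤ) + 1) + 1 := by
      exact_mod_cast hn
    linarith
  have hprod : ((d₁ : ℤ) + 7) * ((d₂ : ℤ) + 7) = (q : ℤ) ^ 2 + 3 * q + 3 := by
    have hn' : ((d₁ : ℤ) + 7) * ((d₂ : ℤ) + 7) = ((q : ℤ) + 2) * ((q : ℤ) + 1) + 1 := by
      exact_mod_cast hn
    rw [hn']; ring
  have hr' : (r : ℤ) ^ 2 = 3 * q + 6 := by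
    have : (r : ℤ) ^ 2 = 3 * ((q : ℤ) + 2) := by exact_mod_cast hr
    rw [this]; ring
  have hz : (((d₁ : ℤ) + 7) - ((d₂ : ℤ) + 7) - 2 * r) *
      (((d₁ : ℤ) + 7) - ((d₂ : ℤ) + 7) + 2 * r) = 0 := by
    linear_combination (((d₁ : ℤ) + 7) + ((d₂ : ℤ) + 7) + 2 * q + 6) * hsum - 4 * hprod - 4 * hr'
  rcases mul_eq_zero.mp hz with h | h
  · left; constructor <;> omega
  · right; constructor <;> omega

end Cfsg.Agent.Helper46
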