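import Mathlib
import Cfsg.Agent.Helper46.Ree1158D

set_option autoImplicit false

namespace Cfsg.Agent.Helper46

theorem dio_class_data {G : Type*} [Group G] [Finite G] (n : ℕ) (h2 : ¬ 2 ∣ n) (h3 : ¬ 3 ∣ n)
    (h5 : ¬ 5 ∣ n) (T : Subgroup G) (hc : IsCyclic T)
    (hTI : ∀ y ∈ T, y ≠ 1 → ∀ c : G, c * y = y * c → c ∈ T) (hTn : Nat.card T ∣ n) (hT : T ≠ ⊥)
    (hw : Nat.card (Subgroup.normalizer (T : Set G)) ∣ 6 * Nat.card T) :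
    ∃ w d : ℕ, w ∣ 6 ∧ Nat.card T = d + 7 ∧
      Nat.card (Subgroup.normalizer (T : Set G)) = w * (d + 7) ∧
      (dioXT T).ncard * (w * (d + 7)) = Nat.card G * (d + 6) := by
  have hc0 : 0 < Nat.card T := Nat.card_pos
  have hc1 : Nat.card T ≠ 1 := fun h => hT (Subgroup.eq_bot_of_card_eq T h)
  have h2' : ¬ 2 ∣ Nat.card T := fun h => h2 (h.trans hTn)
  have h3' : ¬ 3 ∣ Nat.card T := fun h => h3 (h.trans hTn)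
  have h5' : ¬ 5 ∣ Nat.card T := fun h => h5 (h.trans hTn)
  have hc7 : 7 ≤ Nat.card T := by
    generalize Nat.card T = c at hc0 hc1 h2' h3' h5'
    by_contra hlt
    have hlt' : c < 7 := by omega
    interval_cases c <;> omega
  obtain ⟨d, hd⟩ : ∃ d, Nat.card T = d + 7 := ⟨Nat.card T - 7, by omega⟩
  obtain ⟨w, hw'⟩ := Subgroup.card_dvd_of_le (Subgroup.le_normalizer (H := T))
  have hw6 : w ∣ 6 := by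
    rw [hw', mul_comm 6] at hw
    exact Nat.dvd_of_mul_dvd_mul_left hc0 hw
  have hX := dio_card_XT T hc hTI
  refine ⟨w, d, hw6, hd, ?_, ?_⟩
  · rw [hw', hd, mul_comm]
  · rw [hw', hd] at hX
    rw [mul_comm w, hX]
    rfl

theorem dio_abstract {G : Type*} [Group G] [Finite G] (Q r : ℕ) (hQ : 27 ≤ Q)
    (hr : r ^ 2 = 3 * Q)
    (h2 : ¬ 2 ∣ Q ^ 2 - Q + 1) (h3 : ¬ 3 ∣ Q ^ 2 - Q + 1) (h5 : ¬ 5 ∣ Q ^ 2 - Q + 1)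
    (hG : Nat.card G = Q ^ 3 * (Q - 1) * (Q ^ 3 + 1))
    (hw : ∀ T : Subgroup G, IsCyclic T → T ≠ ⊥ →
      (∀ y ∈ T, y ≠ 1 → ∀ c : G, c * y = y * c → c ∈ T) →
      Nat.card T ∣ Q ^ 2 - Q + 1 →
      Nat.card (Subgroup.normalizer (T : Set G)) ∣ 6 * Nat.card T)
    (hex : ∀ p : ℕ, p.Prime → p ∣ Q ^ 2 - Q + 1 →
      ∃ T : Subgroup G, IsCyclic T ∧ (∀ y ∈ T, y ≠ 1 → ∀ c : G, c * y = y * c → c ∈ T) ∧
        Nat.card T ∣ Q ^ 2 - Q + 1 ∧ p ∣ Nat.card T)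
    (hcount : 3 * Nat.card {g : G // g ≠ 1 ∧ ∃ T : Subgroup G, IsCyclic T ∧
        (∀ y ∈ T, y ≠ 1 → ∀ c : G, c * y = y * c → c ∈ T) ∧
        Nat.card T ∣ Q ^ 2 - Q + 1 ∧ g ∈ T} =
      Q ^ 4 * (Q ^ 2 - 1) * (Q - 2)) :
    (∃ T : Subgroup G, IsCyclic T ∧ (∀ y ∈ T, y ≠ 1 → ∀ c : G, c * y = y * c → c ∈ T) ∧
        Nat.card T = Q + r + 1 ∧
        Nat.card (Subgroup.normalizer (T : Set G)) = 6 * (Q + r + 1)) ∧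
    (∃ T : Subgroup G, IsCyclic T ∧ (∀ y ∈ T, y ≠ 1 → ∀ c : G, c * y = y * c → c ∈ T) ∧
        Nat.card T = Q - r + 1 ∧
        Nat.card (Subgroup.normalizer (T : Set G)) = 6 * (Q - r + 1)) ∧
    (∀ T : Subgroup G, IsCyclic T → T ≠ ⊥ →
      (∀ y ∈ T, y ≠ 1 → ∀ c : G, c * y = y * c → c ∈ T) →
      Nat.card T ∣ Q ^ 2 - Q + 1 →
      Nat.card T = Q + r + 1 ∨ Nat.card T = Q - r + 1) := by
  obtain ⟨q, rfl⟩ : ∃ q, Q = q + 2 := ⟨Q - 2, by omega⟩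
  have hq : 25 ≤ q := by omega
  have hn : (q + 2) ^ 2 - (q + 2) + 1 = (q + 2) * (q + 1) + 1 := by
    have : (q + 2) ^ 2 = (q + 2) * (q + 1) + (q + 2) := by ring
    omega
  rw [hn] at h2 h3 h5 hw hex hcount ⊢
  have hG' : Nat.card G = (q + 2) ^ 3 * (q + 1) * (q + 3) * ((q + 2) * (q + 1) + 1) := by
    rw [hG, show q + 2 - 1 = q + 1 by omega]; ring
  have hX : 3 * (dioX (G := G) ((q + 2) * (q + 1) + 1)).ncard =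
      (q + 2) ^ 3 * (q + 1) * (q + 3) * ((q + 2) * q) := by
    have e1 : (q + 2) ^ 2 - 1 = (q + 1) * (q + 3) := by
      have : (q + 2) ^ 2 = (q + 1) * (q + 3) + 1 := by ring
      omega
    rw [e1, show q + 2 - 2 = q by omega] at hcount
    rw [← Nat.card_coe_set_eq]
    refine Eq.trans hcount ?_
    ring
  have hnG : (q + 2) * (q + 1) + 1 ∣ Nat.card G := hG' ▸ Dvd.intro_left _ rfl
  have hn1 : 1 < (q + 2) * (q + 1) + 1 := by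
    have : 0 < (q + 2) * (q + 1) := by positivity
    omega
  rcases dio_trichotomy ((q + 2) * (q + 1) + 1) hn1 hnG hex with
    ⟨T₁, hc₁, hTI₁, hb₁, h1, hset⟩ |
    ⟨T₁, T₂, ⟨hc₁, hTI₁, hb₁⟩, ⟨hc₂, hTI₂, hb₂⟩, h12, hset, hdisj, hall⟩ |
    ⟨T₁, T₂, T₃, ⟨hc₁, hTI₁, hb₁, hn₁⟩, ⟨hc₂, hTI₂, hb₂, hn₂⟩, ⟨hc₃, hTI₃, hb₃, hn₃⟩,
      hd12, hd13, hd23⟩
  · exfalso
    have hTn : Nat.card T₁ ∣ (q + 2) * (q + 1) + 1 := h1 ▸ dvd_rfl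
    obtain ⟨w, d, hw6, hd, hN, hcard⟩ := dio_class_data _ h2 h3 h5 T₁ hc₁ hTI₁ hTn hb₁
      (hw T₁ hc₁ hb₁ hTI₁ hTn)
    rw [hset] at hX
    rw [hG'] at hcard
    exact dio_arith1 _ w d q hq hw6 (hd ▸ h1) hcard hX
  · have hTn₁ : Nat.card T₁ ∣ (q + 2) * (q + 1) + 1 := h12 ▸ Dvd.intro _ rfl
    have hTn₂ : Nat.card T₂ ∣ (q + 2) * (q + 1) + 1 := h12 ▸ Dvd.intro_left _ rfl
    obtain ⟨w₁, d₁, hw₁, hd₁, hN₁, hcard₁⟩ := dio_class_data _ h2 h3 h5 T₁ hc₁ hTI₁ hTn₁ hb₁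
      (hw T₁ hc₁ hb₁ hTI₁ hTn₁)
    obtain ⟨w₂, d₂, hw₂, hd₂, hN₂, hcard₂⟩ := dio_class_data _ h2 h3 h5 T₂ hc₂ hTI₂ hTn₂ hb₂
      (hw T₂ hc₂ hb₂ hTI₂ hTn₂)
    rw [hset, Set.ncard_union_eq hdisj] at hX
    rw [hG'] at hcard₁ hcard₂
    rw [hd₁, hd₂] at h12
    obtain ⟨rfl, rfl, hcase⟩ := dio_arith2 _ _ w₁ w₂ d₁ d₂ q r hw₁ hw₂ hr h12 hcard₁ hcard₂ hX
    rcases hcase with ⟨ha, hb⟩ | ⟨ha, hb⟩
    · refine ⟨⟨T₁, hc₁, hTI₁, by omega, by rw [hN₁]; omega⟩,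
        ⟨T₂, hc₂, hTI₂, by omega, by rw [hN₂]; omega⟩, ?_⟩
      intro T hc hb' hTI hTn
      rcases hall T hc hb' hTI hTn with h | h
      · left; omega
      · right; omega
    · refine ⟨⟨T₂, hc₂, hTI₂, by omega, by rw [hN₂]; omega⟩,
        ⟨T₁, hc₁, hTI₁, by omega, by rw [hN₁]; omega⟩, ?_⟩
      intro T hc hb' hTI hTn
      rcases hall T hc hb' hTI hTn with h | h
      · right; omega
      · left; omega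
  · exfalso
    obtain ⟨w₁, d₁, hw₁, hd₁, hN₁, hcard₁⟩ := dio_class_data _ h2 h3 h5 T₁ hc₁ hTI₁ hn₁ hb₁
      (hw T₁ hc₁ hb₁ hTI₁ hn₁)
    obtain ⟨w₂, d₂, hw₂, hd₂, hN₂, hcard₂⟩ := dio_class_data _ h2 h3 h5 T₂ hc₂ hTI₂ hn₂ hb₂
      (hw T₂ hc₂ hb₂ hTI₂ hn₂)
    obtain ⟨w₃, d₃, hw₃, hd₃, hN₃, hcard₃⟩ := dio_class_data _ h2 h3 h5 T₃ hc₃ hTI₃ hn₃ hb₃
      (hw T₃ hc₃ hb₃ hTI₃ hn₃)
    have hl₁ := dio_arith_lb _ w₁ d₁ _ (Nat.le_of_dvd (by norm_num) hw₁) hcard₁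
    have hl₂ := dio_arith_lb _ w₂ d₂ _ (Nat.le_of_dvd (by norm_num) hw₂) hcard₂
    have hl₃ := dio_arith_lb _ w₃ d₃ _ (Nat.le_of_dvd (by norm_num) hw₃) hcard₃
    have hsub : dioXT T₁ ∪ dioXT T₂ ∪ dioXT T₃ ⊆ dioX (G := G) ((q + 2) * (q + 1) + 1) :=
      Set.union_subset (Set.union_subset (dioXT_subset _ T₁ hc₁ hTI₁ hn₁)
        (dioXT_subset _ T₂ hc₂ hTI₂ hn₂)) (dioXT_subset _ T₃ hc₃ hTI₃ hn₃)
    have hle := Set.ncard_le_ncard hsub (Set.toFinite _)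
    rw [Set.ncard_union_eq (Set.disjoint_union_left.mpr ⟨hd13, hd23⟩),
      Set.ncard_union_eq hd12] at hle
    rw [hG'] at hl₁ hl₂ hl₃
    exact dio_arith_key _ q hX (by omega)

theorem dio_mod5 (m : ℕ) : 3 ^ (2 * m + 1) % 5 = 2 ∨ 3 ^ (2 * m + 1) % 5 = 3 := by
  induction m with
  | zero => right; norm_num
  | succ k ih =>
    have e : 3 ^ (2 * (k + 1) + 1) = 9 * 3 ^ (2 * k + 1) := by ring
    rw [e]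
    omega

theorem exists_exotic_tori {G : Type*} [Group G] [Finite G] {m : ℕ} (hm : 1 ≤ m)
    (hG : Nat.card G =
      (3 ^ (2 * m + 1)) ^ 3 * (3 ^ (2 * m + 1) - 1) * ((3 ^ (2 * m + 1)) ^ 3 + 1))
    (hw : ∀ T : Subgroup G, IsCyclic T → T ≠ ⊥ →
      (∀ y ∈ T, y ≠ 1 → ∀ c : G, c * y = y * c → c ∈ T) →
      Nat.card T ∣ (3 ^ (2 * m + 1)) ^ 2 - 3 ^ (2 * m + 1) + 1 →
      Nat.card (Subgroup.normalizer (T : Set G)) ∣ 6 * Nat.card T)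
    (hex : ∀ p : ℕ, p.Prime → p ∣ (3 ^ (2 * m + 1)) ^ 2 - 3 ^ (2 * m + 1) + 1 →
      ∃ T : Subgroup G, IsCyclic T ∧ (∀ y ∈ T, y ≠ 1 → ∀ c : G, c * y = y * c → c ∈ T) ∧
        Nat.card T ∣ (3 ^ (2 * m + 1)) ^ 2 - 3 ^ (2 * m + 1) + 1 ∧ p ∣ Nat.card T)
    (hcount : 3 * Nat.card {g : G // g ≠ 1 ∧ ∃ T : Subgroup G, IsCyclic T ∧
        (∀ y ∈ T, y ≠ 1 → ∀ c : G, c * y = y * c → c ∈ T) ∧
        Nat.card T ∣ (3 ^ (2 * m + 1)) ^ 2 - 3 ^ (2 * m + 1) + 1 ∧ g ∈ T} =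
      (3 ^ (2 * m + 1)) ^ 4 * ((3 ^ (2 * m + 1)) ^ 2 - 1) * (3 ^ (2 * m + 1) - 2)) :
    (∃ T : Subgroup G, IsCyclic T ∧ (∀ y ∈ T, y ≠ 1 → ∀ c : G, c * y = y * c → c ∈ T) ∧
        Nat.card T = 3 ^ (2 * m + 1) + 3 ^ (m + 1) + 1 ∧
        Nat.card (Subgroup.normalizer (T : Set G)) = 6 * (3 ^ (2 * m + 1) + 3 ^ (m + 1) + 1)) ∧
    (∃ T : Subgroup G, IsCyclic T ∧ (∀ y ∈ T, y ≠ 1 → ∀ c : G, c * y = y * c → c ∈ T) ∧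
        Nat.card T = 3 ^ (2 * m + 1) - 3 ^ (m + 1) + 1 ∧
        Nat.card (Subgroup.normalizer (T : Set G)) = 6 * (3 ^ (2 * m + 1) - 3 ^ (m + 1) + 1)) ∧
    (∀ T : Subgroup G, IsCyclic T → T ≠ ⊥ →
      (∀ y ∈ T, y ≠ 1 → ∀ c : G, c * y = y * c → c ∈ T) →
      Nat.card T ∣ (3 ^ (2 * m + 1)) ^ 2 - 3 ^ (2 * m + 1) + 1 →
      Nat.card T = 3 ^ (2 * m + 1) + 3 ^ (m + 1) + 1 ∨
        Nat.card T = 3 ^ (2 * m + 1) - 3 ^ (m + 1) + 1) := by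
  have hQ : 27 ≤ 3 ^ (2 * m + 1) := by
    calc 27 = 3 ^ 3 := by norm_num
      _ ≤ 3 ^ (2 * m + 1) := Nat.pow_le_pow_right (by norm_num) (by omega)
  have hr : (3 ^ (m + 1)) ^ 2 = 3 * 3 ^ (2 * m + 1) := by ring
  have h5m := dio_mod5 m
  obtain ⟨k, hk⟩ : ∃ k, 3 ^ (2 * m + 1) = 3 * k := ⟨3 ^ (2 * m), by ring⟩
  have key : ∀ Q : ℕ, 27 ≤ Q → (∃ k, Q = 3 * k) → (Q % 5 = 2 ∨ Q % 5 = 3) →
      ¬ 2 ∣ Q ^ 2 - Q + 1 ∧ ¬ 3 ∣ Q ^ 2 - Q + 1 ∧ ¬ 5 ∣ Q ^ 2 - Q + 1 := by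
    rintro Q hQ27 ⟨k, rfl⟩ hQ5
    obtain ⟨j, hj⟩ : ∃ j, 3 * k = j + 1 := ⟨3 * k - 1, by omega⟩
    have e : (3 * k) ^ 2 - 3 * k + 1 = 3 * (k * j) + 1 := by
      have : (3 * k) ^ 2 = 3 * (k * j) + 3 * k := by rw [pow_two]; nth_rewrite 2 [hj]; ring
      omega
    have e' : (3 * k) ^ 2 - 3 * k + 1 = j * (j + 1) + 1 := by
      have : (3 * k) ^ 2 = j * (j + 1) + 3 * k := by rw [hj]; ring
      omega
    have hev : Even (j * (j + 1)) := Nat.even_mul_succ_self j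
    obtain ⟨s, hs⟩ := hev
    have hsq : (j + 1) * (j + 1) % 5 = ((j + 1) % 5) * ((j + 1) % 5) % 5 := Nat.mul_mod _ _ _
    have e'' : (3 * k) ^ 2 - 3 * k + 1 + (j + 1) = (j + 1) * (j + 1) + 1 := by
      rw [e']; ring
    rw [hj] at hQ5
    refine ⟨?_, ?_, ?_⟩
    · rw [e', hs]; omega
    · rw [e]; omega
    · intro hdvd
      rcases hQ5 with h | h
      · rw [h] at hsq; omega
      · rw [h] at hsq; omega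
  obtain ⟨h2, h3, h5⟩ := key _ hQ ⟨k, hk⟩ h5m
  exact dio_abstract (3 ^ (2 * m + 1)) (3 ^ (m + 1)) hQ hr h2 h3 h5 hG hw hex hcount

end Cfsg.Agent.Helper46
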