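/-
helper46: CALL S74 (helper65; row S5974), stage OEG: `s74_even_good`, verbatim
(`r` odd `≠ p`, `i = ord_r(q)` even, `⟸`, HYPERBOLIC `m`-spaces).  Port of
`Cfsg.Agent.Helper96.S88.s88_even_good`.
-/
import Mathlib
import Cfsg.Prelude.Def_GeometricClasses
import Cfsg.Prelude.Def_Classical
import Cfsg.Agent.Helper65.S74Defs
import Cfsg.Agent.Helper35.TSSTDP
import Cfsg.Agent.Helper80.S88SCAL
import Cfsg.Agent.Helper97.OForm
import Cfsg.Agent.Helper96.OHAux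
import Cfsg.Agent.Helper46.S74OEGGen

set_option autoImplicit false

namespace Cfsg.Agent.Helper46.S74

open Module Cfsg Cfsg.Geo Cfsg.Agent.Helper65.S74
open Cfsg.Agent.Helper96.OH Cfsg.Agent.Helper96.OHAux
open scoped MatrixGroups

variable {F : Type*} [Field F] [Fintype F]

/-- OEG. -/
theorem s74_even_good {p : ℕ} [Fact p.Prime] [CharP F p] {q : ℕ} (hq : Fintype.card F = q)
    (d m : ℕ) (hd : 4 ≤ d) (hm : 2 ≤ m) (hme : Even m) (hmd : m < d) (r : ℕ) [Fact r.Prime]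
    (hr2 : 2 < r) (hrp : r ≠ p) (i : ℕ) (hi : i = orderOf (q : ZMod r)) (heven : Even i)
    (hcond : ((2 * d) % i = 0 ∧ (Odd ((2 * d) / i) ∨ (m % i = 0 ∧ Even (m / i)))) ∨
      (i ≤ m ∧ ((m % i < (2 * d) % i ∧ 0 < m % i) ∨
        ((2 * d) % i = m % i ∧ 0 < m % i ∧ Even ((2 * d + m - 2 * ((2 * d) % i)) / i)) ∨
        (0 < (2 * d) % i ∧ m % i = 0 ∧ Even (m / i))))) :
    AllHyp (Cfsg.quadFormPlus d F) r m := by
  classical
  subst hq
  have hrpr : r.Prime := Fact.out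
  have hrodd : Odd r := hrpr.odd_of_ne_two (by omega)
  have hrF : (r : F) ≠ 0 := oh_rF p r hrp
  have hQ := (Cfsg.Agent.Helper35.TS5973.ts_std_plus (F := F) d).1
  have hpl := (Cfsg.Agent.Helper35.TS5973.ts_std_plus (F := F) d).2
  have hcard : Fintype.card (Fin d ⊕ Fin d) = 2 * d := by simp; omega
  intro x hx hxr hns
  have hxiso := Cfsg.Agent.Helper97.Gen.omegaGL_le _ hx
  obtain ⟨x', hx', hx'r, hx'1, hinv, -⟩ :=
    Cfsg.Agent.Helper80.S88.s88_scal (Cfsg.quadFormPlus d F) hQ r hrodd x hxiso hxr hns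
  have hT := oh_opres_toLin' (Cfsg.quadFormPlus d F) x' hx'
  have hTr : Matrix.toLin' (x' : Matrix (Fin d ⊕ Fin d) (Fin d ⊕ Fin d) F) ^ r = 1 := by
    have h2 : (x' : Matrix (Fin d ⊕ Fin d) (Fin d ⊕ Fin d) F) ^ r = 1 := by
      rw [← Units.val_pow_eq_pow_val, hx'r]; rfl
    rw [oh_toLin'_pow_eq, h2, Matrix.toLin'_one]; rfl
  have hT1 : Matrix.toLin' (x' : Matrix (Fin d ⊕ Fin d) (Fin d ⊕ Fin d) F) ≠ 1 := by
    intro h
    apply hx'1
    apply Units.ext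
    apply Matrix.toLin'.injective
    rw [h, Units.val_one, Matrix.toLin'_one]
    rfl
  obtain ⟨W, hW, hWT⟩ := s74g_even_good (Cfsg.quadFormPlus d F) hQ d m hcard hpl hm hme hmd _ hT
    r hr2 hrF hTr hT1 i hi heven hcond
  rw [invHyp_iff]
  exact ⟨W, hW, hinv W hWT⟩

end Cfsg.Agent.Helper46.S74
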