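import Cfsg.Agent.Helper46.SFRGOODEXCore
import Cfsg.Agent.Helper60.SFRDETB
import Cfsg.Agent.Helper99.SFRDIAG
import Cfsg.Agent.Helper44.SFRRATEX
import Cfsg.Agent.Helper90.SFRTr

set_option autoImplicit false



namespace Cfsg.Agent.Helper46

open Module Polynomial Cfsg.Agent.Helper90.SFR

section top
variable {F : Type*} [Field F] [Fintype F]

/-! ## PIECE GOODEX -/
theorem good_of_exc (F₀ : Subfield F) (q₀ : ℕ) (hF₀ : Nat.card ↥F₀ = q₀) (r : ℕ) [Fact r.Prime]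
    (hr35 : r = 3 ∨ r = 5) (hrF : (r : F) ≠ 0) (hqk : Fintype.card F = q₀ ^ 2)
    (hv : padicValNat r (q₀ + 1) = 1)
    (x : Matrix.SpecialLinearGroup (Fin r) F) (z : F)
    (hx : ((x ^ r : Matrix.SpecialLinearGroup (Fin r) F) : Matrix (Fin r) (Fin r) F)
      = z • (1 : Matrix (Fin r) (Fin r) F)) : IsConj F₀ x := by
  have hr2 : r ≠ 2 := by rcases hr35 with h | h <;> omega
  have hr1 : r ∣ q₀ + 1 := dvd_of_one_le_padicValNat (by rw [hv])
  have hrq : r ∣ Fintype.card F - 1 := by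
    rw [hqk]
    have h := Nat.sq_sub_sq q₀ 1
    rw [one_pow] at h
    rw [h]
    exact Dvd.dvd.mul_right hr1 _
  exact sfrx_good_of_exc_core F₀ q₀ hF₀ r hr35 hrF hqk hv x z hx
    (fun y w hw hy => Cfsg.Agent.Helper60.det_of_irr r hr2 r y w hw hy)
    (fun T hT ζ hζ hζ1 => Cfsg.Agent.Helper99.diag_basis T r hrF hT ζ hζ hζ1 r (Module.finrank_fin_fun F))
    (fun T hT hsym => Cfsg.Agent.Helper44.rat_sym F₀ q₀ hF₀ r hr2 hrF hrq hr1 T hT hsym)
    (fun c hc hrat hcent => Cfsg.Agent.Helper90.SFR.conj_of_rat F₀ r x c hc hrat hcent)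

end top

end Cfsg.Agent.Helper46
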