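/-
helper46: CALL SL2L (helper2; pure lemma for row S1383), piece G7a: `sl2l_reduce`.
-/
import Mathlib

set_option autoImplicit false

namespace Cfsg.Agent.Helper46

open Subgroup

universe u

variable {Γ : Type u} [Group Γ] [Finite Γ]

/-- PIECE G7a: `p ∣ lam² - 1` gives `p ∣ lam - 1` or `p ∣ lam + 1`.  First case: `d ^ lam = d (d ^ p) ^ m`,
so `k d k⁻¹ = d z`.  Second case: `d ^ lam = (d ^ p) ^ m d⁻¹`, `k d k⁻¹ = d⁻¹ z'` and then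
`k² d k⁻² = (d⁻¹ z')⁻¹ z' = d = d * 1`. -/
theorem sl2l_reduce {p : ℕ} (hp : p.Prime) {Z : Subgroup Γ} {k d z₁ : Γ} {lam : ℕ}
    (hdp : d ^ p ∈ Z) (hz₁ : z₁ ∈ Z) (hZd : ∀ z ∈ Z, z * d = d * z)
    (hkZ : ∀ z ∈ Z, k * z = z * k) (hkd : k * d * k⁻¹ = d ^ lam * z₁)
    (hlam : p ∣ lam ^ 2 - 1) (hlam1 : 1 ≤ lam) :
    ∃ z ∈ Z, (k * d * k⁻¹ = d * z ∨ k ^ 2 * d * (k ^ 2)⁻¹ = d * z) := by
  obtain ⟨n, rfl⟩ : ∃ n, lam = n + 1 := ⟨lam - 1, by omega⟩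
  have h1 : (n + 1) ^ 2 = n * (n + 2) + 1 := by ring
  rw [h1, Nat.add_sub_cancel] at hlam
  have hw : ∀ m : ℕ, (d ^ p) ^ m ∈ Z := fun m => Z.pow_mem hdp m
  rcases (Nat.Prime.dvd_mul hp).mp hlam with ⟨m, hm⟩ | ⟨m, hm⟩
  · refine ⟨(d ^ p) ^ m * z₁, Z.mul_mem (hw m) hz₁, Or.inl ?_⟩
    rw [hkd, hm, pow_succ, pow_mul, hZd _ (hw m), mul_assoc]
  · have hpow : d ^ (n + 1) = (d ^ p) ^ m * d⁻¹ := by
      rw [← pow_mul, ← hm]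
      group
    have hz' : (d ^ p) ^ m * z₁ ∈ Z := Z.mul_mem (hw m) hz₁
    have hwd : (d ^ p) ^ m * d⁻¹ = d⁻¹ * (d ^ p) ^ m := by
      have h2 := hZd _ (hw m)
      calc (d ^ p) ^ m * d⁻¹ = d⁻¹ * (d * (d ^ p) ^ m) * d⁻¹ := by group
        _ = d⁻¹ * ((d ^ p) ^ m * d) * d⁻¹ := by rw [h2]
        _ = d⁻¹ * (d ^ p) ^ m := by group
    have hkd' : k * d * k⁻¹ = d⁻¹ * ((d ^ p) ^ m * z₁) := by
      rw [hkd, hpow, hwd, mul_assoc]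
    refine ⟨1, Z.one_mem, Or.inr ?_⟩
    have h3 : k * ((d ^ p) ^ m * z₁) * k⁻¹ = (d ^ p) ^ m * z₁ := by
      rw [hkZ _ hz']
      group
    have h4 : k ^ 2 * d * (k ^ 2)⁻¹ = k * (k * d * k⁻¹) * k⁻¹ := by
      rw [pow_two, mul_inv_rev]
      simp only [mul_assoc]
    have h5 : k * (d⁻¹ * ((d ^ p) ^ m * z₁)) * k⁻¹ =
        (k * d * k⁻¹)⁻¹ * (k * ((d ^ p) ^ m * z₁) * k⁻¹) := by group
    rw [h4, hkd', h5, hkd', h3, mul_one]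
    have h6 := hZd _ hz'
    calc (d⁻¹ * ((d ^ p) ^ m * z₁))⁻¹ * ((d ^ p) ^ m * z₁)
        = ((d ^ p) ^ m * z₁)⁻¹ * (d * ((d ^ p) ^ m * z₁)) := by group
      _ = ((d ^ p) ^ m * z₁)⁻¹ * (((d ^ p) ^ m * z₁) * d) := by rw [h6]
      _ = d := by group

end Cfsg.Agent.Helper46
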