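import Mathlib
import Cfsg.Agent.Helper67.KGLP6a
import Cfsg.Agent.Helper67.KGLP6b
import Cfsg.Agent.Helper44.SPCDefs

set_option autoImplicit false

/-!
# CALL S2676 (helper44), piece JNF: Jordan normal form of a unipotent matrix

`nilp_jordan_basis`: a nilpotent endomorphism has a Jordan basis (from the structure theorem for
finitely generated torsion modules over `F[X]`, via `Helper67.exists_normalized_decomp`).
-/

namespace Cfsg.Agent.Helper46.SPCJNF

open Polynomial
open scoped DirectSum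

universe u v

/-- a Jordan basis of a nilpotent endomorphism -/
theorem nilp_jordan_basis {F : Type u} [Field F] {V : Type v} [AddCommGroup V] [Module F V]
    [FiniteDimensional F V] (φ : Module.End F V) (hφ : IsNilpotent φ) :
    ∃ (κ : Type u) (_ : Fintype κ) (e : κ → ℕ) (b : Module.Basis (Σ i : κ, Fin (e i)) F V),
      (∀ i, 1 ≤ e i) ∧ ∀ (i : κ) (j : Fin (e i)),
        φ (b ⟨i, j⟩) = if h : (j : ℕ) + 1 < e i then b ⟨i, ⟨(j : ℕ) + 1, h⟩⟩ else 0 := by
  classical
  obtain ⟨n, hn⟩ := hφ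
  obtain ⟨κ, _, p, e, hpe, ⟨ψ⟩⟩ := Cfsg.Agent.Helper67.exists_normalized_decomp φ
  -- `X ^ n` kills the module
  have hkill : ∀ m : Module.AEval' φ, (X ^ n : F[X]) • m = 0 := by
    intro m
    obtain ⟨v, rfl⟩ := (Module.AEval'.of φ).surjective m
    rw [Module.AEval'.X_pow_smul_of, hn]
    simp
  have hpX : ∀ i, p i = X := by
    intro i
    have h2 := hkill (ψ.symm (DirectSum.of (fun i => F[X] ⧸ Submodule.span F[X] {p i ^ e i}) i
      (Submodule.Quotient.mk 1)))
    have h3 := congrArg ψ h2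
    rw [map_smul, LinearEquiv.apply_symm_apply, map_zero, ← DirectSum.of_smul,
      ← Submodule.Quotient.mk_smul, smul_eq_mul, mul_one] at h3
    have h4 : (Submodule.Quotient.mk (X ^ n : F[X]) : F[X] ⧸ Submodule.span F[X] {p i ^ e i}) = 0 := by
      have h5 := congrArg (fun m : (⨁ i, F[X] ⧸ Submodule.span F[X] {p i ^ e i}) => m i) h3
      simp only [DirectSum.of_eq_same, DirectSum.zero_apply] at h5
      exact h5
    rw [Submodule.Quotient.mk_eq_zero, Submodule.mem_span_singleton] at h4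
    obtain ⟨c, hc⟩ := h4
    have h6 : p i ^ e i ∣ X ^ n := ⟨c, by rw [← hc, smul_eq_mul, mul_comm]⟩
    have h7 : p i ∣ X ^ n := dvd_trans (dvd_pow_self _ (by have := (hpe i).2.2; omega)) h6
    have h8 : p i ∣ X := (hpe i).1.prime.dvd_of_dvd_pow h7
    exact Polynomial.eq_of_monic_of_associated (hpe i).2.1 monic_X
      ((hpe i).1.associated_of_dvd irreducible_X h8)
  obtain rfl : p = fun _ => X := funext hpX
  -- the quotient map and the generators
  have hmk0 : ∀ i, (Submodule.Quotient.mk (X ^ e i : F[X]) :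
      F[X] ⧸ Submodule.span F[X] {(fun _ : κ => (X : F[X])) i ^ e i}) = 0 := by
    intro i
    rw [Submodule.Quotient.mk_eq_zero]
    exact Submodule.mem_span_singleton_self _
  obtain ⟨g, hg⟩ : ∃ g : (Σ i : κ, Fin (e i)) → V, g = fun x =>
      (Module.AEval'.of φ).symm (ψ.symm (DirectSum.of
        (fun i => F[X] ⧸ Submodule.span F[X] {(fun _ : κ => (X : F[X])) i ^ e i}) x.1
        (Submodule.Quotient.mk (X ^ (x.2 : ℕ))))) := ⟨_, rfl⟩
  have hgψ : ∀ (i : κ) (j : Fin (e i)), ψ (Module.AEval'.of φ (g ⟨i, j⟩))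
      = DirectSum.of (fun i => F[X] ⧸ Submodule.span F[X] {(fun _ : κ => (X : F[X])) i ^ e i}) i
        (Submodule.Quotient.mk (X ^ (j : ℕ))) := by
    intro i j
    rw [hg]
    simp
  -- the action of `φ`
  have hφg : ∀ (i : κ) (j : Fin (e i)),
      φ (g ⟨i, j⟩) = if h : (j : ℕ) + 1 < e i then g ⟨i, ⟨(j : ℕ) + 1, h⟩⟩ else 0 := by
    intro i j
    apply (Module.AEval'.of φ).injective
    apply ψ.injective
    rw [← Module.AEval'.X_smul_of, map_smul, hgψ, ← DirectSum.of_smul,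
      ← Submodule.Quotient.mk_smul, smul_eq_mul, ← pow_succ']
    split_ifs with h
    · rw [hgψ]
    · have h1 : (j : ℕ) + 1 = e i := by have := j.2; omega
      rw [h1, hmk0, map_zero, map_zero, map_zero]
  -- linear independence
  have hli : LinearIndependent F g := by
    rw [Fintype.linearIndependent_iff]
    intro c hc
    have h1 := congrArg (fun v => (ψ.restrictScalars F) ((Module.AEval'.of φ) v)) hc
    simp only [map_sum, map_smul, map_zero] at h1
    have h1' : ∑ i : κ, ∑ j : Fin (e i), c ⟨i, j⟩ • DirectSum.of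
        (fun i => F[X] ⧸ Submodule.span F[X] {(fun _ : κ => (X : F[X])) i ^ e i}) i
        (Submodule.Quotient.mk (X ^ (j : ℕ))) = 0 := by
      rw [← h1, Fintype.sum_sigma]
      apply Finset.sum_congr rfl
      intro i _
      apply Finset.sum_congr rfl
      intro j _
      rw [LinearEquiv.restrictScalars_apply, hgψ]
    rintro ⟨i₀, j₀⟩
    have h2 := congrArg (fun m : (⨁ i, F[X] ⧸ Submodule.span F[X]
      {(fun _ : κ => (X : F[X])) i ^ e i}) => m i₀) h1'
    beta_reduce at h2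
    rw [DirectSum.sum_apply, Finset.sum_eq_single i₀, DirectSum.sum_apply, DirectSum.zero_apply] at h2
    rotate_left
    · intro i _ hne
      rw [DirectSum.sum_apply]
      apply Finset.sum_eq_zero
      intro j _
      rw [DirectSum.smul_apply, DirectSum.of_eq_of_ne _ _ _ hne.symm, smul_zero]
    · intro h
      exact absurd (Finset.mem_univ _) h
    simp only [DirectSum.smul_apply, DirectSum.of_eq_same] at h2
    obtain ⟨π, hπ⟩ : ∃ π : F[X] →ₗ[F] (F[X] ⧸ Submodule.span F[X]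
        {(fun _ : κ => (X : F[X])) i₀ ^ e i₀}), ∀ f, π f = Submodule.Quotient.mk f :=
      ⟨(Submodule.span F[X] {(fun _ : κ => (X : F[X])) i₀ ^ e i₀}).mkQ.restrictScalars F,
        fun f => rfl⟩
    have h3 : π (∑ j : Fin (e i₀), C (c ⟨i₀, j⟩) * X ^ (j : ℕ)) = 0 := by
      rw [map_sum, ← h2]
      apply Finset.sum_congr rfl
      intro j _
      rw [← smul_eq_C_mul, map_smul, hπ]
    rw [hπ, Submodule.Quotient.mk_eq_zero, Submodule.mem_span_singleton] at h3
    obtain ⟨q, hq⟩ := h3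
    have h4 : (X : F[X]) ^ e i₀ ∣ ∑ j : Fin (e i₀), C (c ⟨i₀, j⟩) * X ^ (j : ℕ) :=
      ⟨q, by rw [← hq, smul_eq_mul, mul_comm]⟩
    have h5 : (∑ j : Fin (e i₀), C (c ⟨i₀, j⟩) * X ^ (j : ℕ) : F[X]) = 0 := by
      apply Polynomial.eq_zero_of_dvd_of_degree_lt h4
      rw [degree_X_pow]
      exact degree_sum_fin_lt (fun j : Fin (e i₀) => c ⟨i₀, j⟩)
    have h6 := congrArg (fun f : F[X] => f.coeff (j₀ : ℕ)) h5
    beta_reduce at h6
    rw [Polynomial.finsetSum_coeff, Finset.sum_eq_single j₀, coeff_C_mul_X_pow, if_pos rfl,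
      coeff_zero] at h6
    · exact h6
    · intro j _ hne
      rw [coeff_C_mul_X_pow, if_neg]
      exact fun h => hne (Fin.ext h.symm)
    · intro h
      exact absurd (Finset.mem_univ _) h
  -- cardinality
  have hcard : Fintype.card (Σ i : κ, Fin (e i)) = Module.finrank F V := by
    have h1 := Cfsg.Agent.Helper67.sum_deg_eq_finrank φ (fun _ : κ => (X : F[X])) e
      (fun _ => monic_X) ⟨ψ⟩
    rw [← h1, Fintype.card_sigma]
    apply Finset.sum_congr rfl
    intro i _
    rw [Fintype.card_fin, natDegree_X, mul_one]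
  refine ⟨κ, inferInstance, e, basisOfLinearIndependentOfCardEqFinrank' g hli hcard,
    fun i => (hpe i).2.2, ?_⟩
  intro i j
  rw [coe_basisOfLinearIndependentOfCardEqFinrank']
  exact hφg i j

end Cfsg.Agent.Helper46.SPCJNF

namespace Cfsg.Agent.Helper46.SPCJNF

open Matrix Cfsg.Agent.Helper21.JCent Cfsg.Agent.Helper44.UC Cfsg.Agent.Helper44.SPC

/-- JNF: Jordan normal form of a unipotent matrix. -/
theorem spc_jnf {F : Type*} [Field F] {ι : Type*} [Fintype ι] [DecidableEq ι] (A : Matrix ι ι F)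
    (hA : IsNilpotent (A - 1)) :
    ∃ (t : ℕ) (d : Fin t → ℕ) (e : ((k : Fin t) × Fin (d k)) ≃ ι), (∀ k, 1 ≤ d k) ∧
      IsConj (Matrix.reindex e e (Cfsg.jordanTypeMatrix d F)) A := by
  classical
  obtain ⟨φ, hφdef⟩ : ∃ φ : Module.End F (ι → F), φ = Matrix.toLin' (A - 1) := ⟨_, rfl⟩
  have hpow : ∀ (M : Matrix ι ι F) (k : ℕ), (Matrix.toLin' M) ^ k = Matrix.toLin' (M ^ k) := by
    intro M k
    induction k with
    | zero => simp [Module.End.one_eq_id]
    | succ k ih => rw [pow_succ, pow_succ, ih, Matrix.toLin'_mul, Module.End.mul_eq_comp]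
  have hφ : IsNilpotent φ := by
    obtain ⟨n, hn⟩ := hA
    refine ⟨n, ?_⟩
    rw [hφdef, hpow, hn, map_zero]
  obtain ⟨κ, _, e0, b, he0, hb⟩ := nilp_jordan_basis φ hφ
  obtain ⟨σ⟩ : Nonempty (κ ≃ Fin (Fintype.card κ)) := ⟨Fintype.equivFin κ⟩
  obtain ⟨τ, hτ⟩ : ∃ τ : ((k : Fin (Fintype.card κ)) × Fin (e0 (σ.symm k))) ≃ ((i : κ) × Fin (e0 i)),
      ∀ k j, τ ⟨k, j⟩ = ⟨σ.symm k, j⟩ :=
    ⟨Equiv.sigmaCongrLeft (β := fun i => Fin (e0 i)) σ.symm, fun k j => rfl⟩
  obtain ⟨b', hb'def⟩ : ∃ b' : Module.Basis ((k : Fin (Fintype.card κ)) × Fin (e0 (σ.symm k))) F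
      (ι → F), b' = b.reindex τ.symm := ⟨_, rfl⟩
  have hb'app : ∀ k j, b' ⟨k, j⟩ = b ⟨σ.symm k, j⟩ := by
    intro k j
    rw [hb'def, Module.Basis.reindex_apply, Equiv.symm_symm, hτ]
  have hb' : ∀ (k : Fin (Fintype.card κ)) (j : Fin (e0 (σ.symm k))),
      φ (b' ⟨k, j⟩) = if h : (j : ℕ) + 1 < e0 (σ.symm k) then b' ⟨k, ⟨(j : ℕ) + 1, h⟩⟩ else 0 := by
    intro k j
    rw [hb'app, hb]
    split_ifs with h
    · rw [hb'app]
    · rfl
  have hcard : Fintype.card ((k : Fin (Fintype.card κ)) × Fin (e0 (σ.symm k))) = Fintype.card ι := by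
    rw [← Module.finrank_eq_card_basis b', Module.finrank_fintype_fun_eq_card]
  obtain ⟨e⟩ : Nonempty (((k : Fin (Fintype.card κ)) × Fin (e0 (σ.symm k))) ≃ ι) :=
    ⟨Fintype.equivOfCardEq hcard⟩
  refine ⟨Fintype.card κ, fun k => e0 (σ.symm k), e, fun k => he0 _, ?_⟩
  obtain ⟨bι, hbι⟩ : ∃ bι : Module.Basis ι F (ι → F), bι = b'.reindex e := ⟨_, rfl⟩
  have hbιapp : ∀ x, bι x = b' (e.symm x) := by
    intro x
    rw [hbι, Module.Basis.reindex_apply]
  obtain ⟨P, hP⟩ : ∃ P : Matrix ι ι F, P = (Pi.basisFun F ι).toMatrix ⇑bι := ⟨_, rfl⟩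
  have hPapp : ∀ i x, P i x = b' (e.symm x) i := by
    intro i x
    rw [hP, Module.Basis.toMatrix_apply, Pi.basisFun_repr, hbιapp]
  have hPunit : IsUnit P := by
    rw [hP]
    have := (Pi.basisFun F ι).invertibleToMatrix bι
    exact isUnit_of_invertible _
  obtain ⟨c, hc⟩ := hPunit
  refine ⟨c, ?_⟩
  show (c : Matrix ι ι F) * _ = A * (c : Matrix ι ι F)
  rw [hc]
  ext i x
  obtain ⟨⟨k, j⟩, hq⟩ : ∃ q, q = e.symm x := ⟨_, rfl⟩
  -- right-hand side
  have hR : (A * P) i x = b' ⟨k, j⟩ i + φ (b' ⟨k, j⟩) i := by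
    have h1 : (A * P) i x = (Matrix.toLin' A (b' ⟨k, j⟩)) i := by
      rw [Matrix.toLin'_apply, Matrix.mul_apply, Matrix.mulVec, dotProduct]
      apply Finset.sum_congr rfl
      intro y _
      rw [hPapp, ← hq]
    have h2 : Matrix.toLin' A = 1 + φ := by
      have h3 : A = 1 + (A - 1) := (add_sub_cancel 1 A).symm
      rw [hφdef]
      conv_lhs => rw [h3]
      rw [map_add, Matrix.toLin'_one]
      rfl
    rw [h1, h2, LinearMap.add_apply, Module.End.one_apply, Pi.add_apply]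
  -- left-hand side
  have hL : (P * Matrix.reindex e e (Cfsg.jordanTypeMatrix (fun k => e0 (σ.symm k)) F)) i x
      = b' ⟨k, j⟩ i + (if h : (j : ℕ) + 1 < e0 (σ.symm k) then b' ⟨k, ⟨(j : ℕ) + 1, h⟩⟩ else 0) i := by
    rw [Matrix.mul_apply]
    have h1 : ∑ y, P i y * Matrix.reindex e e (Cfsg.jordanTypeMatrix (fun k => e0 (σ.symm k)) F) y x
        = ∑ y, (fun p => b' p i * Cfsg.jordanTypeMatrix (fun k => e0 (σ.symm k)) F p ⟨k, j⟩)
            (e.symm y) := by
      apply Finset.sum_congr rfl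
      intro y _
      rw [hPapp, Matrix.reindex_apply, Matrix.submatrix_apply, ← hq]
    have h1b := Equiv.sum_comp e.symm
      (fun p => b' p i * Cfsg.jordanTypeMatrix (fun k => e0 (σ.symm k)) F p ⟨k, j⟩)
    rw [h1, h1b, jordan_eq]
    simp only [Matrix.add_apply, mul_add, Finset.sum_add_distrib]
    congr 1
    · rw [Finset.sum_eq_single (⟨k, j⟩ : (k : Fin (Fintype.card κ)) × Fin (e0 (σ.symm k)))]
      · rw [Matrix.one_apply_eq, mul_one]
      · intro p _ hne
        rw [Matrix.one_apply_ne hne, mul_zero]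
      · intro h
        exact absurd (Finset.mem_univ _) h
    · split_ifs with h
      · rw [Finset.sum_eq_single (⟨k, ⟨(j : ℕ) + 1, h⟩⟩ :
          (k : Fin (Fintype.card κ)) × Fin (e0 (σ.symm k)))]
        · simp [nilp]
        · rintro ⟨m1, m2⟩ - hne
          have : ¬ (m1 = k ∧ (m2 : ℕ) = (j : ℕ) + 1) := by
            rintro ⟨rfl, h2⟩
            exact hne (by congr 1; exact Fin.ext h2)
          simp [nilp, this]
        · intro h'
          exact absurd (Finset.mem_univ _) h'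
      · rw [Pi.zero_apply]
        apply Finset.sum_eq_zero
        rintro ⟨m1, m2⟩ -
        have : ¬ (m1 = k ∧ (m2 : ℕ) = (j : ℕ) + 1) := by
          rintro ⟨rfl, h2⟩
          exact h (h2 ▸ m2.2)
        simp [nilp, this]
  rw [hL, hR, hb']

end Cfsg.Agent.Helper46.SPCJNF
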