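import Mathlib
import Cfsg.Agent.Helper44.SPUDefs

/-!
# CALL S2316 piece PCOUNT (helper46, double)

Counting `p`-elements through a surjection with `p`-group kernel.
-/

set_option autoImplicit false
open Classical

namespace Cfsg.Agent.Helper46.SPUPCOUNT

open Matrix Cfsg.Agent.Helper44.SPU

variable {F : Type*} [Field F] [Fintype F] {m : ℕ}

/-- `g` is a `p`-element iff its image under a homomorphism with `p`-group kernel is. -/
theorem pelt_iff {G H : Type*} [Group G] [Group H] [Finite G] (π : G →* H)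
    (p : ℕ) [Fact p.Prime] (e : ℕ) (hker : Nat.card π.ker = p ^ e) (g : G) :
    (∃ j : ℕ, orderOf g = p ^ j) ↔ ∃ j : ℕ, orderOf (π g) = p ^ j := by
  have hp : p.Prime := Fact.out
  constructor
  · rintro ⟨j, hj⟩
    have hdvd : orderOf (π g) ∣ p ^ j := hj ▸ orderOf_map_dvd π g
    obtain ⟨i, _, hi⟩ := (Nat.dvd_prime_pow hp).1 hdvd
    exact ⟨i, hi⟩
  · rintro ⟨j, hj⟩
    have h1 : (π g) ^ (p ^ j) = 1 := hj ▸ pow_orderOf_eq_one (π g)
    have hmem : g ^ (p ^ j) ∈ π.ker := by
      rw [MonoidHom.mem_ker, map_pow, h1]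
    have h2 : (⟨g ^ (p ^ j), hmem⟩ : π.ker) ^ (p ^ e) = 1 := by
      rw [← hker]
      exact pow_card_eq_one'
    have h3 : (g ^ (p ^ j)) ^ (p ^ e) = 1 := by
      have := congrArg (Subtype.val) h2
      simpa using this
    have h4 : g ^ (p ^ (j + e)) = 1 := by
      rw [pow_add, pow_mul]
      exact h3
    have hdvd : orderOf g ∣ p ^ (j + e) := orderOf_dvd_of_pow_eq_one h4
    obtain ⟨i, _, hi⟩ := (Nat.dvd_prime_pow hp).1 hdvd
    exact ⟨i, hi⟩

theorem spu_pcount {G H : Type*} [Group G] [Group H] [Finite G] (π : G →* H)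
    (hπ : Function.Surjective π) (p : ℕ) [Fact p.Prime] (e : ℕ) (hker : Nat.card π.ker = p ^ e) :
    Nat.card {g : G // ∃ j : ℕ, orderOf g = p ^ j} =
      Nat.card π.ker * Nat.card {h : H // ∃ j : ℕ, orderOf h = p ^ j} := by
  rw [← Nat.card_prod]
  apply Nat.card_congr
  have hs : ∀ h : H, π (Function.surjInv hπ h) = h := Function.surjInv_eq hπ
  refine
    { toFun := fun g => (⟨g.1 * (Function.surjInv hπ (π g.1))⁻¹, ?_⟩,
        ⟨π g.1, (pelt_iff π p e hker g.1).1 g.2⟩)
      invFun := fun x => ⟨(x.1 : G) * Function.surjInv hπ x.2.1, ?_⟩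
      left_inv := ?_
      right_inv := ?_ }
  · rw [MonoidHom.mem_ker, map_mul, map_inv, hs, mul_inv_cancel]
  · apply (pelt_iff π p e hker _).2
    have : π ((x.1 : G) * Function.surjInv hπ x.2.1) = x.2.1 := by
      rw [map_mul, hs, MonoidHom.mem_ker.1 x.1.2, one_mul]
    rw [this]
    exact x.2.2
  · intro g
    apply Subtype.ext
    simp
  · rintro ⟨⟨k, hk⟩, ⟨h, hh⟩⟩
    have hk1 : π k = 1 := MonoidHom.mem_ker.1 hk
    apply Prod.ext
    · apply Subtype.ext
      simp [hs, hk1]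
    · apply Subtype.ext
      simp [hs, hk1]

end Cfsg.Agent.Helper46.SPUPCOUNT
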