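import Mathlib
import Cfsg.Prelude.Def_GeometricClasses
import Cfsg.Prelude.Def_Classical
import Cfsg.Agent.Helper97.THCLASSO

/-!
# CALL S5981 (helper98), piece EXISO: the diagonal `(t, t⁻¹, 1)` in a standard basis is an isometry
-/

set_option autoImplicit false
open Matrix Polynomial

namespace Cfsg.Agent.Helper46.THEXISO

variable {F : Type*} [Field F] [Fintype F]

/-- EXISO (level 2: uses CLASSO) -/
theorem exc_iso (h2 : (2 : F) ≠ 0) (k : ℕ) (Q : (Fin (2 * k + 1) → F) → F)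
    (hQ : Cfsg.Geo.IsNondegenerateQuadraticForm Q) (t : Fin k → F) (ht : ∀ i, t i ≠ 0) :
    ∃ (y h : GL (Fin (2 * k + 1)) F) (e : Fin k ⊕ (Fin k ⊕ Unit) ≃ Fin (2 * k + 1)),
      (∀ v, Q ((y : Matrix (Fin (2 * k + 1)) (Fin (2 * k + 1)) F) *ᵥ v) = Q v) ∧
      (y : Matrix (Fin (2 * k + 1)) (Fin (2 * k + 1)) F) =
        (h : Matrix (Fin (2 * k + 1)) (Fin (2 * k + 1)) F) *
          Matrix.diagonal (fun j => Sum.elim t (Sum.elim (fun i => (t i)⁻¹) (fun _ => 1)) (e.symm j)) *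
          ((h⁻¹ : GL (Fin (2 * k + 1)) F) : Matrix (Fin (2 * k + 1)) (Fin (2 * k + 1)) F) := by
  classical
  obtain ⟨P, c, e', hc, hP⟩ := Cfsg.Agent.Helper97.THCLASSO.class_odd h2 k Q hQ
  obtain ⟨rearr, hrearr⟩ : ∃ rearr : Unit ⊕ (Fin k ⊕ Fin k) ≃ Fin k ⊕ (Fin k ⊕ Unit),
      rearr = (Equiv.sumComm _ _).trans (Equiv.sumAssoc _ _ _) := ⟨_, rfl⟩
  obtain ⟨e, he⟩ : ∃ e : Fin k ⊕ (Fin k ⊕ Unit) ≃ Fin (2 * k + 1), e = (e'.trans rearr).symm :=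
    ⟨_, rfl⟩
  obtain ⟨d, hd⟩ : ∃ d : Fin (2 * k + 1) → F,
      d = fun j => Sum.elim t (Sum.elim (fun i => (t i)⁻¹) (fun _ => 1)) (e.symm j) := ⟨_, rfl⟩
  have hd0 : ∀ j, d j ≠ 0 := by
    intro j
    rw [hd]
    beta_reduce
    rcases e.symm j with i | i | u
    · exact ht i
    · exact inv_ne_zero (ht i)
    · exact one_ne_zero
  have hdetD : (Matrix.diagonal d).det ≠ 0 := by
    rw [Matrix.det_diagonal]
    exact Finset.prod_ne_zero_iff.2 (fun j _ => hd0 j)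
  obtain ⟨Dg, hDg⟩ : ∃ Dg : GL (Fin (2 * k + 1)) F,
      (Dg : Matrix (Fin (2 * k + 1)) (Fin (2 * k + 1)) F) = Matrix.diagonal d :=
    ⟨Matrix.GeneralLinearGroup.mkOfDetNeZero _ hdetD, rfl⟩
  have hyval : ((P * Dg * P⁻¹ : GL (Fin (2 * k + 1)) F) : Matrix (Fin (2 * k + 1)) (Fin (2 * k + 1)) F)
      = (P : Matrix (Fin (2 * k + 1)) (Fin (2 * k + 1)) F) * Matrix.diagonal d
        * ((P⁻¹ : GL (Fin (2 * k + 1)) F) : Matrix (Fin (2 * k + 1)) (Fin (2 * k + 1)) F) := by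
    rw [Units.val_mul, Units.val_mul, hDg]
  refine ⟨P * Dg * P⁻¹, P, e, ?_, ?_⟩
  · intro v
    obtain ⟨w, hw⟩ : ∃ w : Fin (2 * k + 1) → F,
        w = ((P⁻¹ : GL (Fin (2 * k + 1)) F) : Matrix (Fin (2 * k + 1)) (Fin (2 * k + 1)) F) *ᵥ v :=
      ⟨_, rfl⟩
    have hPP : (P : Matrix (Fin (2 * k + 1)) (Fin (2 * k + 1)) F)
        * ((P⁻¹ : GL (Fin (2 * k + 1)) F) : Matrix (Fin (2 * k + 1)) (Fin (2 * k + 1)) F) = 1 := by
      rw [← Units.val_mul, mul_inv_cancel, Units.val_one]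
    have hv : v = (P : Matrix (Fin (2 * k + 1)) (Fin (2 * k + 1)) F) *ᵥ w := by
      rw [hw, Matrix.mulVec_mulVec, hPP, Matrix.one_mulVec]
    have hyv : ((P * Dg * P⁻¹ : GL (Fin (2 * k + 1)) F) : Matrix (Fin (2 * k + 1)) (Fin (2 * k + 1)) F) *ᵥ v
        = (P : Matrix (Fin (2 * k + 1)) (Fin (2 * k + 1)) F) *ᵥ (Matrix.diagonal d *ᵥ w) := by
      rw [hyval, hw, Matrix.mulVec_mulVec, Matrix.mulVec_mulVec, Matrix.mul_assoc]
    -- coordinates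
    obtain ⟨w', hw'⟩ : ∃ w' : Unit ⊕ (Fin k ⊕ Fin k) → F, w' = w ∘ e'.symm := ⟨_, rfl⟩
    obtain ⟨w'', hw''⟩ : ∃ w'' : Unit ⊕ (Fin k ⊕ Fin k) → F,
        w'' = fun x => d (e'.symm x) * w' x := ⟨_, rfl⟩
    have h1 : w = w' ∘ e' := by
      rw [hw']
      funext j
      simp
    have h3 : Matrix.diagonal d *ᵥ w = w'' ∘ e' := by
      funext j
      rw [Matrix.mulVec_diagonal, hw'', hw']
      simp
    have hdx : ∀ x, d (e'.symm x) = Sum.elim t (Sum.elim (fun i => (t i)⁻¹) (fun _ => 1)) (rearr x) := by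
      intro x
      rw [hd, he]
      simp
    rw [hyv, h3, hP, hv, h1, hP]
    congr 1
    unfold Cfsg.quadFormOdd
    rw [hw'']
    beta_reduce
    rw [hdx, hrearr]
    congr 1
    · simp
    · apply Finset.sum_congr rfl
      intro i _
      rw [hdx, hdx, hrearr]
      simp only [Equiv.trans_apply, Equiv.sumComm_apply, Sum.swap_inr, Equiv.sumAssoc_apply_inl_inl,
        Equiv.sumAssoc_apply_inl_inr, Sum.elim_inl, Sum.elim_inr]
      have := ht i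
      field_simp
  · rw [hyval, hd]

end Cfsg.Agent.Helper46.THEXISO
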