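import Mathlib
import Cfsg.Agent.Helper87.U3Defs

set_option autoImplicit false

/-!
# Helper46: piece TR of CALL S2784 (`u3_trans`)

`SU_3(q)` is transitive on the nonzero isotropic vectors (in helper99's model).
-/

namespace Cfsg.Agent.Helper46

open Matrix
open Cfsg.Agent.Helper5 (frobQ frobQ_apply frobQ_frobQ)
open Cfsg.Agent.Helper99
open Cfsg.Agent.Helper87

variable {K : Type*} [Field K] [Fintype K] {q : ℕ}

/-- the case of a nonzero first coordinate -/
theorem u3tr_case1 (hK : Fintype.card K = q ^ 2) (p : ℕ) [Fact p.Prime] [CharP K p]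
    (v : Fin 3 → K) (hv0 : v 0 ≠ 0) (hv : suH hK 3 v v = 0) :
    ∃ g : ↥(suG hK 3), suAct g ![1, 0, 0] = v := by
  have hc0 : frobQ hK (v 0) ≠ 0 := su_frob_ne_zero hK hv0
  rw [su3H_eq] at hv
  have hV : Su3V hK (v 1 / v 0) (v 2 / v 0) := by
    unfold Su3V
    rw [map_div₀, map_div₀]
    field_simp
    linear_combination hv
  have hD : SuDH hK ![v 0, frobQ hK (v 0) / v 0, (frobQ hK (v 0))⁻¹] := by
    refine ⟨?_, ?_⟩
    · rw [Fin.prod_univ_three]
      show v 0 * (frobQ hK (v 0) / v 0) * (frobQ hK (v 0))⁻¹ = 1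
      field_simp
    · intro i
      fin_cases i
      · show v 0 * frobQ hK ((frobQ hK (v 0))⁻¹) = 1
        rw [map_inv₀, frobQ_frobQ]
        exact mul_inv_cancel₀ hv0
      · show frobQ hK (v 0) / v 0 * frobQ hK (frobQ hK (v 0) / v 0) = 1
        rw [map_div₀, frobQ_frobQ]
        field_simp
      · show (frobQ hK (v 0))⁻¹ * frobQ hK (v 0) = 1
        exact inv_mul_cancel₀ hc0
  refine ⟨su3Y hK (v 1 / v 0) (v 2 / v 0) *
    suD hK ![v 0, frobQ hK (v 0) / v 0, (frobQ hK (v 0))⁻¹], ?_⟩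
  rw [suAct_mul, su3_suD_vec hK hD, su3Y_vec hK p hV]
  conv_rhs => rw [su3_eta v]
  apply su3_vec_eq
  · show v 0 * 1 = v 0
    rw [mul_one]
  · show frobQ hK (v 0) / v 0 * 0 + v 1 / v 0 * (v 0 * 1) = v 1
    field_simp
    ring
  · show (frobQ hK (v 0))⁻¹ * 0 + v 2 / v 0 * (v 0 * 1)
      - frobQ hK (v 1 / v 0) * (frobQ hK (v 0) / v 0 * 0) = v 2
    rw [mul_zero, mul_zero, mul_zero, zero_add, sub_zero, mul_one]
    field_simp

/-- PIECE TR. -/
theorem u3_trans (hK : Fintype.card K = q ^ 2) (p : ℕ) [Fact p.Prime] [CharP K p]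
    (v : Fin 3 → K) (hv0 : v ≠ 0) (hv : suH hK 3 v v = 0) :
    ∃ g : ↥(suG hK 3), suAct g ![1, 0, 0] = v := by
  by_cases h0 : v 0 = 0
  · have hv' := hv
    rw [su3H_eq, h0, zero_mul, zero_add, map_zero, mul_zero, add_zero] at hv'
    have h1 : v 1 = 0 := by
      rcases mul_eq_zero.mp hv' with h | h
      · exact h
      · by_contra hne
        exact su_frob_ne_zero hK hne h
    have h2 : v 2 ≠ 0 := by
      intro h2
      apply hv0
      rw [su3_eta v, h0, h1, h2]
      funext i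
      fin_cases i <;> rfl
    obtain ⟨c0, hc0, hc⟩ := Cfsg.Agent.Helper13.ufld_exists_skew hK
    have hu : suH hK 3 ![-(c0 * v 2), 0, 0] ![-(c0 * v 2), 0, 0] = 0 := by
      rw [su3H_vec]
      simp
    obtain ⟨g', hg'⟩ := u3tr_case1 hK p ![-(c0 * v 2), 0, 0]
      (by
        show -(c0 * v 2) ≠ 0
        exact neg_ne_zero.mpr (mul_ne_zero hc0 h2)) hu
    refine ⟨suNL hK 0 c0 * g', ?_⟩
    rw [suAct_mul, hg']
    funext r
    rw [suNL_apply hK p (by decide) hc0 hc]
    fin_cases r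
    · show (if (0 : Fin 3) = 0 then c0 * (![-(c0 * v 2), 0, 0] : Fin 3 → K) (Fin.rev 0) else _) = v 0
      rw [if_pos rfl, h0]
      show c0 * 0 = 0
      rw [mul_zero]
    · show (if (1 : Fin 3) = 0 then _ else
        if (1 : Fin 3) = Fin.rev 0 then _ else (![-(c0 * v 2), 0, 0] : Fin 3 → K) 1) = v 1
      rw [if_neg (by decide), if_neg (by decide), h1]
      rfl
    · show (if (2 : Fin 3) = 0 then _ else
        if (2 : Fin 3) = Fin.rev 0 then -c0⁻¹ * (![-(c0 * v 2), 0, 0] : Fin 3 → K) 0 else _) = v 2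
      rw [if_neg (by decide), if_pos (by decide)]
      show -c0⁻¹ * -(c0 * v 2) = v 2
      field_simp
  · exact u3tr_case1 hK p v h0 hv

end Cfsg.Agent.Helper46
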