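import Mathlib
import Cfsg.Agent.Helper87.U3Defs
import Cfsg.Agent.Helper46.U3TR

set_option autoImplicit false

/-!
# Helper46: piece CL of CALL S2784 (`u3_class`)

All transvections `suEl hK v 0 c'` of `SU_3(q)` are conjugate to `su3X hK 0 c`.
-/

namespace Cfsg.Agent.Helper46

open Matrix
open Cfsg.Agent.Helper5 (frobQ frobQ_apply frobQ_frobQ)
open Cfsg.Agent.Helper99
open Cfsg.Agent.Helper87

variable {K : Type*} [Field K] [Fintype K] {q : ℕ}

/-- PIECE CL (uses TR). -/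
theorem u3_class (hK : Fintype.card K = q ^ 2) (p : ℕ) [Fact p.Prime] [CharP K p]
    (c c' : K) (hc0 : c ≠ 0) (hc : frobQ hK c = -c) (hc0' : c' ≠ 0) (hc' : frobQ hK c' = -c')
    (v : Fin 3 → K) (hv0 : v ≠ 0) (hv : suH hK 3 v v = 0) :
    ∃ g : ↥(suG hK 3), g * su3X hK 0 c * g⁻¹ = suEl hK v 0 c' := by
  have hfix : frobQ hK (c' / c) = c' / c := by
    rw [map_div₀, hc, hc', neg_div_neg_eq]
  obtain ⟨ν, hν0, hν⟩ := Cfsg.Agent.Helper13.ufld_exists_norm hK (div_ne_zero hc0' hc0) hfix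
  have hνv0 : ν • v ≠ 0 := smul_ne_zero hν0 hv0
  have hνv : suH hK 3 (ν • v) (ν • v) = 0 := by
    rw [suH_smul_left, suH_smul_right, hv, mul_zero, mul_zero]
  obtain ⟨g, hg⟩ := u3_trans hK p (ν • v) hνv0 hνv
  have hE0 : SuHE hK (![1, 0, 0] : Fin 3 → K) 0 c := by
    refine ⟨?_, suH_zero_left hK _, ?_⟩
    · rw [su3H_vec]
      simp
    · rw [suH_zero_left, add_zero, hc, add_neg_cancel]
  have hX : su3X hK 0 c = suEl hK (![1, 0, 0] : Fin 3 → K) 0 c := by
    unfold su3X suM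
    rw [su3_e0, Pi.single_zero]
  have hE1 : SuHE hK (ν • v) (0 : Fin 3 → K) c := by
    refine ⟨hνv, suH_zero_left hK _, ?_⟩
    rw [suH_zero_left, add_zero, hc, add_neg_cancel]
  have hcc : ν * frobQ hK ν * c = c' := by
    rw [hν]
    field_simp
  have hE2 : SuHE hK v (frobQ hK ν • (0 : Fin 3 → K)) (ν * frobQ hK ν * c) := by
    rw [smul_zero, hcc]
    refine ⟨hv, suH_zero_left hK _, ?_⟩
    rw [suH_zero_left, add_zero, hc', add_neg_cancel]
  refine ⟨g, ?_⟩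
  rw [hX, suEl_conj hK p g hE0, hg, suAct_zero, suEl_smul hK p ν hE1 hE2, smul_zero, hcc]

end Cfsg.Agent.Helper46
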